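import Mathlib.RingTheory.KrullDimension.Module
import Mathlib.RingTheory.Length
import Mathlib.RingTheory.Artinian.Ring
import Mathlib.RingTheory.HopkinsLevitzki
import Mathlib.RingTheory.Ideal.KrullsHeightTheorem

/-!
# Finite length from the dimension of the support
-/

universe u v

namespace GrothLib.FiniteLengthSupp

variable {R : Type u} [CommRing R] [IsNoetherianRing R] {M : Type v} [AddCommGroup M] [Module R M] [Module.Finite R M]

/-- A finite module with support of dimension `≤ 0` over a Noetherian ring has finite length. -/
theorem length_lt_top (h : Module.supportDim R M ≤ 0) : Module.length R M < ⊤ := by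
  have hann : ringKrullDim (R ⧸ Module.annihilator R M) ≤ (0 : ℕ) := by
    rwa [← Module.supportDim_eq_ringKrullDim_quotient_annihilator, Nat.cast_zero]
  have : Ring.KrullDimLE 0 (R ⧸ Module.annihilator R M) := Ring.krullDimLE_iff.mpr hann
  have : IsArtinianRing (R ⧸ Module.annihilator R M) := isArtinianRing_iff_krullDimLE_zero.mpr this
  let : Module (R ⧸ Module.annihilator R M) M :=
    (Module.isTorsionBySet_annihilator R M).module
  have : IsScalarTower R (R ⧸ Module.annihilator R M) M :=
    (Module.isTorsionBySet_annihilator R M).isScalarTower
  have : Module.Finite (R ⧸ Module.annihilator R M) M := Module.Finite.of_restrictScalars_finite R _ _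
  have : IsArtinian R M :=
    isArtinian_of_surjective_algebraMap (R := R ⧸ Module.annihilator R M) Ideal.Quotient.mk_surjective
  exact lt_of_le_of_ne le_top Module.length_ne_top

/-- A finite module killed by the annihilator of `N` inherits finite length. -/
theorem length_lt_top_of_support_subset {N : Type*} [AddCommGroup N] [Module R N]
    (hsub : Module.support R M ⊆ Module.support R N) (h : Module.supportDim R N ≤ 0) :
    Module.length R M < ⊤ :=
  length_lt_top (le_trans (Order.krullDim_le_of_strictMono (fun a : Module.support R M => (⟨a.1, hsub a.2⟩ : Module.support R N))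
    fun {_ _} h => h) h)

end GrothLib.FiniteLengthSupp
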