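import Groth.Agent.Lib.KoszulColon.Regular
import Mathlib.LinearAlgebra.TensorProduct.Quotient

/-!
# Weakly regular sequences are Koszul regular (in the given order), and the zeroth cohomology
-/

universe u

open CategoryTheory Limits CochainComplex RingTheory.Sequence

namespace GrothLib.KoszulFwd

open GrothLib.KoszulColon
open scoped TensorProduct

theorem exact_of_isWeaklyRegular : ∀ (n : ℕ) (A : Type u) [CommRing A] (vs : List A),
    vs.length = n → IsWeaklyRegular A vs →
    ∀ i j k : ℤ, i + 1 = j → j + 1 = k → j ≠ 0 → ∀ x : (kc (LinearMap.id : Module.Dual A A) vs).X j,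
      ((kc LinearMap.id vs).d j k).hom x = 0 →
        ∃ y, ((kc LinearMap.id vs).d i j).hom y = x
  | 0, A, _, vs, hlen, _, i, j, k, _, _, hj, x, _ => by
    obtain rfl := List.length_eq_zero_iff.1 hlen
    haveI := ModuleCat.subsingleton_of_isZero (isZero_nil (LinearMap.id : Module.Dual A A) hj)
    exact ⟨0, Subsingleton.elim _ _⟩
  | n + 1, A, _, [], hlen, _, i, j, k, _, _, _, x, _ => by simp at hlen
  | n + 1, A, _, f :: vs, hlen, hreg, i, j, k, hij, hjk, hj, x, hx => by
    classical
    let γ : Module.Dual A A := LinearMap.id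
    obtain ⟨hf, hrest⟩ := (isWeaklyRegular_cons_iff _ _ _).1 hreg
    let B := A ⧸ Ideal.span {f}
    have hB : IsWeaklyRegular B (vs.map (algebraMap A B)) := by
      rw [isWeaklyRegular_map_algebraMap_iff]
      refine ((LinearEquiv.isWeaklyRegular_congr (Submodule.quotEquivOfEq _ _ ?_) vs).1 hrest)
      rw [← Submodule.ideal_span_singleton_smul, smul_eq_mul, Ideal.mul_top]
    have hkb : ∀ i : ℤ, i ≠ 0 → (Koszul.koszul B (vs.map (algebraMap A B))).ExactAt i := by
      intro i hi
      rw [HomologicalComplex.exactAt_iff' _ (i - 1) i (i + 1) (by simp) (by simp),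
        ShortComplex.moduleCat_exact_iff]
      have hl : (vs.map (algebraMap A B)).map (LinearMap.id : Module.Dual B B) =
          vs.map (algebraMap A B) := by simp
      have := exact_of_isWeaklyRegular n B (vs.map (algebraMap A B))
        (by simpa using hlen) hB
      rw [show kc (LinearMap.id : Module.Dual B B) (vs.map (algebraMap A B)) =
        Koszul.koszul B (vs.map (algebraMap A B)) from congrArg _ hl] at this
      exact fun x hx => this (i - 1) i (i + 1) (by omega) rfl hi x hx
    have hmodex : ∀ (p q r : ℤ), p + 1 = q → q + 1 = r → q ≠ 0 →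
        ∀ b : (kc γ vs).X q, (∃ a, ((kc γ vs).d q r).hom b = f • a) →
          ∃ c e, b = ((kc γ vs).d p q).hom c + f • e := by
      intro p q r hpq hqr hq b hb
      have hl : vs.map γ = vs := by simp [γ]
      have hex := exact_lTensor_of_koszul B (algebraMap A B) (fun _ => rfl) vs q (hkb q hq)
      rw [show Koszul.koszul A vs = kc γ vs from (congrArg _ hl).symm] at hex
      obtain rfl : p = q - 1 := by omega
      obtain rfl : r = q + 1 := by omega
      obtain ⟨a, ha⟩ := hb
      have h0 : ((kc γ vs).d q (q + 1)).hom.lTensor B ((1 : B) ⊗ₜ b) = 0 := by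
        rw [LinearMap.lTensor_tmul, ha, ← TensorProduct.smul_tmul,
          Algebra.smul_def, mul_one, show algebraMap A B f = 0 from
            Ideal.Quotient.eq_zero_iff_mem.2 (Ideal.mem_span_singleton_self f),
          TensorProduct.zero_tmul]
      obtain ⟨c, hc⟩ := (hex _).1 h0
      obtain ⟨c, rfl⟩ := TensorProduct.mk_surjective A ((kc γ vs).X (q - 1)) B
        Ideal.Quotient.mk_surjective c
      rw [TensorProduct.mk_apply, LinearMap.lTensor_tmul] at hc
      have h1 : (1 : B) ⊗ₜ[A] (b - ((kc γ vs).d (q - 1) q).hom c) = 0 := by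
        rw [TensorProduct.tmul_sub, ← hc, sub_self]
      have h2 := congrArg (TensorProduct.quotTensorEquivQuotSMul ((kc γ vs).X q) (Ideal.span {f})) h1
      rw [map_zero, show (1 : B) = Ideal.Quotient.mk (Ideal.span {f}) 1 from rfl,
        TensorProduct.quotTensorEquivQuotSMul_mk_tmul, one_smul, Submodule.Quotient.mk_eq_zero,
        Submodule.ideal_span_singleton_smul, Submodule.mem_smul_pointwise_iff_exists] at h2
      obtain ⟨e, -, he⟩ := h2
      exact ⟨c, e, by rw [he]; abel⟩
    have hnzd : ∀ (q : ℤ) (a : (kc γ vs).X q), f • a = 0 → a = 0 := by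
      intro q a ha
      haveI := free_kc γ vs q
      let bs := Module.Free.chooseBasis A ((kc γ vs).X q)
      refine bs.repr.injective (Finsupp.ext fun t => ?_)
      have := congrArg (fun z => bs.repr z t) ha
      simp only [map_smul, Finsupp.smul_apply, map_zero, Finsupp.zero_apply] at this
      rw [map_zero, Finsupp.zero_apply]
      exact hf (by simpa using this)
    by_cases hpos : 0 < j
    · exact ⟨0, by rw [map_zero, eq_zero_out γ (f :: vs) j (Or.inl hpos) x]⟩
    set a := (pr₁ γ f vs j k hjk).hom x with ha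
    set b := (pr₂ γ f vs j).hom x with hb
    have h2 : f • a + ((kc γ vs).d j k).hom b = 0 := by
      have := pr₂_d γ f vs j k hjk x
      rw [hx, map_zero] at this
      exact this.symm
    obtain ⟨c, e, hce⟩ := hmodex i j k hij hjk hj b
      ⟨-a, by rw [smul_neg]; exact eq_neg_of_add_eq_zero_right h2⟩
    have h3 : a = -((kc γ vs).d j k).hom e := by
      refine eq_neg_of_add_eq_zero_left (hnzd k _ ?_)
      have hdd : ((kc γ vs).d j k).hom (((kc γ vs).d i j).hom c) = 0 :=
        congrArg (fun g => g.hom c) ((kc γ vs).d_comp_d i j k)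
      rw [hce, map_add, hdd, zero_add, map_smul] at h2
      rw [smul_add]
      exact h2
    refine ⟨(in₁ γ f vs i j hij).hom e + (in₂ γ f vs i).hom c, ?_⟩
    rw [map_add, d_in₁ γ f vs i j k hij hjk, d_in₂, pr_decomp γ f vs j k hjk x, ← ha, ← hb, h3, hce,
      map_add, map_neg, show γ f = f from rfl]
    abel

/-- A weakly regular sequence is Koszul regular. -/
theorem isKoszulRegularSeq_of_isWeaklyRegular {A : Type u} [CommRing A] (l : List A)
    (h : IsWeaklyRegular A l) : LCI.IsKoszulRegularSeq A l := by
  intro i hi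
  rw [← HomologicalComplex.exactAt_iff_isZero_homology,
    HomologicalComplex.exactAt_iff' _ (i - 1) i (i + 1) (by simp) (by simp),
    ShortComplex.moduleCat_exact_iff]
  have hl : l.map (LinearMap.id : Module.Dual A A) = l := by simp
  have := exact_of_isWeaklyRegular l.length A l rfl h
  rw [show kc (LinearMap.id : Module.Dual A A) l = Koszul.koszul A l from congrArg _ hl] at this
  exact fun x hx => this (i - 1) i (i + 1) (by omega) rfl hi x hx

/-- The zeroth cohomology of the Koszul complex. -/
theorem nonempty_homology_zero_iso {Q : Type u} [CommRing Q] {M : Type u} [AddCommGroup M]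
    [Module Q M] (γ : Module.Dual Q M) (vs : List M) :
    Nonempty ((kc γ vs).homology 0 ≅ ModuleCat.of Q (Q ⧸ Ideal.ofList (vs.map γ))) := by
  let S := (kc γ vs).sc' (-1) 0 1
  have hker : ∀ x : S.X₂, S.g.hom x = 0 := fun x => eq_zero_out γ vs 1 (Or.inl one_pos) _
  let π : Q →ₗ[Q] (LinearMap.ker S.g.hom ⧸ LinearMap.range S.moduleCatToCycles) :=
    (Submodule.mkQ _).comp (LinearMap.codRestrict _ (LinearMap.toSpanSingleton Q _ (unit γ vs))
      (fun r => hker _))
  have hsurj : Function.Surjective π := by
    intro z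
    obtain ⟨⟨x, hx⟩, rfl⟩ := Submodule.Quotient.mk_surjective _ z
    obtain ⟨r, rfl⟩ := exists_smul_unit γ vs x
    exact ⟨r, rfl⟩
  have hkerπ : LinearMap.ker π = Ideal.ofList (vs.map γ) := by
    refine le_antisymm (fun r hr => ?_) (fun r hr => ?_)
    · obtain ⟨y, hy⟩ := (Submodule.Quotient.mk_eq_zero _).1 hr
      have hy' : ((kc γ vs).d (-1) 0).hom y = r • unit γ vs := congrArg Subtype.val hy
      have h3 := map_mem_smul_top (((ExteriorAlgebra.algebraMapInv (R := Q) (M := M)).toLinearMap).comp
        (phi γ vs 0)) (d_mem γ vs (-1) 0 (by omega) y)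
      rw [hy'] at h3
      simp only [map_smul, LinearMap.comp_apply, phi_unit, AlgHom.toLinearMap_apply, map_one,
        smul_eq_mul, mul_one, Ideal.mul_top] at h3
      exact h3
    · obtain ⟨y, hy⟩ := smul_unit_mem_range γ vs r hr
      exact (Submodule.Quotient.mk_eq_zero _).2 ⟨y, Subtype.ext hy⟩
  let e := (Submodule.quotEquivOfEq _ _ hkerπ.symm).trans (π.quotKerEquivOfSurjective hsurj)
  exact ⟨(kc γ vs).homologyIsoSc' (-1) 0 1 (by simp) (by simp) ≪≫ S.moduleCatHomologyIso ≪≫
    e.toModuleIso.symm⟩

end GrothLib.KoszulFwd
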