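import Groth.Agent.Lib.KoszulH1
import Mathlib.RingTheory.LocalRing.ResidueField.Basic
import Mathlib.LinearAlgebra.Matrix.Rank
import Mathlib.RingTheory.Ideal.Quotient.Operations

/-!
# Ideals generated by regular sequences in local rings
-/

open RingTheory.Sequence IsLocalRing

universe u

namespace GrothLib.RegularIdeal

variable {A : Type u} [CommRing A] [IsLocalRing A]

lemma isRegular_of_le {rs : List A} (h : IsWeaklyRegular A rs) (hle : Ideal.ofList rs ≤ maximalIdeal A) :
    IsRegular A rs := by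
  refine ⟨h, fun htop => ?_⟩
  rw [smul_eq_mul, Ideal.mul_top] at htop
  exact (maximalIdeal.isMaximal A).ne_top (top_le_iff.mp (htop ▸ hle))

lemma le_maximalIdeal_of_isRegular {rs : List A} (h : IsRegular A rs) : Ideal.ofList rs ≤ maximalIdeal A := by
  refine le_maximalIdeal fun e => h.top_ne_smul ?_
  rw [e, Submodule.top_smul]

omit [IsLocalRing A] in
/-- Regularity on a quotient ring, over the ring. -/
lemma isWeaklyRegular_map_mk {I : Ideal A} (rs : List A) :
    IsWeaklyRegular (A ⧸ I) (rs.map (Ideal.Quotient.mk I)) ↔ IsWeaklyRegular (A ⧸ I) rs := by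
  rw [← Ideal.Quotient.algebraMap_eq]
  exact isWeaklyRegular_map_algebraMap_iff (A ⧸ I) (A ⧸ I) rs

omit [IsLocalRing A] in
lemma isWeaklyRegular_append {J : Ideal A} (rs₁ rs₂ : List A) (hJ : Ideal.ofList rs₁ = J) :
    IsWeaklyRegular A (rs₁ ++ rs₂) ↔
      IsWeaklyRegular A rs₁ ∧ IsWeaklyRegular (A ⧸ J) (rs₂.map (Ideal.Quotient.mk J)) := by
  rw [isWeaklyRegular_append_iff, isWeaklyRegular_map_mk]
  refine and_congr_right fun _ => LinearEquiv.isWeaklyRegular_congr ?_ rs₂
  exact Submodule.quotEquivOfEq _ _ (by rw [smul_eq_mul, Ideal.mul_top, hJ])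

omit [IsLocalRing A] in
lemma exists_lift {I : Ideal A} (rs : List (A ⧸ I)) : ∃ rs' : List A, rs'.map (Ideal.Quotient.mk I) = rs := by
  choose g hg using Ideal.Quotient.mk_surjective (I := I)
  exact ⟨rs.map g, by simp [List.map_map, Function.comp_def, hg]⟩

omit [IsLocalRing A] in
lemma eq_sup_of_map_eq {I K : Ideal A} (h : I ≤ K) {rs : List A}
    (hrs : Ideal.ofList (rs.map (Ideal.Quotient.mk I)) = K.map (Ideal.Quotient.mk I)) :
    I ⊔ Ideal.ofList rs = K := by
  rw [← Ideal.map_ofList] at hrs
  have := congrArg (Ideal.comap (Ideal.Quotient.mk I)) hrs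
  rw [Ideal.comap_map_of_surjective _ Ideal.Quotient.mk_surjective,
    Ideal.comap_map_of_surjective _ Ideal.Quotient.mk_surjective, ← RingHom.ker_eq_comap_bot, Ideal.mk_ker,
    sup_eq_left.mpr h] at this
  rw [sup_comm, this]

/-- A family with no unit in a relation is not longer than any generating family. -/
lemma card_le {N n : ℕ} (w : Fin N → A) (a : Fin n → A)
    (hspan : Ideal.span (Set.range w) = Ideal.span (Set.range a))
    (hrel : ∀ c : Fin N → A, ∑ i, c i * w i = 0 → ∀ i, c i ∈ maximalIdeal A) : N ≤ n := by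
  choose U hU using fun i => Ideal.mem_span_range_iff_exists_fun.mp
    (show w i ∈ Ideal.span (Set.range a) by rw [← hspan]; exact Ideal.subset_span ⟨i, rfl⟩)
  choose V hV using fun i => Ideal.mem_span_range_iff_exists_fun.mp
    (show a i ∈ Ideal.span (Set.range w) by rw [hspan]; exact Ideal.subset_span ⟨i, rfl⟩)
  let Um : Matrix (Fin N) (Fin n) A := Matrix.of U
  let Vm : Matrix (Fin n) (Fin N) A := Matrix.of V
  have hz : (Um * Vm - 1).mulVec w = 0 := by
    rw [Matrix.sub_mulVec, ← Matrix.mulVec_mulVec, show Vm.mulVec w = a from funext fun i => hV i,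
      show Um.mulVec a = w from funext fun i => hU i, Matrix.one_mulVec, sub_self]
  have hmap : Um.map (residue A) * Vm.map (residue A) = 1 := by
    rw [← Matrix.map_mul]
    ext i j
    have h2 := (residue_eq_zero_iff _).mpr (hrel (fun l => (Um * Vm - 1 : Matrix (Fin N) (Fin N) A) i l)
      (by simpa [Matrix.mulVec, dotProduct] using congrFun hz i) j)
    rw [Matrix.sub_apply, map_sub, sub_eq_zero] at h2
    rw [Matrix.map_apply, h2]
    simp [Matrix.one_apply, apply_ite (residue A)]
  have h1 := Matrix.rank_mul_le_left (Um.map (residue A)) (Vm.map (residue A))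
  rw [hmap, Matrix.rank_one, Fintype.card_fin] at h1
  exact h1.trans (by simpa using Matrix.rank_le_card_width (Um.map (residue A)))

omit [IsLocalRing A] in
lemma mem_of_rel {n : ℕ} (a : Fin n → A) (ha : IsWeaklyRegular A (List.ofFn a)) (c : Fin n → A)
    (hc : ∑ i, c i * a i = 0) (i : Fin n) : c i ∈ Ideal.span (Set.range a) := by
  have h : c ∈ GrothLib.KoszulH1.triv a A := GrothLib.KoszulH1.mem_triv_of_isWeaklyRegular a ha c (by
    rw [← hc]; exact Finset.sum_congr rfl fun j _ => mul_comm _ _)
  have hsub : GrothLib.KoszulH1.triv a A ≤ Submodule.pi Set.univ fun _ => Ideal.span (Set.range a) := by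
    refine Submodule.span_le.mpr ?_
    rintro _ ⟨p, q, x, rfl⟩ l -
    simp only [Pi.sub_apply, Pi.smul_apply, smul_eq_mul]
    exact sub_mem (Ideal.mul_mem_right _ _ (Ideal.subset_span ⟨q, rfl⟩))
      (Ideal.mul_mem_right _ _ (Ideal.subset_span ⟨p, rfl⟩))
  exact hsub h i trivial

end GrothLib.RegularIdeal
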