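import Mathlib.RingTheory.Ideal.KrullsHeightTheorem
import Mathlib.RingTheory.Ideal.MinimalPrime.Noetherian

/-!
# Arithmetic rank is bounded by the dimension
-/

universe u

namespace GrothLib.AraDim

variable {R : Type u} [CommRing R] [IsNoetherianRing R]

/-- There are `k` elements of `I` such that every prime containing them but not `I` has height
at least `k`. -/
theorem exists_elements (I : Ideal R) : ∀ k : ℕ, ∃ f : Fin k → R, (∀ i, f i ∈ I) ∧
    ∀ p : Ideal R, p.IsPrime → Ideal.span (Set.range f) ≤ p → ¬ I ≤ p → (k : ℕ∞) ≤ p.height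
  | 0 => ⟨Fin.elim0, fun i => i.elim0, fun p _ _ _ => by simp⟩
  | k + 1 => by
    obtain ⟨f, hf, hh⟩ := exists_elements I k
    let J := Ideal.span (Set.range f)
    let S : Set (Ideal R) := {p ∈ J.minimalPrimes | ¬ I ≤ p}
    have hS : S.Finite := (J.finite_minimalPrimes_of_isNoetherianRing R).subset fun p hp => hp.1
    obtain ⟨g, hgI, hg⟩ : ∃ g ∈ I, ∀ p ∈ S, g ∉ p := by
      by_contra hc
      simp only [not_exists, not_and, not_forall, not_not] at hc
      have : (I : Set R) ⊆ ⋃ p ∈ (↑hS.toFinset : Set (Ideal R)), (id p : Ideal R) := by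
        intro x hx
        obtain ⟨p, hp, hxp⟩ := hc x hx
        exact Set.mem_biUnion (by simpa using hp) hxp
      obtain ⟨p, hp, hle⟩ := (Ideal.subset_union_prime (f := (id : Ideal R → Ideal R)) ⊥ ⊥
        (fun p hp _ _ => ((hS.mem_toFinset.1 hp).1).isPrime)).1 this
      exact (hS.mem_toFinset.1 hp).2 hle
    refine ⟨Fin.snoc f g, fun i => ?_, fun p hp hle hI => ?_⟩
    · induction i using Fin.lastCases with
      | last => simpa using hgI
      | cast i => simpa using hf i
    · have hJp : J ≤ p := le_trans (Ideal.span_mono (by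
        rintro _ ⟨i, rfl⟩; exact ⟨i.castSucc, by simp⟩)) hle
      obtain ⟨q, hq, hqp⟩ := Ideal.exists_minimalPrimes_le hJp
      haveI := hq.isPrime
      have hqI : ¬ I ≤ q := fun h => hI (h.trans hqp)
      have hgp : g ∈ p := hle (Ideal.subset_span ⟨Fin.last k, by simp⟩)
      have hlt : q < p := lt_of_le_of_ne hqp fun h => hg q ⟨hq, hqI⟩ (h ▸ hgp)
      calc ((k + 1 : ℕ) : ℕ∞) = (k : ℕ∞) + 1 := by simp
        _ ≤ q.height + 1 := add_le_add (hh q hq.isPrime hq.le hqI) le_rfl
        _ ≤ p.height := Ideal.height_add_one_le_of_lt_of_isPrime hlt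

omit [IsNoetherianRing R] in
theorem radical_eq {k : ℕ} {I : Ideal R} {f : Fin k → R} (hf : ∀ i, f i ∈ I)
    (h : ∀ p : Ideal R, p.IsPrime → Ideal.span (Set.range f) ≤ p → I ≤ p) :
    I.radical = (Ideal.span (Set.range f)).radical := by
  refine le_antisymm (Ideal.radical_le_radical_iff.2 ?_)
    (Ideal.radical_mono (Ideal.span_le.2 (by rintro _ ⟨i, rfl⟩; exact hf i)))
  rw [Ideal.radical_eq_sInf]
  exact le_sInf fun p hp => h p hp.2 hp.1

end GrothLib.AraDim
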