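import Mathlib.RingTheory.Regular.RegularSequence
import Mathlib.RingTheory.Noetherian.Basic
import Mathlib.RingTheory.AdicCompletion.Basic
import Mathlib.RingTheory.Nakayama

/-!
# Vanishing of the first Koszul homology and weakly regular sequences
-/

open RingTheory.Sequence

universe u v

namespace GrothLib.KoszulH1

variable {A : Type u} [CommRing A] {M : Type v} [AddCommGroup M] [Module A M] {n : ℕ}

/-- The trivial relations. -/
abbrev triv (f : Fin n → A) (M : Type v) [AddCommGroup M] [Module A M] : Submodule A (Fin n → M) :=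
  Submodule.span A {v : Fin n → M | ∃ (i j : Fin n) (x : M),
    v = f j • (Pi.single i x : Fin n → M) - f i • (Pi.single j x : Fin n → M)}

/-- The linear map attached to a tuple. -/
noncomputable def dot (f : Fin n → A) : (Fin n → M) →ₗ[A] M := ∑ i, f i • LinearMap.proj i

@[simp] lemma dot_apply (f : Fin n → A) (m : Fin n → M) : dot f m = ∑ i, f i • m i := by
  simp [dot]

lemma range_dot (f : Fin n → A) :
    LinearMap.range (dot f : (Fin n → M) →ₗ[A] M) = Ideal.span (Set.range f) • ⊤ := by
  refine le_antisymm ?_ (Submodule.smul_le.mpr fun r hr m _ => ?_)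
  · rintro _ ⟨m, rfl⟩
    rw [dot_apply]
    exact Submodule.sum_mem _ fun i _ =>
      Submodule.smul_mem_smul (Ideal.subset_span ⟨i, rfl⟩) Submodule.mem_top
  · induction hr using Submodule.span_induction with
    | mem x hx =>
      obtain ⟨i, rfl⟩ := hx
      exact ⟨Pi.single i m, by simp [Pi.single_apply]⟩
    | zero => rw [zero_smul]; exact Submodule.zero_mem _
    | add _ _ _ _ h h' => rw [add_smul]; exact Submodule.add_mem _ h h'
    | smul c _ _ h => rw [smul_eq_mul, mul_smul]; exact Submodule.smul_mem _ c h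

lemma ofList_ofFn (f : Fin n → A) : Ideal.ofList (List.ofFn f) = Ideal.span (Set.range f) := by
  rw [Ideal.ofList]
  congr 1
  ext
  simp [List.mem_ofFn]

lemma ofFn_snoc (f : Fin (n + 1) → A) :
    List.ofFn f = List.ofFn (f ∘ Fin.castSucc) ++ [f (Fin.last n)] := by
  rw [List.ofFn_succ', List.concat_eq_append]
  rfl

lemma triv_le_ker (f : Fin n → A) : triv f M ≤ LinearMap.ker (dot f) := by
  refine Submodule.span_le.mpr ?_
  rintro _ ⟨i, j, x, rfl⟩
  rw [SetLike.mem_coe, LinearMap.mem_ker, map_sub, map_smul, map_smul, dot_apply, dot_apply]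
  simp [Pi.single_apply, smul_smul, mul_comm]

lemma isWeaklyRegular_snoc_iff (f : Fin (n + 1) → A) :
    IsWeaklyRegular M (List.ofFn f) ↔ IsWeaklyRegular M (List.ofFn (f ∘ Fin.castSucc)) ∧
      ∀ m : M, f (Fin.last n) • m ∈ Ideal.span (Set.range (f ∘ Fin.castSucc)) • (⊤ : Submodule A M) →
        m ∈ Ideal.span (Set.range (f ∘ Fin.castSucc)) • (⊤ : Submodule A M) := by
  rw [ofFn_snoc, isWeaklyRegular_append_iff, isWeaklyRegular_singleton_iff, ofList_ofFn,
    isSMulRegular_quotient_iff_mem_of_smul_mem]

/-- Extension of a tuple by zero. -/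
noncomputable def ext0 : (Fin n → M) →ₗ[A] (Fin (n + 1) → M) where
  toFun m := Fin.snoc m 0
  map_add' m m' := funext (Fin.lastCases (by simp) fun j => by simp)
  map_smul' c m := funext (Fin.lastCases (by simp) fun j => by simp)

lemma ext0_single (i : Fin n) (x : M) :
    ext0 (A := A) (Pi.single i x) = Pi.single i.castSucc x := by
  refine funext (Fin.lastCases ?_ fun j => ?_)
  · simp [ext0, Fin.castSucc_ne_last]
  · simp [ext0, Pi.single_apply]

lemma map_ext0_triv (f : Fin (n + 1) → A) :
    (triv (f ∘ Fin.castSucc) M).map ext0 ≤ triv f M := by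
  rw [Submodule.map_span_le]
  rintro _ ⟨i, j, x, rfl⟩
  refine Submodule.subset_span ⟨i.castSucc, j.castSucc, x, ?_⟩
  rw [map_sub, map_smul, map_smul, ext0_single, ext0_single]
  rfl

/-- Weakly regular sequences have vanishing first Koszul homology. -/
theorem mem_triv_of_isWeaklyRegular : ∀ {n : ℕ} (f : Fin n → A), IsWeaklyRegular M (List.ofFn f) →
    ∀ m : Fin n → M, ∑ i, f i • m i = 0 → m ∈ triv f M := by
  intro n
  induction n with
  | zero => intro f _ m _; rw [Subsingleton.elim m 0]; exact Submodule.zero_mem _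
  | succ n ih =>
    intro f hf m hm
    obtain ⟨hg, hlast⟩ := (isWeaklyRegular_snoc_iff f).mp hf
    rw [Fin.sum_univ_castSucc] at hm
    obtain ⟨y, hy⟩ : m (Fin.last n) ∈ LinearMap.range (dot (f ∘ Fin.castSucc)) := by
      rw [range_dot]
      refine hlast _ ?_
      rw [← range_dot]
      refine ⟨-(m ∘ Fin.castSucc), ?_⟩
      rw [map_neg, dot_apply]
      simp only [Function.comp_apply]
      rw [neg_eq_iff_add_eq_zero]
      exact hm
    rw [dot_apply] at hy
    simp only [Function.comp_apply] at hy
    have hm' : (fun i => m i.castSucc + f (Fin.last n) • y i) ∈ triv (f ∘ Fin.castSucc) M := by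
      refine ih _ hg _ ?_
      simp only [Function.comp_apply, smul_add, Finset.sum_add_distrib]
      rw [Finset.sum_congr rfl fun i _ => smul_comm (f i.castSucc) (f (Fin.last n)) (y i), ← Finset.smul_sum, hy]
      exact hm
    have key : m = ext0 (A := A) (fun i => m i.castSucc + f (Fin.last n) • y i) +
        ∑ j : Fin n, (f j.castSucc • (Pi.single (Fin.last n) (y j) : Fin (n + 1) → M) -
          f (Fin.last n) • (Pi.single j.castSucc (y j) : Fin (n + 1) → M)) := by
      refine funext (Fin.lastCases ?_ fun i => ?_)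
      · simp [ext0, ← hy]
      · simp [ext0, Pi.single_apply]
    rw [key]
    exact Submodule.add_mem _ (map_ext0_triv f ⟨_, hm', rfl⟩)
      (Submodule.sum_mem _ fun j _ => Submodule.subset_span ⟨Fin.last n, j.castSucc, y j, rfl⟩)

lemma exists_init (f : Fin (n + 1) → A) {v : Fin (n + 1) → M} (hv : v ∈ triv f M) :
    ∃ y : Fin n → M, (fun i => v i.castSucc) - f (Fin.last n) • y ∈ triv (f ∘ Fin.castSucc) M ∧
      v (Fin.last n) = -(∑ j : Fin n, f j.castSucc • y j) := by
  induction hv using Submodule.span_induction with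
  | zero =>
    refine ⟨0, ?_, by simp⟩
    rw [smul_zero, sub_zero]
    exact Submodule.zero_mem _
  | add v w _ _ hv hw =>
    obtain ⟨y, h1, h2⟩ := hv
    obtain ⟨y', h1', h2'⟩ := hw
    refine ⟨y + y', ?_, ?_⟩
    · convert Submodule.add_mem _ h1 h1' using 1
      funext i
      simp only [Pi.add_apply, Pi.sub_apply, Pi.smul_apply, smul_add]
      abel
    · simp only [Pi.add_apply, h2, h2', smul_add, Finset.sum_add_distrib, neg_add]
  | smul c v _ hv =>
    obtain ⟨y, h1, h2⟩ := hv
    refine ⟨c • y, ?_, ?_⟩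
    · convert Submodule.smul_mem _ c h1 using 1
      funext i
      simp only [Pi.smul_apply, Pi.sub_apply, smul_sub, smul_comm c (f (Fin.last n))]
    · simp only [Pi.smul_apply, h2, smul_neg, Finset.smul_sum]
      exact congrArg Neg.neg (Finset.sum_congr rfl fun j _ => smul_comm _ _ _)
  | mem v hv =>
    obtain ⟨i, j, x, rfl⟩ := hv
    induction i using Fin.lastCases with
    | last =>
      induction j using Fin.lastCases with
      | last =>
        refine ⟨0, ?_, by simp⟩
        rw [sub_self, smul_zero, sub_zero]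
        exact Submodule.zero_mem _
      | cast j =>
        refine ⟨-Pi.single j x, ?_, ?_⟩
        · convert Submodule.zero_mem (triv (f ∘ Fin.castSucc) M) using 1
          funext l
          simp [Pi.single_apply, Fin.castSucc_ne_last]
        · simp [Pi.single_apply, Fin.castSucc_ne_last, (Fin.castSucc_ne_last _).symm]
    | cast i =>
      induction j using Fin.lastCases with
      | last =>
        refine ⟨Pi.single i x, ?_, ?_⟩
        · convert Submodule.zero_mem (triv (f ∘ Fin.castSucc) M) using 1
          funext l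
          simp [Pi.single_apply, Fin.castSucc_ne_last]
        · simp [Pi.single_apply, Fin.castSucc_ne_last, (Fin.castSucc_ne_last _).symm]
      | cast j =>
        refine ⟨0, ?_, by simp [Pi.single_apply, (Fin.castSucc_ne_last _).symm]⟩
        rw [smul_zero, sub_zero]
        exact Submodule.subset_span ⟨i, j, x, by funext l; simp [Pi.single_apply]⟩

/-- `r` kills no nonzero subquotient by becoming divisible. -/
def Separates (r : A) (M : Type v) [AddCommGroup M] [Module A M] : Prop :=
  ∀ N N' : Submodule A M, N' ≤ N → (∀ x ∈ N, ∃ y ∈ N, x - r • y ∈ N') → N ≤ N'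

lemma Separates.pi {r : A} (h : Separates r M) : ∀ k, Separates r (Fin k → M) := by
  intro k
  induction k with
  | zero => intro N N' _ _ x _; rw [Subsingleton.elim x 0]; exact N'.zero_mem
  | succ k ih =>
    intro N N' hle hdiv
    let π : (Fin (k + 1) → M) →ₗ[A] M := LinearMap.proj (Fin.last k)
    let ι : (Fin k → M) →ₗ[A] (Fin (k + 1) → M) := ext0
    have hπ : N.map π ≤ N'.map π := h _ _ (Submodule.map_mono hle) (by
      rintro _ ⟨x, hx, rfl⟩
      obtain ⟨y, hy, hxy⟩ := hdiv x hx
      exact ⟨π y, ⟨y, hy, rfl⟩, x - r • y, hxy, by rw [map_sub, map_smul]⟩)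
    have hsplit : ∀ x ∈ N, ∃ b ∈ N', ∃ z, ι z ∈ N ∧ x = b + ι z := by
      intro x hx
      obtain ⟨b, hb, hbx⟩ := hπ ⟨x, hx, rfl⟩
      have e : ι (fun i => (x - b) i.castSucc) = x - b := by
        refine funext (Fin.lastCases ?_ fun i => ?_)
        · have : b (Fin.last k) = x (Fin.last k) := hbx
          simp [ι, ext0, this]
        · simp [ι, ext0]
      exact ⟨b, hb, _, by rw [e]; exact sub_mem hx (hle hb), by rw [e]; abel⟩
    have hker : N.comap ι ≤ N'.comap ι := ih _ _ (Submodule.comap_mono hle) (by
      intro z hz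
      obtain ⟨y, hy, hzy⟩ := hdiv (ι z) hz
      obtain ⟨b, hb, z', hz', rfl⟩ := hsplit y hy
      refine ⟨z', hz', ?_⟩
      show ι (z - r • z') ∈ N'
      have e : ι (z - r • z') = (ι z - r • (b + ι z')) + r • b := by
        rw [map_sub, map_smul, smul_add]; abel
      rw [e]
      exact add_mem hzy (N'.smul_mem r hb))
    intro x hx
    obtain ⟨b, hb, z, hz, rfl⟩ := hsplit x hx
    exact add_mem hb (hker hz)

/-- Vanishing first Koszul homology gives a weakly regular sequence. -/
theorem isWeaklyRegular_of_separates : ∀ {n : ℕ} (f : Fin n → A), (∀ i, Separates (f i) M) →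
    (∀ m : Fin n → M, ∑ i, f i • m i = 0 → m ∈ triv f M) → IsWeaklyRegular M (List.ofFn f) := by
  intro n
  induction n with
  | zero => intro f _ _; simp
  | succ n ih =>
    intro f hsep hH
    refine (isWeaklyRegular_snoc_iff f).mpr ⟨ih _ (fun i => hsep _) ?_, fun m hm => ?_⟩
    · intro m hm
      refine (hsep (Fin.last n)).pi n (LinearMap.ker (dot (f ∘ Fin.castSucc))) _ (triv_le_ker _) ?_
        (by rw [LinearMap.mem_ker, dot_apply]; exact hm)
      intro x hx
      rw [LinearMap.mem_ker, dot_apply] at hx
      have h0 : ext0 (A := A) x ∈ triv f M := by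
        refine hH _ ?_
        rw [Fin.sum_univ_castSucc]
        simpa [ext0] using hx
      obtain ⟨y, h1, h2⟩ := exists_init f h0
      refine ⟨y, ?_, ?_⟩
      · rw [LinearMap.mem_ker, dot_apply]
        simpa [ext0, eq_comm (a := (0 : M))] using h2
      · simpa [ext0] using h1
    · rw [← range_dot] at hm ⊢
      obtain ⟨z, hz⟩ := hm
      rw [dot_apply] at hz
      have h0 : (Fin.snoc z (-m) : Fin (n + 1) → M) ∈ triv f M := by
        refine hH _ ?_
        rw [Fin.sum_univ_castSucc]
        simpa [← sub_eq_add_neg, sub_eq_zero] using hz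
      obtain ⟨y, -, h2⟩ := exists_init f h0
      exact ⟨y, by simpa [eq_comm] using h2⟩

lemma separates_of_mem_jacobson [IsNoetherianRing A] [Module.Finite A M] {r : A}
    (hr : r ∈ (⊥ : Ideal A).jacobson) : Separates r M := by
  intro N N' _ hdiv
  refine Submodule.le_of_le_smul_of_le_jacobson_bot (I := Ideal.span {r}) (IsNoetherian.noetherian N)
    ((Ideal.span_singleton_le_iff_mem _).mpr hr) fun x hx => ?_
  obtain ⟨y, hy, hxy⟩ := hdiv x hx
  rw [show x = (x - r • y) + r • y by abel]
  exact Submodule.add_mem_sup hxy (Submodule.smul_mem_smul (Ideal.mem_span_singleton_self r) hy)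

lemma separates_of_isHausdorff {I : Ideal A} {r : A} (hr : r ∈ I)
    (h : ∀ (N : Submodule A M) (N' : Submodule A N), IsHausdorff I (N ⧸ N')) : Separates r M := by
  intro N N' _ hdiv x hx
  have := h N (N'.comap N.subtype)
  have key : ∀ k, ∀ q : N ⧸ N'.comap N.subtype, q ∈ I ^ k • (⊤ : Submodule A (N ⧸ N'.comap N.subtype)) := by
    intro k
    induction k with
    | zero => intro q; simp
    | succ k ih =>
      intro q
      obtain ⟨⟨z, hz⟩, rfl⟩ := Submodule.Quotient.mk_surjective _ q
      obtain ⟨y, hy, hzy⟩ := hdiv z hz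
      have e : (Submodule.Quotient.mk ⟨z, hz⟩ : N ⧸ N'.comap N.subtype) = r • Submodule.Quotient.mk ⟨y, hy⟩ := by
        rw [← Submodule.Quotient.mk_smul, Submodule.Quotient.eq]
        exact hzy
      rw [e, pow_succ', Submodule.mul_smul]
      exact Submodule.smul_mem_smul hr (ih _)
  have h0 : (Submodule.Quotient.mk ⟨x, hx⟩ : N ⧸ N'.comap N.subtype) = 0 :=
    IsHausdorff.haus this _ fun k => by rw [SModEq.zero]; exact key k _
  rw [Submodule.Quotient.mk_eq_zero] at h0
  exact h0

end GrothLib.KoszulH1
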