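import Mathlib

/-!
# Smoothness of hypersurfaces
-/

set_option autoImplicit false

universe u

open TensorProduct

namespace GrothLib.HypersurfaceSmooth

variable {k P : Type u} [CommRing k] [CommRing P] [Algebra k P]

theorem mem_ker_iff (f x : P) : x ∈ RingHom.ker (algebraMap P (P ⧸ Ideal.span {f})) ↔ x ∈ Ideal.span {f} := by
  rw [Ideal.Quotient.algebraMap_eq, Ideal.mk_ker]

/-- A functional on differentials normalised on the equation gives smoothness of the hypersurface. -/
theorem formallySmooth_quotient [Algebra.FormallySmooth k P] (f : P)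
    (φ : Ω[P⁄k] →ₗ[P] P) (hφ : φ (KaehlerDifferential.D k P f) - 1 ∈ Ideal.span {f}) :
    Algebra.FormallySmooth k (P ⧸ Ideal.span {f}) := by
  let B := P ⧸ Ideal.span {f}
  let I := RingHom.ker (algebraMap P B)
  have hf : f ∈ I := (mem_ker_iff f f).mpr (Ideal.mem_span_singleton_self f)
  let fc : I.Cotangent := I.toCotangent ⟨f, hf⟩
  have hkill : ∀ (r : P) (x : I.Cotangent), r ∈ Ideal.span {f} → r • x = 0 := by
    intro r x hr
    obtain ⟨y, rfl⟩ := Ideal.toCotangent_surjective I x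
    rw [← map_smul, Ideal.toCotangent_eq_zero]
    rw [pow_two, Submodule.coe_smul, smul_eq_mul]
    exact Ideal.mul_mem_mul ((mem_ker_iff f r).mpr hr) y.2
  let ψ : Ω[P⁄k] →ₗ[P] I.Cotangent := (LinearMap.toSpanSingleton P I.Cotangent fc).comp φ
  have hle : (Ideal.span {f} • ⊤ : Submodule P Ω[P⁄k]) ≤ LinearMap.ker ψ :=
    Submodule.smul_le.mpr fun r hr x _ => by rw [LinearMap.mem_ker, map_smul]; exact hkill r _ hr
  let l : B ⊗[P] Ω[P⁄k] →ₗ[P] I.Cotangent :=
    (Submodule.liftQ _ ψ hle).comp (TensorProduct.quotTensorEquivQuotSMul Ω[P⁄k] (Ideal.span {f})).toLinearMap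
  refine (Algebra.FormallySmooth.iff_split_injection (P := P) Ideal.Quotient.mk_surjective).mpr ⟨l, ?_⟩
  refine LinearMap.ext fun x => ?_
  obtain ⟨⟨y, hy⟩, rfl⟩ := Ideal.toCotangent_surjective I x
  obtain ⟨a, ha⟩ := Ideal.mem_span_singleton'.mp ((mem_ker_iff f y).mp hy)
  have e1 : I.toCotangent ⟨y, hy⟩ = a • fc := by
    rw [← map_smul]
    exact congrArg _ (Subtype.ext ha.symm)
  show l (KaehlerDifferential.kerCotangentToTensor k P B (I.toCotangent ⟨y, hy⟩)) = I.toCotangent ⟨y, hy⟩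
  rw [e1, map_smul, map_smul, KaehlerDifferential.kerCotangentToTensor_toCotangent]
  congr 1
  show (Submodule.liftQ _ ψ hle) ((TensorProduct.quotTensorEquivQuotSMul Ω[P⁄k] (Ideal.span {f}))
    ((1 : B) ⊗ₜ KaehlerDifferential.D k P f)) = fc
  rw [show (1 : B) = Ideal.Quotient.mk _ (1 : P) from (map_one _).symm,
    TensorProduct.quotTensorEquivQuotSMul_mk_tmul, one_smul]
  show φ (KaehlerDifferential.D k P f) • fc = fc
  conv_rhs => rw [← one_smul P fc]
  rw [← sub_eq_zero, ← sub_smul]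
  exact hkill _ _ hφ

end GrothLib.HypersurfaceSmooth
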