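/-
Roofs with bounded complexes in the homotopy category.
-/
import Mathlib

set_option autoImplicit false
universe w v u

open CategoryTheory Limits CochainComplex HomologicalComplex

namespace Groth.Agent.BoundedRoofs

variable {A : Type u} [Category.{v} A] [Abelian A]

local notation "q" => HomotopyCategory.quotient A (ComplexShape.up ℤ)

lemma isIso_ιTruncLE_f (M : CochainComplex A ℤ) (d i : ℤ) (hi : i < d) :
    IsIso ((M.ιTruncLE d).f i) := by
  obtain ⟨k, rfl⟩ : ∃ k : ℕ, i = d - k := ⟨(d - i).toNat, by omega⟩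
  let e := ComplexShape.embeddingUpIntLE d
  show IsIso ((HomologicalComplex.ιTruncLE M e).f (d - k))
  have hk : e.f k = d - k := rfl
  have : IsIso ((M.op.πTruncGE e.op).f (d - k)) := by
    dsimp [HomologicalComplex.πTruncGE]
    refine (ComplexShape.Embedding.isIso_liftExtend_f_iff e.op _ _ hk).2 ?_
    apply isIso_restrictionToTruncGE'
    simp only [ComplexShape.Embedding.op_boundaryGE_iff]
    rw [ComplexShape.boundaryLE_embeddingUpIntLE_iff]
    omega
  exact inferInstanceAs (IsIso ((M.op.πTruncGE e.op).f (d - k)).unop)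

/-- homotopies lift to the truncation -/
lemma eq_of_comp_ι (K M : CochainComplex A ℤ) (d : ℤ) [K.IsStrictlyLE d]
    (g₁ g₂ : K ⟶ M.truncLE d)
    (h : (q).map (g₁ ≫ M.ιTruncLE d) = (q).map (g₂ ≫ M.ιTruncLE d)) :
    (q).map g₁ = (q).map g₂ := by
  classical
  let H := HomotopyCategory.homotopyOfEq _ _ h
  let h' : ∀ i j, K.X i ⟶ (M.truncLE d).X j := fun i j =>
    if hj : j < d then
      H.hom i j ≫ @inv _ _ _ _ ((M.ιTruncLE d).f j) (isIso_ιTruncLE_f M d j hj)
    else 0
  have hrel : ∀ i j, (ComplexShape.up ℤ).Rel j i → h' i j ≫ (M.ιTruncLE d).f j = H.hom i j := by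
    intro i j hij
    simp only [h']
    split_ifs with hj
    · simp
    · simp only [ComplexShape.up_Rel] at hij
      exact ((K.isZero_of_isStrictlyLE d i (by omega)).eq_of_src _ _)
  refine HomotopyCategory.eq_of_homotopy _ _
    { hom := h'
      zero := fun i j hij => by
        simp only [h']
        split_ifs
        · rw [H.zero i j hij, zero_comp]
        · rfl
      comm := fun i => ?_ }
  have : Mono ((M.ιTruncLE d).f i) :=
    inferInstanceAs (Mono ((HomologicalComplex.ιTruncLE M _).f i))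
  rw [← cancel_mono ((M.ιTruncLE d).f i)]
  have := H.comm i
  rw [dNext_eq H.hom (show (ComplexShape.up ℤ).Rel i (i + 1) from rfl),
    prevD_eq H.hom (show (ComplexShape.up ℤ).Rel (i - 1) i from by simp)] at this
  rw [HomologicalComplex.comp_f, HomologicalComplex.comp_f] at this
  rw [dNext_eq h' (show (ComplexShape.up ℤ).Rel i (i + 1) from rfl),
    prevD_eq h' (show (ComplexShape.up ℤ).Rel (i - 1) i from by simp), this]
  simp only [Preadditive.add_comp, Category.assoc, hrel (i + 1) i rfl,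
    ← HomologicalComplex.Hom.comm, reassoc_of% (hrel i (i - 1) (by simp))]

/-- factor a map through the truncation -/
noncomputable def lift {K M : CochainComplex A ℤ} (d : ℤ) [K.IsStrictlyLE d] (g : K ⟶ M) :
    K ⟶ M.truncLE d :=
  inv (K.ιTruncLE d) ≫ CochainComplex.truncLEMap g d

lemma lift_ι {K M : CochainComplex A ℤ} (d : ℤ) [K.IsStrictlyLE d] (g : K ⟶ M) :
    lift d g ≫ M.ιTruncLE d = g := by
  rw [lift, Category.assoc, CochainComplex.ιTruncLE_naturality, IsIso.inv_hom_id_assoc]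

lemma quasiIso_quotient {K L : CochainComplex A ℤ} (f : K ⟶ L) [QuasiIso f] :
    HomotopyCategory.quasiIso A (ComplexShape.up ℤ) ((q).map f) := by
  rw [HomotopyCategory.quotient_map_mem_quasiIso_iff]
  exact inferInstanceAs (QuasiIso f)

lemma isLE_source {K X : CochainComplex A ℤ} (s : X ⟶ K) [QuasiIso s] (a : ℤ) [K.IsLE a] :
    X.IsLE a := by
  rw [CochainComplex.isLE_iff]
  intro i hi
  rw [exactAt_iff_of_quasiIsoAt s i]
  exact K.exactAt_of_isLE a i hi

lemma isLE_target {L X : CochainComplex A ℤ} (t : L ⟶ X) [QuasiIso t] (a : ℤ) [L.IsLE a] :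
    X.IsLE a := by
  rw [CochainComplex.isLE_iff]
  intro i hi
  rw [← exactAt_iff_of_quasiIsoAt t i]
  exact L.exactAt_of_isLE a i hi

lemma isGE_target {L X : CochainComplex A ℤ} (t : L ⟶ X) [QuasiIso t] (a : ℤ) [L.IsGE a] :
    X.IsGE a := by
  rw [CochainComplex.isGE_iff]
  intro i hi
  rw [← exactAt_iff_of_quasiIsoAt t i]
  exact L.exactAt_of_isGE a i hi

/-- shrink a roof to a bounded above one -/
theorem exists_le {K X : CochainComplex A ℤ} (a : ℤ)
    [K.IsStrictlyLE a] (s : (q).obj X ⟶ (q).obj K)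
    (hs : HomotopyCategory.quasiIso A (ComplexShape.up ℤ) s) :
    ∃ (X' : HomotopyCategory A (ComplexShape.up ℤ)) (_ : CochainComplex.IsStrictlyLE X'.as a)
      (i : X' ⟶ (q).obj X), HomotopyCategory.quasiIso A (ComplexShape.up ℤ) (i ≫ s) := by
  obtain ⟨s, rfl⟩ := (q).map_surjective s
  have hs' : QuasiIso s := (HomotopyCategory.quotient_map_mem_quasiIso_iff s).1 hs
  have := isLE_source s a
  have : QuasiIso (X.ιTruncLE a) := (X.quasiIso_ιTruncLE_iff a).2 inferInstance
  refine ⟨(q).obj (X.truncLE a), inferInstanceAs ((X.truncLE a).IsStrictlyLE a),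
    (q).map (X.ιTruncLE a), ?_⟩
  exact (Functor.map_comp (q) _ s) ▸ quasiIso_quotient (X.ιTruncLE a ≫ s)

/-- shrink a coroof to a bounded one -/
theorem exists_bounded {L X : CochainComplex A ℤ} (c d : ℤ)
    [L.IsStrictlyGE c] [L.IsStrictlyLE d] (t : (q).obj L ⟶ (q).obj X)
    (ht : HomotopyCategory.quasiIso A (ComplexShape.up ℤ) t) :
    ∃ (M N : HomotopyCategory A (ComplexShape.up ℤ)) (_ : CochainComplex.IsStrictlyGE N.as c)
      (_ : CochainComplex.IsStrictlyLE N.as d) (π : (q).obj X ⟶ M) (i : N ⟶ M)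
      (t' : (q).obj L ⟶ N),
      HomotopyCategory.quasiIso A (ComplexShape.up ℤ) t' ∧
      HomotopyCategory.quasiIso A (ComplexShape.up ℤ) i ∧ t' ≫ i = t ≫ π ∧
      ∀ K : HomotopyCategory A (ComplexShape.up ℤ), CochainComplex.IsStrictlyLE K.as d →
        (∀ g : K ⟶ M, ∃ g' : K ⟶ N, g' ≫ i = g) ∧
          ∀ g₁ g₂ : K ⟶ N, g₁ ≫ i = g₂ ≫ i → g₁ = g₂ := by
  obtain ⟨t, rfl⟩ := (q).map_surjective t
  have ht' : QuasiIso t := (HomotopyCategory.quotient_map_mem_quasiIso_iff t).1 ht
  have := isGE_target t c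
  have : QuasiIso (X.πTruncGE c) := (X.quasiIso_πTruncGE_iff c).2 inferInstance
  let M := X.truncGE c
  let u : L ⟶ M := t ≫ X.πTruncGE c
  have hu : QuasiIso u := inferInstanceAs (QuasiIso (t ≫ X.πTruncGE c))
  have := isLE_target u d
  have hι : QuasiIso (M.ιTruncLE d) := (M.quasiIso_ιTruncLE_iff d).2 inferInstance
  have hlift : QuasiIso (lift d u) := by
    have : QuasiIso (lift d u ≫ M.ιTruncLE d) := by rw [lift_ι]; exact hu
    exact quasiIso_of_comp_right (lift d u) (M.ιTruncLE d)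
  refine ⟨(q).obj M, (q).obj (M.truncLE d), inferInstanceAs ((M.truncLE d).IsStrictlyGE c),
    inferInstanceAs ((M.truncLE d).IsStrictlyLE d), (q).map (X.πTruncGE c),
    (q).map (M.ιTruncLE d), (q).map (lift d u), quasiIso_quotient _, quasiIso_quotient _, ?_, ?_⟩
  · rw [← Functor.map_comp, lift_ι]
    exact Functor.map_comp _ _ _
  · intro K' hK
    obtain ⟨K, rfl⟩ := HomotopyCategory.quotient_obj_surjective K'
    have : CochainComplex.IsStrictlyLE K d := hK
    refine ⟨fun g => ?_, fun g₁ g₂ h => ?_⟩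
    · obtain ⟨g, rfl⟩ := (q).map_surjective g
      exact ⟨(q).map (lift d g), by rw [← Functor.map_comp, lift_ι]⟩
    · obtain ⟨g₁, rfl⟩ := (q).map_surjective g₁
      obtain ⟨g₂, rfl⟩ := (q).map_surjective g₂
      rw [← Functor.map_comp, ← Functor.map_comp] at h
      exact eq_of_comp_ι K M d g₁ g₂ h

end Groth.Agent.BoundedRoofs
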