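import Groth.Agent.Lib.LengthDet
import Groth.Prelude.Def_Tame
import Mathlib.Algebra.Module.Lattice
import Mathlib.LinearAlgebra.Basis.Submodule
import Mathlib.RingTheory.Localization.Integer

/-!
# The distance of two lattices over a one dimensional local domain
-/

universe u v

open Module

namespace GrothLib.LatticeDist

variable {A : Type u} [CommRing A]

section Rel

variable {V : Type v} [AddCommGroup V] [Module A V]

/-- The length of `M / N ∩ M`. -/
noncomputable abbrev relLen (M N : Submodule A V) : ℕ∞ := Module.length A (↥M ⧸ N.submoduleOf M)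

lemma relLen_add {L N M : Submodule A V} (h₁ : L ≤ N) (h₂ : N ≤ M) :
    relLen M L = relLen N L + relLen M N := by
  refine Module.length_eq_add_of_exact
    (Submodule.mapQ _ _ (Submodule.inclusion h₂) (fun x hx => hx))
    (Submodule.factor (Submodule.comap_mono (f := M.subtype) h₁)) ?_ (Submodule.factor_surjective _) ?_
  · rw [← LinearMap.ker_eq_bot, Submodule.ker_mapQ, eq_bot_iff]
    rintro _ ⟨x, hx, rfl⟩
    exact (Submodule.Quotient.mk_eq_zero _).mpr hx
  · intro q
    obtain ⟨x, rfl⟩ := Submodule.mkQ_surjective _ q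
    constructor
    · intro hq
      refine ⟨Submodule.Quotient.mk ⟨x, ?_⟩, rfl⟩
      exact (Submodule.Quotient.mk_eq_zero (N.submoduleOf M)).mp hq
    · rintro ⟨r, hr⟩
      obtain ⟨y, rfl⟩ := Submodule.mkQ_surjective _ r
      rw [← hr]
      exact (Submodule.Quotient.mk_eq_zero _).mpr y.2

lemma relLen_self (M : Submodule A V) : relLen M M = 0 := by
  have : Subsingleton (↥M ⧸ M.submoduleOf M) := by
    rw [Submodule.Quotient.subsingleton_iff, Submodule.submoduleOf_self]
  exact Module.length_eq_zero

lemma relLen_map {W : Type*} [AddCommGroup W] [Module A W] (e : V ≃ₗ[A] W) (M N : Submodule A V) :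
    relLen (M.map e.toLinearMap) (N.map e.toLinearMap) = relLen M N := by
  refine (Submodule.Quotient.equiv _ _ (e.submoduleMap M) ?_).length_eq.symm
  ext ⟨w, hw⟩
  rw [Submodule.mem_map]
  constructor
  · rintro ⟨x, hx, hxe⟩
    exact ⟨x, hx, congrArg Subtype.val hxe⟩
  · rintro ⟨x, hx, hxe⟩
    obtain ⟨y, hy, hye⟩ := Submodule.mem_map.mp hw
    have : x = y := e.injective (hxe.trans hye.symm)
    exact ⟨⟨x, this ▸ hy⟩, hx, Subtype.ext hxe⟩

end Rel

variable [IsDomain A] [IsNoetherianRing A] [IsLocalRing A]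
variable {K : Type*} [Field K] [Algebra A K] [IsFractionRing A K]
variable {V : Type v} [AddCommGroup V] [Module A V] [Module K V] [IsScalarTower A K V]

omit [IsNoetherianRing A] [IsLocalRing A] in
lemma exists_smul_mem (L : Submodule A V) [Submodule.IsLattice K L] (x : V) : ∃ r : A, r ≠ 0 ∧ r • x ∈ L := by
  have hx : x ∈ Submodule.span K (L : Set V) := by rw [Submodule.IsLattice.span_eq_top]; trivial
  induction hx using Submodule.span_induction with
  | mem y hy => exact ⟨1, one_ne_zero, by rwa [one_smul]⟩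
  | zero => exact ⟨1, one_ne_zero, by rw [smul_zero]; exact L.zero_mem⟩
  | add y z _ _ hy hz =>
    obtain ⟨r, hr, hry⟩ := hy
    obtain ⟨s, hs, hsz⟩ := hz
    refine ⟨r * s, mul_ne_zero hr hs, ?_⟩
    rw [smul_add]
    refine L.add_mem ?_ ?_
    · rw [mul_comm, mul_smul]; exact L.smul_mem _ hry
    · rw [mul_smul]; exact L.smul_mem _ hsz
  | smul k y _ hy =>
    obtain ⟨r, hr, hry⟩ := hy
    obtain ⟨a, b, hb, rfl⟩ := IsFractionRing.div_surjective A k
    refine ⟨r * b, mul_ne_zero hr (nonZeroDivisors.ne_zero hb), ?_⟩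
    have : (r * b) • (algebraMap A K a / algebraMap A K b) • y = a • r • y := by
      have hb0 : algebraMap A K b ≠ 0 := fun h => nonZeroDivisors.ne_zero hb ((IsFractionRing.injective A K) (h.trans (map_zero _).symm))
      rw [← algebraMap_smul K (r * b), ← algebraMap_smul K a, ← algebraMap_smul K r y, smul_smul, smul_smul, map_mul]
      congr 1
      field_simp
    rw [this]
    exact L.smul_mem _ hry

include K in
lemma relLen_lt_top (hA : ringKrullDim A ≤ 1) (M L : Submodule A V) [Submodule.IsLattice K L] [Module.Finite A M] :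
    relLen M L < ⊤ := by
  apply GrothLib.FiniteLengthSupp.length_lt_top
  have : Subsingleton (Module.support A (↥M ⧸ L.submoduleOf M)) := by
    have key : ∀ q ∈ Module.support A (↥M ⧸ L.submoduleOf M), q.asIdeal = IsLocalRing.maximalIdeal A := by
      intro q hq
      by_contra hne
      have hbot : q.asIdeal = ⊥ := by
        have hdim : Order.krullDim (Set.univ : Set (PrimeSpectrum A)) ≤ 1 := by
          rwa [Order.krullDim_eq_of_orderIso OrderIso.Set.univ]
        exact (congrArg PrimeSpectrum.asIdeal (GrothLib.LengthQuotX.eq_of_le_of_ne_maximal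
          (p := ⟨⊥, Ideal.isPrime_bot⟩) (q := q) isUpperSet_univ hdim trivial hne trivial (bot_le : (⊥ : Ideal A) ≤ q.asIdeal))).symm
      refine (Module.notMem_support_iff'.mpr fun m => ?_) hq
      obtain ⟨x, rfl⟩ := Submodule.mkQ_surjective _ m
      obtain ⟨r, hr, hrx⟩ := exists_smul_mem (K := K) L (x : V)
      exact ⟨r, by rw [hbot]; exact hr, (Submodule.Quotient.mk_eq_zero _).mpr (show r • (x : V) ∈ L from hrx)⟩
    exact ⟨fun x y => Subtype.ext (PrimeSpectrum.ext ((key _ x.2).trans (key _ y.2).symm))⟩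
  exact Order.krullDim_nonpos_of_subsingleton

omit [IsLocalRing A] in
lemma isLattice_inf (M N : Submodule A V) [hM : Submodule.IsLattice K M] [Submodule.IsLattice K N] :
    Submodule.IsLattice K (M ⊓ N) where
  fg := by
    have : IsNoetherian A M := isNoetherian_of_fg_of_noetherian M hM.fg
    have : IsNoetherian A ↥(M ⊓ N) := isNoetherian_of_le inf_le_left
    rw [← Module.Finite.iff_fg]
    infer_instance
  span_eq_top := by
    refine eq_top_iff.mpr fun x _ => ?_
    obtain ⟨r, hr, hrx⟩ := exists_smul_mem (K := K) M x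
    obtain ⟨s, hs, hsx⟩ := exists_smul_mem (K := K) N x
    have hmem : (r * s) • x ∈ M ⊓ N := ⟨by rw [mul_comm, mul_smul]; exact M.smul_mem _ hrx,
      by rw [mul_smul]; exact N.smul_mem _ hsx⟩
    have h0 : algebraMap A K (r * s) ≠ 0 := fun h =>
      mul_ne_zero hr hs ((IsFractionRing.injective A K) (h.trans (map_zero _).symm))
    have : x = (algebraMap A K (r * s))⁻¹ • (r * s) • x := by
      rw [← algebraMap_smul K (r * s), smul_smul, inv_mul_cancel₀ h0, one_smul]
    rw [this]
    exact Submodule.smul_mem _ _ (Submodule.subset_span hmem)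

/-- The distance of two lattices. -/
noncomputable abbrev dist (M N : Submodule A V) : ℤ :=
  ((relLen M (M ⊓ N)).toNat : ℤ) - ((relLen N (M ⊓ N)).toNat : ℤ)

variable [FiniteDimensional K V]

include K in
lemma dist_eq_of_le (hA : ringKrullDim A ≤ 1) (M N L : Submodule A V) [Submodule.IsLattice K M]
    [Submodule.IsLattice K N] [Submodule.IsLattice K L] (hM : L ≤ M) (hN : L ≤ N) :
    dist M N = ((relLen M L).toNat : ℤ) - ((relLen N L).toNat : ℤ) := by
  have hL : L ≤ M ⊓ N := le_inf hM hN
  have := isLattice_inf (K := K) M N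
  have : Module.Finite A ↥(M ⊓ N) := Submodule.IsLattice.finite K _
  rw [dist, relLen_add hL inf_le_left, relLen_add hL inf_le_right,
    ENat.toNat_add (relLen_lt_top (K := K) hA _ _).ne (relLen_lt_top (K := K) hA _ _).ne,
    ENat.toNat_add (relLen_lt_top (K := K) hA _ _).ne (relLen_lt_top (K := K) hA _ _).ne]
  push_cast
  ring

include K in
theorem dist_add (hA : ringKrullDim A ≤ 1) (M₁ M₂ M₃ : Submodule A V) [Submodule.IsLattice K M₁]
    [Submodule.IsLattice K M₂] [Submodule.IsLattice K M₃] : dist M₁ M₃ = dist M₁ M₂ + dist M₂ M₃ := by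
  let L := M₁ ⊓ M₂ ⊓ M₃
  have := isLattice_inf (K := K) M₁ M₂
  have : Submodule.IsLattice K L := isLattice_inf (M₁ ⊓ M₂) M₃
  rw [dist_eq_of_le (K := K) hA M₁ M₃ L (inf_le_left.trans inf_le_left) inf_le_right,
    dist_eq_of_le (K := K) hA M₁ M₂ L (inf_le_left.trans inf_le_left) (inf_le_left.trans inf_le_right),
    dist_eq_of_le (K := K) hA M₂ M₃ L (inf_le_left.trans inf_le_right) inf_le_right]
  ring

omit [FiniteDimensional K V] [IsFractionRing A K] [IsDomain A] [IsNoetherianRing A] [IsLocalRing A] in
lemma isLattice_map (M : Submodule A V) [hM : Submodule.IsLattice K M] (φ : V ≃ₗ[K] V) :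
    Submodule.IsLattice K (M.map (φ.toLinearMap.restrictScalars A)) where
  fg := hM.fg.map _
  span_eq_top := by
    rw [Submodule.map_coe, LinearMap.coe_restrictScalars, ← Submodule.map_span, Submodule.IsLattice.span_eq_top,
      Submodule.map_top, LinearMap.range_eq_top]
    exact φ.surjective

omit [IsLocalRing A] in
lemma ordFrac_div [Ring.KrullDimLE 1 A] {a b : A} (ha : a ≠ 0) (hb : b ≠ 0) :
    CycAlg.ordFrac A K (algebraMap A K a / algebraMap A K b) =
      ((Ring.ord A a).toNat : ℤ) - ((Ring.ord A b).toNat : ℤ) := by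
  have hma := mem_nonZeroDivisors_of_ne_zero ha
  have hmb := mem_nonZeroDivisors_of_ne_zero hb
  rw [CycAlg.ordFrac, dif_pos ⟨inferInstance, inferInstance, inferInstance, inferInstance⟩, map_div₀,
    Ring.ordFrac_eq_ord _ ha, Ring.ordFrac_eq_ord _ hb,
    Ring.ordMonoidWithZeroHom_eq_coe _ hma (ENat.natCast_toNat (Ring.ord_ne_top hma)).symm,
    Ring.ordMonoidWithZeroHom_eq_coe _ hmb (ENat.natCast_toNat (Ring.ord_ne_top hmb)).symm, ← WithZero.coe_div]
  rfl

omit [IsNoetherianRing A] [IsLocalRing A] [IsDomain A] [IsFractionRing A K] [FiniteDimensional K V] in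
lemma span_basis_isLattice {ι : Type*} [Finite ι] (b : Basis ι K V) :
    Submodule.IsLattice K (Submodule.span A (Set.range b)) where
  fg := Submodule.fg_span (Set.finite_range b)
  span_eq_top := by
    refine eq_top_iff.mpr (b.span_eq.ge.trans (Submodule.span_mono Submodule.subset_span))

/-- Distance of a lattice and its image. -/
theorem dist_map_eq (hA : ringKrullDim A ≤ 1) (M : Submodule A V) [Submodule.IsLattice K M] (φ : V ≃ₗ[K] V) :
    dist M (M.map (φ.toLinearMap.restrictScalars A)) = CycAlg.ordFrac A K (LinearMap.det φ.toLinearMap) := by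
  classical
  have : Ring.KrullDimLE 1 A := Ring.krullDimLE_iff.mpr (by simpa using hA)
  have : Module.IsTorsionFree A K := inferInstance
  set n := Module.finrank K V
  let b := Module.finBasis K V
  let C₀ := LinearMap.toMatrix b b φ.toLinearMap
  obtain ⟨⟨c, hc⟩, hcC⟩ := IsLocalization.exist_integer_multiples_of_finite (nonZeroDivisors A)
    (fun ij : Fin n × Fin n => C₀ ij.1 ij.2)
  choose C' hC' using fun ij => RingHom.mem_rangeS.mp (hcC ij)
  let C : Matrix (Fin n) (Fin n) A := Matrix.of fun i j => C' (i, j)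
  have hC : ∀ i j, algebraMap A K (C i j) = algebraMap A K c * C₀ i j := fun i j =>
    (hC' (i, j)).trans (Algebra.smul_def _ _)
  have hc0 : c ≠ 0 := nonZeroDivisors.ne_zero hc
  let N : Submodule A V := Submodule.span A (Set.range b)
  have := span_basis_isLattice (A := A) b
  let bN : Basis (Fin n) A N := b.restrictScalars A
  -- integral endomorphisms given by a matrix
  have key : ∀ (P : Matrix (Fin n) (Fin n) A) (ψ : V →ₗ[A] V),
      (∀ j, ψ (b j) = ∑ i, algebraMap A K (P i j) • b i) → N.map ψ ≤ N ∧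
        relLen N (N.map ψ) = Module.length A (GrothLib.LengthDet.Coker P) := by
    intro P ψ hψ
    have hsum : ∀ v : Fin n → A, ((bN.equivFun.symm v : N) : V) = ∑ i, v i • b i := fun v => by
      rw [Basis.equivFun_symm_apply, Submodule.coe_sum]
      exact Finset.sum_congr rfl fun i _ => congrArg (v i • ·) (Module.Basis.restrictScalars_apply A b i)
    have hmulVec : ∀ v, ψ ((bN.equivFun.symm v : N) : V) = ((bN.equivFun.symm (P.mulVec v) : N) : V) := fun v => by
      rw [hsum, hsum, map_sum]
      simp only [map_smul, hψ, Matrix.mulVec, dotProduct, algebraMap_smul, Finset.smul_sum, Finset.sum_smul, smul_smul]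
      rw [Finset.sum_comm]
      exact Finset.sum_congr rfl fun i _ => Finset.sum_congr rfl fun j _ => by rw [mul_comm]
    have hle : N.map ψ ≤ N := by
      rintro _ ⟨x, hx, rfl⟩
      have := hmulVec (bN.equivFun ⟨x, hx⟩)
      rw [LinearEquiv.symm_apply_apply] at this
      rw [this]
      exact Subtype.prop _
    refine ⟨hle, (Submodule.Quotient.equiv _ _ bN.equivFun ?_).length_eq⟩
    ext v
    constructor
    · rintro ⟨x, hx, rfl⟩
      obtain ⟨y, hy, hyx⟩ := hx
      refine ⟨bN.equivFun ⟨y, hy⟩, bN.equivFun.symm.injective (Subtype.ext ?_)⟩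
      show ((bN.equivFun.symm (P.mulVec (bN.equivFun ⟨y, hy⟩)) : N) : V) = ((bN.equivFun.symm (bN.equivFun x) : N) : V)
      rw [← hmulVec, LinearEquiv.symm_apply_apply, LinearEquiv.symm_apply_apply]
      exact hyx
    · rintro ⟨w, rfl⟩
      exact ⟨bN.equivFun.symm (P.mulVec w), ⟨_, (bN.equivFun.symm w).2, hmulVec w⟩, LinearEquiv.apply_symm_apply _ _⟩
  have hbj : ∀ j, φ (b j) = ∑ i, C₀ i j • b i := fun j => by
    rw [← b.sum_repr (φ (b j))]
    exact Finset.sum_congr rfl fun i _ => by simp [C₀, LinearMap.toMatrix_apply]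
  let eφ : V ≃ₗ[A] V := φ.restrictScalars A
  let μ : V →ₗ[A] V := LinearMap.lsmul A V c
  obtain ⟨hle₁, hlen₁⟩ := key C (μ ∘ₗ eφ.toLinearMap) fun j => by
    show c • φ (b j) = _
    rw [hbj, Finset.smul_sum]
    exact Finset.sum_congr rfl fun i _ => by rw [hC, ← algebraMap_smul K c, smul_smul]
  obtain ⟨hle₂, hlen₂⟩ := key (Matrix.scalar (Fin n) c) μ fun j => by
    show c • b j = _
    rw [Finset.sum_eq_single j (fun i _ hi => by simp [hi]) (fun h => absurd (Finset.mem_univ j) h)]
    simp
  -- `c φ N`
  have hcomm : N.map (μ ∘ₗ eφ.toLinearMap) = (N.map μ).map eφ.toLinearMap := by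
    rw [← Submodule.map_comp]
    congr 1
    refine LinearMap.ext fun x => ?_
    show c • φ x = φ (c • x)
    rw [← algebraMap_smul K c, ← algebraMap_smul K c x, map_smul]
  have hdetC : algebraMap A K C.det = algebraMap A K c ^ n * LinearMap.det φ.toLinearMap := by
    rw [← LinearMap.det_toMatrix b, RingHom.map_det]
    have : (algebraMap A K).mapMatrix C = algebraMap A K c • C₀ := by
      ext i j; exact hC i j
    rw [this, Matrix.det_smul, Fintype.card_fin]
  have hdφ : LinearMap.det φ.toLinearMap ≠ 0 := φ.isUnit_det'.ne_zero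
  have hdC : C.det ≠ 0 := by
    intro h
    rw [h, map_zero] at hdetC
    exact hdφ ((mul_eq_zero.mp hdetC.symm).resolve_left (pow_ne_zero _ fun e =>
      hc0 ((IsFractionRing.injective A K) (e.trans (map_zero _).symm))))
  have hdet0 : (Matrix.scalar (Fin n) c).det = c ^ n := by simp
  have hl₁ : relLen N (N.map (μ ∘ₗ eφ.toLinearMap)) = Ring.ord A C.det := by
    rw [hlen₁, GrothLib.LengthDet.length_coker_eq C (mem_nonZeroDivisors_of_ne_zero hdC)]
    rfl
  have hl₂ : relLen (N.map eφ.toLinearMap) ((N.map μ).map eφ.toLinearMap) = Ring.ord A (c ^ n) := by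
    rw [relLen_map, hlen₂, GrothLib.LengthDet.length_coker_eq _ (by rw [hdet0]; exact pow_mem hc n), hdet0]
    rfl
  have hlatμ : Submodule.IsLattice K (N.map μ) := by
    have : N.map μ = N.map (((LinearEquiv.smulOfUnit (Units.mk0 (algebraMap A K c) fun e =>
        hc0 ((IsFractionRing.injective A K) (e.trans (map_zero _).symm))) : V ≃ₗ[K] V)).toLinearMap.restrictScalars A) := by
      congr 1
      exact LinearMap.ext fun x => (algebraMap_smul K c x).symm
    rw [this]
    exact isLattice_map N _
  have hlat : ∀ (P : Submodule A V) [Submodule.IsLattice K P], Submodule.IsLattice K (P.map eφ.toLinearMap) :=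
    fun P _ => isLattice_map P φ
  have := hlat N
  have := hlat M
  have := hlat (N.map μ)
  have h₁ : dist N (N.map eφ.toLinearMap) = CycAlg.ordFrac A K (LinearMap.det φ.toLinearMap) := by
    rw [dist_eq_of_le (K := K) hA N (N.map eφ.toLinearMap) ((N.map μ).map eφ.toLinearMap) (hcomm ▸ hle₁)
      (Submodule.map_mono hle₂), ← hcomm, hl₁, hcomm, hl₂,
      show LinearMap.det φ.toLinearMap = algebraMap A K C.det / algebraMap A K (c ^ n) by
        rw [hdetC, map_pow, mul_div_cancel_left₀]
        exact pow_ne_zero _ fun e => hc0 ((IsFractionRing.injective A K) (e.trans (map_zero _).symm)),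
      ordFrac_div hdC (pow_ne_zero _ hc0)]
  have h₂ : dist (N.map eφ.toLinearMap) (M.map eφ.toLinearMap) = dist N M := by
    rw [dist, dist, ← Submodule.map_inf _ eφ.injective, relLen_map, relLen_map]
  have h₃ : dist N M = - dist M N := by
    rw [dist, dist, inf_comm N M]; ring
  show dist M (M.map eφ.toLinearMap) = _
  rw [dist_add (K := K) hA M N, dist_add (K := K) hA N (N.map eφ.toLinearMap), h₁, h₂, h₃]
  ring

end GrothLib.LatticeDist
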