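import Groth.Agent.Lib.Herbrand
import Groth.Agent.Lib.FiniteLengthSupp
import Mathlib.RingTheory.OrderOfVanishing.Basic
import Mathlib.RingTheory.Ideal.AssociatedPrime.Finiteness
import Mathlib.RingTheory.Support
import Mathlib.RingTheory.Artinian.Module
import Mathlib.RingTheory.Localization.Finiteness
import Mathlib.Algebra.Module.LocalizedModule.Exact
import Mathlib.Algebra.Module.Submodule.Pointwise

/-!
# Length of `M / xM` for modules with one dimensional support
-/

open CycAlg LinearMap Pointwise

universe u v

namespace GrothLib.LengthQuotX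

variable {R : Type u} [CommRing R] [IsNoetherianRing R]
variable {M : Type v} [AddCommGroup M] [Module R M] [Module.Finite R M]

lemma isArtinian_localized_of_minimal (p : PrimeSpectrum R)
    (hmin : ∀ q ∈ Module.support R M, q ≤ p → q = p) :
    IsArtinian (Localization p.asIdeal.primeCompl) (LocalizedModule p.asIdeal.primeCompl M) := by
  have : IsNoetherianRing (Localization p.asIdeal.primeCompl) :=
    IsLocalization.isNoetherianRing p.asIdeal.primeCompl _ inferInstance
  have : Subsingleton (Module.support (Localization p.asIdeal.primeCompl) (LocalizedModule p.asIdeal.primeCompl M)) := by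
    have key : ∀ q ∈ Module.support (Localization p.asIdeal.primeCompl) (LocalizedModule p.asIdeal.primeCompl M),
        PrimeSpectrum.comap (algebraMap R (Localization p.asIdeal.primeCompl)) q = p := by
      intro q hq
      refine hmin _ ?_ ?_
      · rw [Module.mem_support_iff_of_finite] at hq ⊢
        intro r hr
        refine hq (Module.mem_annihilator.mpr fun m => ?_)
        rw [algebraMap_smul]
        induction m using LocalizedModule.induction_on with
        | _ m s => rw [LocalizedModule.smul'_mk, Module.mem_annihilator.mp hr m, LocalizedModule.zero_mk]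
      · intro r hr
        by_contra hrp
        exact q.isPrime.ne_top (Ideal.eq_top_of_isUnit_mem _ hr
          (IsLocalization.map_units (Localization p.asIdeal.primeCompl) (⟨r, hrp⟩ : p.asIdeal.primeCompl)))
    refine ⟨fun a b => Subtype.ext ?_⟩
    exact PrimeSpectrum.localization_comap_injective (Localization p.asIdeal.primeCompl) p.asIdeal.primeCompl
      ((key a.1 a.2).trans (key b.1 b.2).symm)
  have hd : Module.supportDim (Localization p.asIdeal.primeCompl) (LocalizedModule p.asIdeal.primeCompl M) ≤ 0 :=
    Order.krullDim_nonpos_of_subsingleton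
  exact (isFiniteLength_iff_isNoetherian_isArtinian.mp
    (Module.length_ne_top_iff.mp (GrothLib.FiniteLengthSupp.length_lt_top hd).ne)).2

/-- An injective endomorphism has cokernel vanishing at minimal points of the support. -/
theorem notMem_support_quot_range (p : PrimeSpectrum R)
    (hmin : ∀ q ∈ Module.support R M, q ≤ p → q = p) (f : M →ₗ[R] M) (hf : Function.Injective f) :
    p ∉ Module.support R (M ⧸ range f) := by
  have := isArtinian_localized_of_minimal p hmin
  have hs := IsArtinian.surjective_of_injective_endomorphism (LocalizedModule.map p.asIdeal.primeCompl f)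
    (LocalizedModule.map_injective _ f hf)
  rw [Module.notMem_support_iff']
  intro q
  obtain ⟨m, rfl⟩ := Submodule.mkQ_surjective _ q
  obtain ⟨y, hy⟩ := hs (LocalizedModule.mk m 1)
  induction y using LocalizedModule.induction_on with
  | _ y s =>
    rw [LocalizedModule.map_mk, LocalizedModule.mk_eq] at hy
    obtain ⟨u, hu⟩ := hy
    refine ⟨(u : R) * s, p.isPrime.mul_notMem u.2 s.2, ?_⟩
    rw [Submodule.mkQ_apply, ← Submodule.Quotient.mk_smul, Submodule.Quotient.mk_eq_zero]
    refine ⟨(u : R) • y, ?_⟩
    rw [map_smul, mul_smul]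
    simpa [Submonoid.smul_def] using hu

omit [IsNoetherianRing R] in
lemma eq_of_le_of_ne_maximal [IsLocalRing R] {p q : PrimeSpectrum R} {S : Set (PrimeSpectrum R)}
    (hup : IsUpperSet S) (hdim : Order.krullDim S ≤ 1) (hq : q ∈ S)
    (hne : q.asIdeal ≠ IsLocalRing.maximalIdeal R) (hp : p ∈ S) (hle : p ≤ q) : p = q := by
  by_contra h
  let mm : PrimeSpectrum R := IsLocalRing.closedPoint R
  have hqm : q < mm := lt_of_le_of_ne (IsLocalRing.le_maximalIdeal q.isPrime.ne_top)
    fun e => hne (congrArg PrimeSpectrum.asIdeal e)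
  have hm : mm ∈ S := hup hqm.le hq
  let a : LTSeries S := (RelSeries.singleton _ ⟨p, hp⟩).snoc ⟨q, hq⟩ (by
    rw [RelSeries.last_singleton]
    exact lt_of_le_of_ne hle h)
  let c : LTSeries S := a.snoc ⟨mm, hm⟩ (by
    simp only [a, RelSeries.last_snoc]
    exact hqm)
  have hc := le_trans (Order.LTSeries.length_le_krullDim c) hdim
  have hl : c.length = 2 := rfl
  rw [hl] at hc
  exact absurd hc (by norm_num)

omit [IsNoetherianRing R] [Module.Finite R M] in
lemma isUpperSet_support : IsUpperSet (Module.support R M) := fun _ _ h hp => Module.mem_support_mono h hp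

omit [IsNoetherianRing R] [Module.Finite R M] in
lemma minimal_of_ne_maximal [IsLocalRing R] (hdim : Module.supportDim R M ≤ 1) {q : PrimeSpectrum R}
    (hq : q ∈ Module.support R M) (hne : q.asIdeal ≠ IsLocalRing.maximalIdeal R) :
    ∀ p ∈ Module.support R M, p ≤ q → p = q := fun _ hp hle =>
  eq_of_le_of_ne_maximal isUpperSet_support hdim hq hne hp hle

lemma finite_support_diff_maximal [IsLocalRing R] (hdim : Module.supportDim R M ≤ 1) :
    {q : PrimeSpectrum R | q ∈ Module.support R M ∧ q.asIdeal ≠ IsLocalRing.maximalIdeal R}.Finite := by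
  refine Set.Finite.of_finite_image (f := PrimeSpectrum.asIdeal) ?_ (fun a _ b _ h => PrimeSpectrum.ext h)
  refine (Ideal.finite_minimalPrimes_of_isNoetherianRing R (Module.annihilator R M)).subset ?_
  rintro _ ⟨q, ⟨hq, hne⟩, rfl⟩
  refine ⟨⟨q.isPrime, Module.mem_support_iff_of_finite.mp hq⟩, fun J hJ hJq => ?_⟩
  exact (congrArg PrimeSpectrum.asIdeal
    (minimal_of_ne_maximal hdim hq hne ⟨J, hJ.1⟩ (Module.mem_support_iff_of_finite.mpr hJ.2) hJq)).ge

/-- An injective endomorphism of a module with one dimensional support has cokernel of finite length. -/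
theorem length_quot_range_lt_top [IsLocalRing R] (hdim : Module.supportDim R M ≤ 1) (f : M →ₗ[R] M)
    (hf : Function.Injective f) : Module.length R (M ⧸ range f) < ⊤ := by
  apply GrothLib.FiniteLengthSupp.length_lt_top
  have : Subsingleton (Module.support R (M ⧸ range f)) := by
    have key : ∀ q ∈ Module.support R (M ⧸ range f), q.asIdeal = IsLocalRing.maximalIdeal R := by
      intro q hq
      by_contra hne
      exact notMem_support_quot_range q (minimal_of_ne_maximal hdim
        (Module.support_subset_of_surjective _ (Submodule.mkQ_surjective _) hq) hne) f hf hq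
    exact ⟨fun a b => Subtype.ext (PrimeSpectrum.ext ((key _ a.2).trans (key _ b.2).symm))⟩
  exact Order.krullDim_nonpos_of_subsingleton

omit [IsNoetherianRing R] in
/-- Where `x` is surjective it is bijective. -/
lemma support_ker_subset (x : R) :
    Module.support R (ker (lsmul R M x)) ⊆ Module.support R (M ⧸ x • (⊤ : Submodule R M)) := by
  intro p hp
  by_contra hq
  rw [Module.notMem_support_iff'] at hq
  have hs : Function.Surjective (LocalizedModule.map p.asIdeal.primeCompl (lsmul R M x)) := by
    intro y
    induction y using LocalizedModule.induction_on with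
    | _ m s =>
      obtain ⟨r, hr, hr'⟩ := hq (Submodule.Quotient.mk m)
      rw [← Submodule.Quotient.mk_smul, Submodule.Quotient.mk_eq_zero] at hr'
      obtain ⟨z, -, hz⟩ := (Submodule.mem_smul_pointwise_iff_exists _ _ _).mp hr'
      refine ⟨LocalizedModule.mk z (s * ⟨r, hr⟩), ?_⟩
      rw [LocalizedModule.map_mk, LocalizedModule.mk_eq]
      refine ⟨1, ?_⟩
      rw [lsmul_apply, hz]
      simp [Submonoid.smul_def, mul_smul]
  have hinj := OrzechProperty.injective_of_surjective_endomorphism _ hs
  refine (Module.notMem_support_iff'.mpr fun m => ?_) hp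
  have : LocalizedModule.mk (m : M) (1 : p.asIdeal.primeCompl) = 0 := hinj (by
    rw [LocalizedModule.map_mk, map_zero, show lsmul R M x (m : M) = 0 from m.2, LocalizedModule.zero_mk])
  rw [← LocalizedModule.zero_mk (1 : p.asIdeal.primeCompl), LocalizedModule.mk_eq] at this
  obtain ⟨u, hu⟩ := this
  refine ⟨u, u.2, Subtype.ext ?_⟩
  simpa [Submonoid.smul_def] using hu

theorem length_ker_lt_top {x : R} (h0 : Module.supportDim R (M ⧸ x • (⊤ : Submodule R M)) ≤ 0) :
    Module.length R (ker (lsmul R M x)) < ⊤ :=
  GrothLib.FiniteLengthSupp.length_lt_top_of_support_subset (support_ker_subset x) h0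

section SixTerm

variable {S : Type u} [CommRing S] {A B C : Type v} [AddCommGroup A] [Module S A] [AddCommGroup B]
  [Module S B] [AddCommGroup C] [Module S C]

lemma perH_lsmul_ker (x : S) :
    Module.length S (perH (lsmul S A x) (0 : A →ₗ[S] A)) = Module.length S (ker (lsmul S A x)) :=
  (Submodule.quotEquivOfEqBot _ (by
    rw [eq_bot_iff]
    intro a ha
    obtain ⟨b, hb⟩ := Submodule.mem_comap.mp ha
    rw [Submodule.mem_bot]
    exact Subtype.ext (by simpa using hb.symm))).length_eq

lemma perH_lsmul_quot (x : S) :
    Module.length S (perH (0 : A →ₗ[S] A) (lsmul S A x)) = Module.length S (A ⧸ x • (⊤ : Submodule S A)) := by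
  refine (Submodule.Quotient.equiv _ _ ((LinearEquiv.ofEq _ _ ker_zero).trans Submodule.topEquiv) ?_).length_eq
  ext a
  rw [Submodule.mem_map, Submodule.mem_smul_pointwise_iff_exists]
  constructor
  · rintro ⟨b, hb, rfl⟩
    obtain ⟨c, hc⟩ := Submodule.mem_comap.mp hb
    exact ⟨c, trivial, hc⟩
  · rintro ⟨c, -, rfl⟩
    exact ⟨⟨x • c, by simp⟩, Submodule.mem_comap.mpr ⟨c, rfl⟩, rfl⟩

/-- The six term exact sequence of multiplication by `x`, in lengths. -/
theorem six_term (x : S) (f : A →ₗ[S] B) (g : B →ₗ[S] C) (hf : Function.Injective f) (hg : Function.Surjective g)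
    (hfg : Function.Exact f g) :
    Module.length S (ker (lsmul S A x)) + Module.length S (ker (lsmul S C x)) +
        Module.length S (B ⧸ x • (⊤ : Submodule S B)) =
      Module.length S (ker (lsmul S B x)) + Module.length S (A ⧸ x • (⊤ : Submodule S A)) +
        Module.length S (C ⧸ x • (⊤ : Submodule S C)) := by
  have hM : range f = ker g := (LinearMap.exact_iff.mp hfg).symm
  have cA : (lsmul S B x) ∘ₗ f = f ∘ₗ lsmul S A x := by ext a; simp
  have cC : (lsmul S C x) ∘ₗ g = g ∘ₗ lsmul S B x := by ext a; simp
  have z₁ : (0 : B →ₗ[S] B) ∘ₗ f = f ∘ₗ (0 : A →ₗ[S] A) := by simp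
  have z₂ : (0 : C →ₗ[S] C) ∘ₗ g = g ∘ₗ (0 : B →ₗ[S] B) := by simp
  obtain ⟨δ, e1, e2, e3⟩ := GrothLib.Herbrand.half (lsmul S A x) 0 (lsmul S B x) 0 (lsmul S C x) 0
    ⟨by simp, by simp⟩ ⟨by simp, by simp⟩ f f g g cA z₁ cC z₂ hf hf hg hg hM hM
  obtain ⟨δ', e4, e5, e6⟩ := GrothLib.Herbrand.half 0 (lsmul S A x) 0 (lsmul S B x) 0 (lsmul S C x)
    ⟨by simp, by simp⟩ ⟨by simp, by simp⟩ f f g g z₁ cA z₂ cC hf hf hg hg hM hM
  have hδ' : range δ' = ⊥ := by
    rw [← LinearMap.exact_iff.mp e6, LinearMap.ker_eq_bot]
    intro a b hab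
    rw [← sub_eq_zero, ← map_sub] at hab
    obtain ⟨w, hw, hwe⟩ := GrothLib.Herbrand.perH_cases (a - b)
    rw [← hwe, GrothLib.Herbrand.chainMap_cls, GrothLib.Herbrand.cls_eq_zero_iff] at hab
    rw [← sub_eq_zero, ← hwe, GrothLib.Herbrand.cls_eq_zero_iff]
    obtain ⟨c, hc⟩ := hab
    exact ⟨0, hf (by simpa using hc)⟩
  have := GrothLib.Herbrand.length_eq_range_add_range (R := S) _ _ e1
  rw [← perH_lsmul_ker (A := A), ← perH_lsmul_ker (A := B), ← perH_lsmul_ker (A := C), ← perH_lsmul_quot (A := A),
    ← perH_lsmul_quot (A := B), ← perH_lsmul_quot (A := C), this,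
    GrothLib.Herbrand.length_eq_range_add_range (R := S) _ _ e2,
    GrothLib.Herbrand.length_eq_range_add_range (R := S) _ _ e3,
    GrothLib.Herbrand.length_eq_range_add_range (R := S) _ _ e4,
    GrothLib.Herbrand.length_eq_range_add_range (R := S) _ _ e5,
    GrothLib.Herbrand.length_eq_range_add_range (R := S) _ _ e6, hδ', Module.length_bot]
  abel

end SixTerm

section Formula

variable [IsLocalRing R]

open Classical in
/-- The summand at `p`. -/
noncomputable abbrev term (x : R) (N : Type v) [AddCommGroup N] [Module R N] (p : PrimeSpectrum R) : ℕ∞ :=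
  Ring.ord (R ⧸ p.asIdeal) (Ideal.Quotient.mk p.asIdeal x) *
    Module.length (Localization.AtPrime p.asIdeal) (LocalizedModule p.asIdeal.primeCompl N)

omit [IsNoetherianRing R] [Module.Finite R M] [IsLocalRing R] in
lemma term_eq_zero (x : R) {p : PrimeSpectrum R} (hp : p ∉ Module.support R M) : term x M p = 0 := by
  have := Module.notMem_support_iff.mp hp
  rw [term, Module.length_eq_zero, mul_zero]

omit [IsNoetherianRing R] [Module.Finite R M] in
lemma finsum_term_eq (x : R) {T : Finset (PrimeSpectrum R)}
    (hT : ∀ p, p ∈ Module.support R M → (p.asIdeal ≠ IsLocalRing.maximalIdeal R ↔ p ∈ T))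
    : (∑ᶠ (p : PrimeSpectrum R) (_ : p ∈ Module.support R M ∧ p.asIdeal ≠ IsLocalRing.maximalIdeal R), term x M p) =
      ∑ p ∈ T, term x M p := by
  refine finsum_cond_eq_sum_of_cond_iff _ fun {p} hp => ?_
  have hs : p ∈ Module.support R M := by
    by_contra h
    exact hp (term_eq_zero x h)
  rw [← hT p hs]
  exact and_iff_right hs

omit [IsNoetherianRing R] in
lemma prime_case (x : R) (p : PrimeSpectrum R) (e : M ≃ₗ[R] R ⧸ p.asIdeal) (h1 : Module.supportDim R M ≤ 1)
    (h0 : Module.supportDim R (M ⧸ x • (⊤ : Submodule R M)) ≤ 0) :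
    Module.length R (M ⧸ x • (⊤ : Submodule R M)) = Module.length R (ker (lsmul R M x)) +
      ∑ᶠ (q : PrimeSpectrum R) (_ : q ∈ Module.support R M ∧ q.asIdeal ≠ IsLocalRing.maximalIdeal R), term x M q := by
  classical
  have hsupp : ∀ q, q ∈ Module.support R M ↔ p ≤ q := fun q => by
    rw [e.support_eq, Module.support_eq_zeroLocus, Ideal.annihilator_quotient]
    rfl
  have hzero : ∀ r : R, r ∈ p.asIdeal → ∀ m : M, r • m = 0 := fun r hr m => e.injective (by
    obtain ⟨a, ha⟩ := Ideal.Quotient.mk_surjective (e m)
    rw [map_smul, map_zero, ← ha, ← Ideal.Quotient.mk_eq_mk, ← Submodule.Quotient.mk_smul,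
      Submodule.Quotient.mk_eq_zero, smul_eq_mul]
    exact Ideal.mul_mem_right _ _ hr)
  by_cases hxp : x ∈ p.asIdeal
  · have htop : x • (⊤ : Submodule R M) = ⊥ := by
      rw [eq_bot_iff]
      intro m hm
      obtain ⟨z, -, rfl⟩ := (Submodule.mem_smul_pointwise_iff_exists _ _ _).mp hm
      rw [Submodule.mem_bot, hzero x hxp]
    have hk : ker (lsmul R M x) = ⊤ := eq_top_iff.mpr fun m _ => mem_ker.mpr (hzero x hxp m)
    have hM : Module.supportDim R M ≤ 0 := by
      rwa [Module.supportDim_eq_of_equiv (Submodule.quotEquivOfEqBot _ htop)] at h0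
    have hnil : ∀ q, ¬ (q ∈ Module.support R M ∧ q.asIdeal ≠ IsLocalRing.maximalIdeal R) := by
      rintro q ⟨hq, hne⟩
      have hlt : q < IsLocalRing.closedPoint R := lt_of_le_of_ne (IsLocalRing.le_maximalIdeal q.isPrime.ne_top)
        fun h => hne (congrArg PrimeSpectrum.asIdeal h)
      have hm : IsLocalRing.closedPoint R ∈ Module.support R M := Module.mem_support_mono hlt.le hq
      let c : LTSeries (Module.support R M) := (RelSeries.singleton _ ⟨q, hq⟩).snoc ⟨_, hm⟩ (by
        rw [RelSeries.last_singleton]
        exact hlt)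
      have := le_trans (Order.LTSeries.length_le_krullDim c) hM
      rw [show c.length = 1 from rfl] at this
      exact absurd this (by norm_num)
    rw [finsum_term_eq x (T := ∅) (fun q hq => iff_of_false (fun h => hnil q ⟨hq, h⟩) (Finset.notMem_empty q)),
      Finset.sum_empty, add_zero, hk, (Submodule.quotEquivOfEqBot _ htop).length_eq, Module.length_top]
  · have hk : ker (lsmul R M x) = ⊥ := by
      rw [eq_bot_iff]
      intro m hm
      have hm' : x • e m = 0 := by rw [← map_smul, show x • m = 0 from hm, map_zero]
      obtain ⟨a, ha⟩ := Ideal.Quotient.mk_surjective (e m)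
      rw [← ha, ← Ideal.Quotient.mk_eq_mk, ← Submodule.Quotient.mk_smul, Submodule.Quotient.mk_eq_zero,
        smul_eq_mul] at hm'
      rw [Submodule.mem_bot, ← e.map_eq_zero_iff, ← ha, Ideal.Quotient.eq_zero_iff_mem]
      exact (p.isPrime.mem_or_mem hm').resolve_left hxp
    have hq : Module.length R (M ⧸ x • (⊤ : Submodule R M)) =
        Ring.ord (R ⧸ p.asIdeal) (Ideal.Quotient.mk p.asIdeal x) := by
      rw [Ring.ord, ← Module.length_eq_of_surjective (S := R) (R := R ⧸ p.asIdeal) Ideal.Quotient.mk_surjective]
      refine ((Submodule.Quotient.equiv _ ((Ideal.span {Ideal.Quotient.mk p.asIdeal x}).restrictScalars R) e ?_).trans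
        (Submodule.Quotient.restrictScalarsEquiv R _)).length_eq
      ext b
      rw [Submodule.mem_map, Submodule.restrictScalars_mem, Ideal.mem_span_singleton]
      constructor
      · rintro ⟨a, ha, rfl⟩
        obtain ⟨z, -, rfl⟩ := (Submodule.mem_smul_pointwise_iff_exists _ _ _).mp ha
        exact ⟨e z, by simp [Algebra.smul_def]⟩
      · rintro ⟨c, rfl⟩
        exact ⟨x • e.symm c, Submodule.smul_mem_pointwise_smul _ _ _ trivial, by simp [Algebra.smul_def]⟩
    rw [hk, Module.length_bot, zero_add, hq]
    by_cases hpm : p.asIdeal = IsLocalRing.maximalIdeal R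
    · have hz : ∀ q, ¬ (q ∈ Module.support R M ∧ q.asIdeal ≠ IsLocalRing.maximalIdeal R) := fun q h =>
        h.2 (le_antisymm (IsLocalRing.le_maximalIdeal q.isPrime.ne_top) (hpm ▸ (hsupp q).mp h.1))
      rw [finsum_term_eq x (T := ∅) (fun q hq => iff_of_false (fun h => hz q ⟨hq, h⟩) (Finset.notMem_empty q)),
        Finset.sum_empty,
        Ring.ord, Module.length_eq_zero_iff, Submodule.Quotient.subsingleton_iff, Ideal.span_singleton_eq_top]
      have : IsUnit x := by
        by_contra hu
        exact hxp (hpm ▸ (IsLocalRing.mem_maximalIdeal x).mpr hu)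
      exact this.map _
    · rw [finsum_term_eq x (T := {p}) fun q hq' => ?_, Finset.sum_singleton, term]
      · suffices Module.length (Localization.AtPrime p.asIdeal) (LocalizedModule p.asIdeal.primeCompl M) = 1 by
          rw [this, mul_one]
        rw [Module.length_eq_one_iff]
        have : Nontrivial (LocalizedModule p.asIdeal.primeCompl M) := (hsupp p).mpr le_rfl
        refine isSimpleModule_iff_toSpanSingleton_surjective.mpr ⟨this, fun y hy z => ?_⟩
        induction y using LocalizedModule.induction_on with
        | _ n s =>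
          induction z using LocalizedModule.induction_on with
          | _ n' t =>
            obtain ⟨r, hr⟩ := Ideal.Quotient.mk_surjective (e n)
            obtain ⟨r', hr'⟩ := Ideal.Quotient.mk_surjective (e n')
            have hrp : r ∈ p.asIdeal.primeCompl := fun h => hy (by
              have : n = 0 := e.injective (by rw [← hr, map_zero, Ideal.Quotient.eq_zero_iff_mem]; exact h)
              rw [this, LocalizedModule.zero_mk])
            refine ⟨Localization.mk (r' * (s : R)) (⟨r, hrp⟩ * t), ?_⟩
            rw [LinearMap.toSpanSingleton_apply, LocalizedModule.mk_smul_mk, LocalizedModule.mk_eq]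
            refine ⟨1, e.injective ?_⟩
            simp only [one_smul, Submonoid.smul_def, map_smul, Submonoid.coe_mul, ← hr, ← hr', Algebra.smul_def,
              Ideal.Quotient.algebraMap_eq, ← map_mul]
            congr 1
            ring
      · rw [Finset.mem_singleton]
        refine ⟨fun hne => (minimal_of_ne_maximal h1 hq' hne p ((hsupp p).mpr le_rfl) ((hsupp q).mp hq')).symm, ?_⟩
        rintro rfl
        exact hpm

/-- `length (M/xM) = length ker x + ∑ ord_{R/q}(x) length M_q`. -/
theorem length_quot_eq (x : R) (h1 : Module.supportDim R M ≤ 1)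
    (h0 : Module.supportDim R (M ⧸ x • (⊤ : Submodule R M)) ≤ 0) :
    Module.length R (M ⧸ x • (⊤ : Submodule R M)) = Module.length R (ker (lsmul R M x)) +
      ∑ᶠ (p : PrimeSpectrum R) (_ : p ∈ Module.support R M ∧ p.asIdeal ≠ IsLocalRing.maximalIdeal R), term x M p := by
  classical
  induction ‹Module.Finite R M› using IsNoetherianRing.induction_on_isQuotientEquivQuotientPrime R with
  | subsingleton N =>
    rw [finsum_term_eq x (T := ∅) (fun p hp => absurd hp (by rw [Module.support_eq_empty]; exact Set.notMem_empty p)),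
      Finset.sum_empty, Module.length_eq_zero,
      Module.length_eq_zero, add_zero]
  | quotient N p e => exact prime_case x p e h1 h0
  | exact A B C f g hf hg hfg ihA ihC =>
    have hsup := Module.support_of_exact hfg hf hg
    have hsA : Module.support R A ⊆ Module.support R B := hsup ▸ Set.subset_union_left
    have hsC : Module.support R C ⊆ Module.support R B := hsup ▸ Set.subset_union_right
    have d1 : ∀ (N : Type v) [AddCommGroup N] [Module R N] [Module.Finite R N],
        Module.support R N ⊆ Module.support R B → Module.supportDim R N ≤ 1 := fun N _ _ _ hs =>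
      le_trans (Order.krullDim_le_of_strictMono (fun a : Module.support R N => (⟨a.1, hs a.2⟩ : Module.support R B))
        fun {_ _} h => h) h1
    have d0 : ∀ (N : Type v) [AddCommGroup N] [Module R N] [Module.Finite R N],
        Module.support R N ⊆ Module.support R B → Module.supportDim R (N ⧸ x • (⊤ : Submodule R N)) ≤ 0 := by
      intro N _ _ _ hs
      have hs' : Module.support R (N ⧸ x • (⊤ : Submodule R N)) ⊆ Module.support R (B ⧸ x • (⊤ : Submodule R B)) := by
        rw [← Submodule.ideal_span_singleton_smul, ← Submodule.ideal_span_singleton_smul, Module.support_quotient,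
          Module.support_quotient]
        exact Set.inter_subset_inter_left _ hs
      exact le_trans (Order.krullDim_le_of_strictMono
        (fun a : Module.support R (N ⧸ x • (⊤ : Submodule R N)) =>
          (⟨a.1, hs' a.2⟩ : Module.support R (B ⧸ x • (⊤ : Submodule R B)))) fun {_ _} h => h) h0
    have hfin := finite_support_diff_maximal h1
    have hT : ∀ (N : Type v) [AddCommGroup N] [Module R N], Module.support R N ⊆ Module.support R B →
        (∑ᶠ (p : PrimeSpectrum R) (_ : p ∈ Module.support R N ∧ p.asIdeal ≠ IsLocalRing.maximalIdeal R), term x N p) =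
          ∑ p ∈ hfin.toFinset, term x N p := fun N _ _ hs => finsum_term_eq x fun p hp => by
      rw [Set.Finite.mem_toFinset]
      exact ⟨fun h => ⟨hs hp, h⟩, fun h => h.2⟩
    have hadd : ∀ p : PrimeSpectrum R, term x B p = term x A p + term x C p := fun p => by
      simp only [term]
      rw [← mul_add, Module.length_eq_add_of_exact (LocalizedModule.map p.asIdeal.primeCompl f)
        (LocalizedModule.map p.asIdeal.primeCompl g) (LocalizedModule.map_injective _ f hf)
        (LocalizedModule.map_surjective _ g hg) (LocalizedModule.map_exact _ f g hfg)]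
    have key := six_term x f g hf hg hfg
    rw [ihA (d1 A hsA) (d0 A hsA), ihC (d1 C hsC) (d0 C hsC), hT A hsA, hT C hsC] at key
    rw [hT B subset_rfl, Finset.sum_congr rfl fun p _ => hadd p, Finset.sum_add_distrib]
    refine ENat.add_left_injective_of_ne_top
      (n := Module.length R (ker (lsmul R A x)) + Module.length R (ker (lsmul R C x))) ?_ ?_
    · exact (ENat.add_lt_top.mpr ⟨length_ker_lt_top (d0 A hsA), length_ker_lt_top (d0 C hsC)⟩).ne
    · show _ + _ = _ + _
      rw [add_comm] at key
      rw [key]
      abel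

end Formula

end GrothLib.LengthQuotX
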