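import Mathlib.CategoryTheory.Sites.SheafCohomology.Basic
import Groth.Prelude.Def_EtBase

/-!
# Short instance constants for abelian sheaves on small etale sites

`HasSheafify` and `HasExt` for `EtCoh.Ab X` are found by instance search as very large terms, and the kernel
pays seconds for every declaration mentioning `Ext` in `EtCoh.Ab X`.  Both classes are propositions, so we may
replace these terms by constants.  Use with `open scoped GrothLib.EtFast`.
-/

set_option autoImplicit false
universe u

open CategoryTheory AlgebraicGeometry

namespace GrothLib.EtFast

theorem hasSheafify_Ab (X : Scheme.{u}) : HasSheafify X.smallEtaleTopology AddCommGrpCat.{u + 1} :=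
  inferInstance

attribute [scoped instance 10000] hasSheafify_Ab

theorem hasExt_Ab (X : Scheme.{u}) : HasExt.{u + 1} (EtCoh.Ab X) := inferInstance

attribute [scoped instance 10000] hasExt_Ab

end GrothLib.EtFast
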