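import Mathlib

/-! Coherent modules, phrased through finitely generated submodules. -/

universe u
namespace H2Coherent
variable {R : Type u} [CommRing R] {N M : Type u}
  [AddCommGroup N] [Module R N] [AddCommGroup M] [Module R M]

lemma sub_fp (hM : ∀ P : Submodule R M, P.FG → Module.FinitePresentation R P)
    (f : N →ₗ[R] M) (hf : Function.Injective f) (P : Submodule R N) (hP : P.FG) :
    Module.FinitePresentation R P := by
  have := hM _ (hP.map f)
  exact Module.FinitePresentation.of_equiv (Submodule.equivMapOfInjective f hf P).symm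

lemma ker_fg [Module.Finite R N]
    (hM : ∀ P : Submodule R M, P.FG → Module.FinitePresentation R P) (φ : N →ₗ[R] M) :
    (LinearMap.ker φ).FG := by
  have := hM (LinearMap.range φ) (by rw [← Submodule.map_top]; exact Module.Finite.fg_top.map φ)
  rw [← LinearMap.ker_rangeRestrict]
  exact Module.FinitePresentation.fg_ker _ φ.surjective_rangeRestrict

lemma quot_fp (hM : ∀ P : Submodule R M, P.FG → Module.FinitePresentation R P)
    (K : Submodule R M) (hK : K.FG) (P : Submodule R (M ⧸ K)) (hP : P.FG) :
    Module.FinitePresentation R P := by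
  have hPc : (P.comap K.mkQ).FG := by
    apply Submodule.fg_of_fg_map_of_fg_inf_ker K.mkQ
    · rw [Submodule.map_comap_eq_of_surjective K.mkQ_surjective]; exact hP
    · have : K ≤ P.comap K.mkQ := fun x hx => by
        simp [Submodule.mem_comap, (Submodule.Quotient.mk_eq_zero K).2 hx]
      rwa [Submodule.ker_mkQ, inf_eq_right.2 this]
  have := hM _ hPc
  let l : P.comap K.mkQ →ₗ[R] P := K.mkQ.restrict fun x hx => hx
  refine Module.finitePresentation_of_surjective l (fun y => ?_) ?_
  · obtain ⟨x, hx⟩ := K.mkQ_surjective y.1
    exact ⟨⟨x, by simp [Submodule.mem_comap, hx]⟩, Subtype.ext hx⟩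
  · have hker : LinearMap.ker l = K.comap (P.comap K.mkQ).subtype := by
      ext x
      simp [l, Subtype.ext_iff]
    rw [hker]
    have hle : K ≤ P.comap K.mkQ := fun x hx => by
      simp [Submodule.mem_comap, (Submodule.Quotient.mk_eq_zero K).2 hx]
    have : Module.Finite R (K.comap (P.comap K.mkQ).subtype) :=
      have := Module.Finite.of_fg hK
      Module.Finite.equiv (Submodule.comapSubtypeEquivOfLe hle).symm
    exact Module.Finite.iff_fg.1 this

end H2Coherent
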