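import Mathlib

set_option autoImplicit false
set_option linter.all false
set_option backward.isDefEq.respectTransparency false
universe u
open CategoryTheory CategoryTheory.Limits Opposite TensorProduct

namespace GrothLib.ConstTensor2

variable {C : Type u} [SmallCategory C] (J : GrothendieckTopology C) (Λ : Type u) [CommRing Λ] (U : C)

noncomputable abbrev Φ : ModuleCat.{u} Λ ⥤ ModuleCat.{u} Λ :=
  constantSheaf J (ModuleCat.{u} Λ) ⋙ (sheafSections J (ModuleCat.{u} Λ)).obj (op U)

instance preserves_finite_limits : PreservesFiniteLimits (Φ J Λ U) := by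
  have : PreservesFiniteLimits (constantSheaf J (ModuleCat.{u} Λ)) :=
    inferInstanceAs (PreservesFiniteLimits (Functor.const Cᵒᵖ ⋙ presheafToSheaf J (ModuleCat.{u} Λ)))
  have : PreservesFiniteLimits ((sheafSections J (ModuleCat.{u} Λ)).obj (op U)) :=
    inferInstanceAs (PreservesFiniteLimits (sheafToPresheaf J (ModuleCat.{u} Λ) ⋙ (evaluation Cᵒᵖ (ModuleCat.{u} Λ)).obj (op U)))
  exact comp_preservesFiniteLimits _ _

theorem map_add' {A B : ModuleCat.{u} Λ} (f g : A ⟶ B) :
    (Φ J Λ U).map (f + g) = (Φ J Λ U).map f + (Φ J Λ U).map g := by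
  have h : sheafifyMap J ((Functor.const Cᵒᵖ).map (f + g)) =
      sheafifyMap J ((Functor.const Cᵒᵖ).map f) + sheafifyMap J ((Functor.const Cᵒᵖ).map g) := by
    apply sheafify_hom_ext J _ _ ((presheafToSheaf J (ModuleCat.{u} Λ)).obj _).property
    rw [Preadditive.comp_add, ← toSheafify_naturality, ← toSheafify_naturality, ← toSheafify_naturality,
      ← Preadditive.add_comp]
    rfl
  exact congrArg (fun η => η.app (op U)) h

instance additive : (Φ J Λ U).Additive := ⟨fun {_ _ f g} => map_add' J Λ U f g⟩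

theorem map_smul' {A B : ModuleCat.{u} Λ} (f : A ⟶ B) (r : Λ) :
    (Φ J Λ U).map (r • f) = r • (Φ J Λ U).map f := by
  have h : sheafifyMap J ((Functor.const Cᵒᵖ).map (r • f)) = r • sheafifyMap J ((Functor.const Cᵒᵖ).map f) := by
    apply sheafify_hom_ext J _ _ ((presheafToSheaf J (ModuleCat.{u} Λ)).obj _).property
    rw [Linear.comp_smul, ← toSheafify_naturality, ← toSheafify_naturality, ← Linear.smul_comp]
    rfl
  exact congrArg (fun η => η.app (op U)) h

theorem epi_map {A B : ModuleCat.{u} Λ} (g : A ⟶ B) [Epi g] : Epi ((Φ J Λ U).map g) := by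
  let V : ModuleCat.{u} Λ ⥤ Type u := CategoryTheory.forget (ModuleCat.{u} Λ)
  let Ψ := constantSheaf J (Type u) ⋙ (sheafSections J (Type u)).obj (op U)
  let e : Φ J Λ U ⋙ V ≅ V ⋙ Ψ :=
    Functor.isoWhiskerRight (constantCommuteCompose J V) ((sheafSections J (Type u)).obj (op U))
  have : IsSplitEpi (V.map g) := ⟨⟨⟨TypeCat.ofHom (Function.surjInv
      ((ModuleCat.epi_iff_surjective g).1 inferInstance)), by
    ext x; exact Function.surjInv_eq ((ModuleCat.epi_iff_surjective g).1 inferInstance) x⟩⟩⟩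
  have : Epi ((Φ J Λ U ⋙ V).map g) := by
    rw [show (Φ J Λ U ⋙ V).map g = e.hom.app _ ≫ (V ⋙ Ψ).map g ≫ e.inv.app _ from
      (NatIso.naturality_1 e.symm g).symm]
    have : Epi ((V ⋙ Ψ).map g) := inferInstanceAs (Epi (Ψ.map (V.map g)))
    infer_instance
  exact V.epi_of_epi_map this

theorem map_exact (S : ShortComplex (ModuleCat.{u} Λ)) (hS : S.Exact) : (S.map (Φ J Λ U)).Exact := by
  have h : ∀ (S : ShortComplex (ModuleCat.{u} Λ)), S.ShortExact → (S.map (Φ J Λ U)).ShortExact := fun S hS => by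
    have := hS.mono_f
    have := hS.epi_g
    exact { exact := hS.exact.map_of_mono_of_preservesKernel _ inferInstance inferInstance
            mono_f := inferInstanceAs (Mono ((Φ J Λ U).map S.f))
            epi_g := epi_map J Λ U S.g }
  have e : (∀ S : ShortComplex (ModuleCat.{u} Λ), S.ShortExact → (S.map (Φ J Λ U)).ShortExact) ↔
      ∀ S : ShortComplex (ModuleCat.{u} Λ), S.Exact → (S.map (Φ J Λ U)).Exact := (Φ J Λ U).exact_tfae.out 0 1
  exact e.1 h S hS

/-- the action of `Φ` on linear maps -/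
noncomputable def mapL {M N : Type u} [AddCommGroup M] [Module Λ M] [AddCommGroup N] [Module Λ N] :
    (M →ₗ[Λ] N) →ₗ[Λ] ((Φ J Λ U).obj (ModuleCat.of Λ M) →ₗ[Λ] (Φ J Λ U).obj (ModuleCat.of Λ N)) where
  toFun f := ((Φ J Λ U).map (ModuleCat.ofHom f)).hom
  map_add' f g := by
    rw [show ModuleCat.ofHom (f + g) = ModuleCat.ofHom f + ModuleCat.ofHom g from rfl, (Φ J Λ U).map_add]
    rfl
  map_smul' r f := by
    rw [show ModuleCat.ofHom (r • f) = r • ModuleCat.ofHom f from rfl, map_smul' J Λ U]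
    rfl

variable {M : Type u} [AddCommGroup M] [Module Λ M]

theorem mapL_comp {A B D : Type u} [AddCommGroup A] [Module Λ A] [AddCommGroup B] [Module Λ B] [AddCommGroup D]
    [Module Λ D] (f : A →ₗ[Λ] B) (g : B →ₗ[Λ] D) :
    mapL J Λ U (g ∘ₗ f) = mapL J Λ U g ∘ₗ mapL J Λ U f := by
  show ((Φ J Λ U).map (ModuleCat.ofHom f ≫ ModuleCat.ofHom g)).hom = _
  rw [Functor.map_comp]
  rfl

theorem mapL_id {A : Type u} [AddCommGroup A] [Module Λ A] : mapL J Λ U (LinearMap.id : A →ₗ[Λ] A) = LinearMap.id := by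
  show ((Φ J Λ U).map (𝟙 (ModuleCat.of Λ A))).hom = _
  rw [CategoryTheory.Functor.map_id]
  rfl

variable (M) in
/-- comparison map -/
noncomputable def tau (Q : Type u) [AddCommGroup Q] [Module Λ Q] :
    ((Φ J Λ U).obj (ModuleCat.of Λ M) : Type u) ⊗[Λ] Q →ₗ[Λ] ((Φ J Λ U).obj (ModuleCat.of Λ (M ⊗[Λ] Q)) : Type u) :=
  TensorProduct.lift ((mapL J Λ U).comp (TensorProduct.mk Λ M Q).flip).flip

theorem tau_tmul (Q : Type u) [AddCommGroup Q] [Module Λ Q] (s : (Φ J Λ U).obj (ModuleCat.of Λ M)) (q : Q) :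
    tau J Λ U M Q (s ⊗ₜ q) = mapL J Λ U ((TensorProduct.mk Λ M Q).flip q) s := rfl

theorem tau_nat {Q Q' : Type u} [AddCommGroup Q] [Module Λ Q] [AddCommGroup Q'] [Module Λ Q'] (k : Q →ₗ[Λ] Q') :
    tau J Λ U M Q' ∘ₗ k.lTensor _ = mapL J Λ U (k.lTensor M) ∘ₗ tau J Λ U M Q := by
  refine TensorProduct.ext' fun s q => ?_
  rw [LinearMap.comp_apply, LinearMap.comp_apply, LinearMap.lTensor_tmul, tau_tmul, tau_tmul,
    ← LinearMap.comp_apply (f := mapL J Λ U (k.lTensor M)), ← mapL_comp]
  congr 2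

theorem tau_bijective_free (n : ℕ) : Function.Bijective (tau J Λ U M (Fin n → Λ)) := by
  classical
  let p : Fin n → (M ⊗[Λ] (Fin n → Λ) →ₗ[Λ] M) := fun i =>
    (TensorProduct.rid Λ M).toLinearMap ∘ₗ (LinearMap.proj i).lTensor M
  let inv : ((Φ J Λ U).obj (ModuleCat.of Λ (M ⊗[Λ] (Fin n → Λ))) : Type u) →ₗ[Λ]
      ((Φ J Λ U).obj (ModuleCat.of Λ M) : Type u) ⊗[Λ] (Fin n → Λ) :=
    ∑ i, (TensorProduct.mk Λ _ (Fin n → Λ)).flip (Pi.single i 1) ∘ₗ mapL J Λ U (p i)
  refine Function.bijective_iff_has_inverse.2 ⟨inv, fun z => ?_, fun x => ?_⟩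
  · refine LinearMap.congr_fun (?_ : inv ∘ₗ tau J Λ U M _ = LinearMap.id) z
    refine TensorProduct.ext' fun s q => ?_
    have h : ∀ i, mapL J Λ U (p i) (mapL J Λ U ((TensorProduct.mk Λ M (Fin n → Λ)).flip q) s) = q i • s := fun i => by
      rw [← LinearMap.comp_apply, ← mapL_comp]
      have : p i ∘ₗ (TensorProduct.mk Λ M (Fin n → Λ)).flip q = q i • LinearMap.id := by
        ext m; simp [p]
      rw [this, map_smul, mapL_id]
      rfl
    simp only [LinearMap.comp_apply, tau_tmul, inv, LinearMap.sum_apply, h, LinearMap.id_apply,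
      LinearMap.flip_apply, TensorProduct.mk_apply, TensorProduct.smul_tmul, ← TensorProduct.tmul_sum]
    congr 1
    ext j
    simp [Pi.single_apply]
  · refine LinearMap.congr_fun (?_ : tau J Λ U M _ ∘ₗ inv = LinearMap.id) x
    have : (∑ i, (TensorProduct.mk Λ M (Fin n → Λ)).flip (Pi.single i 1) ∘ₗ p i) = LinearMap.id := by
      refine TensorProduct.ext' fun m q => ?_
      simp only [LinearMap.sum_apply, LinearMap.comp_apply, p, LinearMap.lTensor_tmul, LinearEquiv.coe_coe,
        TensorProduct.rid_tmul, LinearMap.proj_apply, LinearMap.flip_apply, TensorProduct.mk_apply,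
        TensorProduct.smul_tmul, ← TensorProduct.tmul_sum, LinearMap.id_apply]
      congr 1
      ext j
      simp [Pi.single_apply]
    rw [← mapL_id J Λ U, ← this, map_sum]
    ext y
    simp only [inv, LinearMap.sum_apply, LinearMap.comp_apply, map_sum, LinearMap.flip_apply, TensorProduct.mk_apply,
      tau_tmul]
    refine Finset.sum_congr rfl fun i _ => ?_
    rw [← LinearMap.comp_apply, ← mapL_comp]

theorem tau_bijective (Q : Type u) [AddCommGroup Q] [Module Λ Q] [Module.FinitePresentation Λ Q] :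
    Function.Bijective (tau J Λ U M Q) := by
  classical
  obtain ⟨n, π, hπ⟩ := Module.Finite.exists_fin' Λ Q
  have : Module.Finite Λ π.ker := Module.Finite.iff_fg.2 (Module.FinitePresentation.fg_ker π hπ)
  obtain ⟨m, k', hk'⟩ := Module.Finite.exists_fin' Λ π.ker
  let k : (Fin m → Λ) →ₗ[Λ] (Fin n → Λ) := π.ker.subtype ∘ₗ k'
  have hkπ : Function.Exact k π := by
    rw [LinearMap.exact_iff]
    show π.ker = LinearMap.range (π.ker.subtype ∘ₗ k')
    rw [LinearMap.range_comp, LinearMap.range_eq_top.2 hk', Submodule.map_top, Submodule.range_subtype]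
  have hex : Function.Exact (mapL J Λ U (k.lTensor M)) (mapL J Λ U (π.lTensor M)) := by
    have h0 := lTensor_exact M hkπ hπ
    let S : ShortComplex (ModuleCat.{u} Λ) := ShortComplex.mk (ModuleCat.ofHom (k.lTensor M))
      (ModuleCat.ofHom (π.lTensor M)) (ModuleCat.hom_ext (LinearMap.ext fun x => h0.apply_apply_eq_zero x))
    exact (ShortComplex.ShortExact.moduleCat_exact_iff_function_exact (S.map (Φ J Λ U))).1
      (map_exact J Λ U S ((ShortComplex.ShortExact.moduleCat_exact_iff_function_exact S).2 h0))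
  have hF := tau_bijective_free J Λ U (M := M) n
  have hG := tau_bijective_free J Λ U (M := M) m
  have nk := fun z => LinearMap.congr_fun (tau_nat J Λ U (M := M) k) z
  have np := fun z => LinearMap.congr_fun (tau_nat J Λ U (M := M) π) z
  refine ⟨(injective_iff_map_eq_zero _).2 fun z hz => ?_, fun x => ?_⟩
  · obtain ⟨z', rfl⟩ := LinearMap.lTensor_surjective _ hπ z
    have h1 : mapL J Λ U (π.lTensor M) (tau J Λ U M _ z') = 0 := (np z').symm.trans hz
    obtain ⟨w, hw⟩ := (hex _).1 h1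
    obtain ⟨w', rfl⟩ := hG.2 w
    have h2 : k.lTensor _ w' = z' := hF.1 ((nk w').trans hw)
    rw [← h2, ← LinearMap.lTensor_comp_apply, hkπ.linearMap_comp_eq_zero, LinearMap.lTensor_zero, LinearMap.zero_apply]
  · have : Epi (ModuleCat.ofHom (π.lTensor M)) := (ModuleCat.epi_iff_surjective _).2 (LinearMap.lTensor_surjective M hπ)
    obtain ⟨y, rfl⟩ := (ModuleCat.epi_iff_surjective _).1 (epi_map J Λ U (ModuleCat.ofHom (π.lTensor M))) x
    obtain ⟨z, rfl⟩ := hF.2 y
    exact ⟨π.lTensor _ z, np z⟩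

theorem flat_sections (hΛ : ∀ I : Ideal Λ, I.FG → Module.FinitePresentation Λ I) [Module.Flat Λ M] :
    Module.Flat Λ ((Φ J Λ U).obj (ModuleCat.of Λ M) : Type u) := by
  rw [Module.Flat.iff_lTensor_injective]
  intro I hI
  have := hΛ I hI
  have h1 := tau_bijective J Λ U (M := M) I
  have n := fun z => LinearMap.congr_fun (tau_nat J Λ U (M := M) I.subtype) z
  have : Mono (ModuleCat.ofHom (I.subtype.lTensor M)) :=
    (ModuleCat.mono_iff_injective _).2 (Module.Flat.lTensor_preserves_injective_linearMap _ I.injective_subtype)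
  have hm : Function.Injective (mapL J Λ U (I.subtype.lTensor M)) :=
    (ModuleCat.mono_iff_injective _).1 (inferInstanceAs (Mono ((Φ J Λ U).map (ModuleCat.ofHom (I.subtype.lTensor M)))))
  exact fun x y h => h1.1 (hm ((n x).symm.trans ((congrArg (tau J Λ U M Λ) h).trans (n y))))

end GrothLib.ConstTensor2
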