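import Groth.Agent.Lib.LenIneq
import Mathlib.RingTheory.Ideal.MinimalPrime.Noetherian
import Mathlib.RingTheory.Support

/-!
# The length inequality, summed over minimal primes
-/

open Pointwise LinearMap

universe u v

namespace GrothLib.LenIneq

variable {R : Type u} [CommRing R] [IsNoetherianRing R]

/-- Minimal primes of `I` as a finset of points. -/
noncomputable def minPts (I : Ideal R) : Finset (PrimeSpectrum R) :=
  ((Ideal.finite_minimalPrimes_of_isNoetherianRing R I).preimage
    (f := PrimeSpectrum.asIdeal) (fun _ _ _ _ h => PrimeSpectrum.ext h)).toFinset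

theorem mem_minPts {I : Ideal R} {p : PrimeSpectrum R} : p ∈ minPts I ↔ p.asIdeal ∈ I.minimalPrimes :=
  Set.Finite.mem_toFinset _

theorem finsum_minimalPrimes (I : Ideal R) (f : PrimeSpectrum R → ℕ∞) :
    (∑ᶠ p : I.minimalPrimes, f ⟨p.1, p.2.1.1⟩) = ∑ p ∈ minPts I, f p := by
  haveI := (Ideal.finite_minimalPrimes_of_isNoetherianRing R I).fintype
  rw [finsum_eq_sum_of_fintype]
  refine Finset.sum_bij (fun p _ => ⟨p.1, p.2.1.1⟩) (fun p _ => mem_minPts.mpr p.2)
    (fun a _ b _ h => Subtype.ext (congrArg PrimeSpectrum.asIdeal h))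
    (fun q hq => ⟨⟨q.asIdeal, mem_minPts.mp hq⟩, Finset.mem_univ _, rfl⟩) (fun p _ => rfl)

variable [IsLocalRing R] {M : Type v} [AddCommGroup M] [Module R M] [Module.Finite R M]

theorem ne_maximal_iff_minimal (h1 : Module.supportDim R M ≤ 1) (hpos : 0 < Module.supportDim R M)
    {p : PrimeSpectrum R} (hp : p ∈ Module.support R M) :
    p.asIdeal ≠ IsLocalRing.maximalIdeal R ↔ p.asIdeal ∈ (Module.annihilator R M).minimalPrimes := by
  constructor
  · intro h
    refine ⟨⟨p.isPrime, Module.mem_support_iff_of_finite.mp hp⟩, fun J hJ hle => ?_⟩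
    exact (congrArg PrimeSpectrum.asIdeal (GrothLib.LengthQuotX.minimal_of_ne_maximal h1 hp h ⟨J, hJ.1⟩
      (Module.mem_support_iff_of_finite.mpr hJ.2) hle)).ge
  · intro h he
    refine hpos.not_ge ?_
    have : Subsingleton (Module.support R M) := by
      refine ⟨fun a b => Subtype.ext ?_⟩
      have key : ∀ q : PrimeSpectrum R, q ∈ Module.support R M → q = p := fun q hq =>
        PrimeSpectrum.ext (le_antisymm ((IsLocalRing.le_maximalIdeal q.isPrime.ne_top).trans he.ge)
          (h.2 ⟨q.isPrime, Module.mem_support_iff_of_finite.mp hq⟩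
            ((IsLocalRing.le_maximalIdeal q.isPrime.ne_top).trans he.ge)))
      rw [key _ a.2, key _ b.2]
    exact Order.krullDim_nonpos_of_subsingleton

/-- The hypotheses of `main` for `A / tA` Artinian. -/
theorem minimalPrimes_setup (hdim : 0 < ringKrullDim R) (t : R) (ht : t ∈ IsLocalRing.maximalIdeal R)
    (hart : IsArtinianRing (R ⧸ Ideal.span {t})) :
    Module.length R (M ⧸ t • (⊤ : Submodule R M)) ≠ ⊤ ∧
      ∀ p : PrimeSpectrum R, (p.asIdeal ≠ IsLocalRing.maximalIdeal R ↔ p ∈ minPts (⊥ : Ideal R)) := by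
  have h0 : Module.supportDim R (R ⧸ Ideal.span {t}) ≤ 0 := by
    rw [Module.supportDim_quotient_eq_ringKrullDim]
    have := isArtinianRing_iff_krullDimLE_zero.mp hart
    simpa using Ring.krullDimLE_iff.mp this
  constructor
  · refine (GrothLib.FiniteLengthSupp.length_lt_top_of_support_subset ?_ h0).ne
    intro p hp
    rw [Module.support_eq_zeroLocus, Ideal.annihilator_quotient, PrimeSpectrum.mem_zeroLocus]
    have hle := Module.mem_support_iff_of_finite.mp hp
    exact (Ideal.span_singleton_le_iff_mem _).mpr (hle (Module.mem_annihilator.mpr fun m => by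
      obtain ⟨m, rfl⟩ := Submodule.Quotient.mk_surjective _ m
      rw [← Submodule.Quotient.mk_smul, Submodule.Quotient.mk_eq_zero]
      exact Submodule.smul_mem_pointwise_smul m t ⊤ trivial))
  · intro p
    have h1 : Module.supportDim R R ≤ 1 := supportDim_le_one t ht (by
      rw [Module.supportDim_eq_of_equiv (Submodule.quotEquivOfEq (t • (⊤ : Submodule R R)) (Ideal.span {t})
        (by rw [← Submodule.ideal_span_singleton_smul, smul_eq_mul, Ideal.mul_top]))]
      exact h0)
    rw [ne_maximal_iff_minimal h1 (by rwa [Module.supportDim_self_eq_ringKrullDim]) (by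
      rw [Module.mem_support_iff_of_finite, Module.annihilator_eq_bot.mpr inferInstance]
      exact bot_le), Module.annihilator_eq_bot.mpr inferInstance, mem_minPts]

end GrothLib.LenIneq
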