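import Mathlib.RingTheory.DedekindDomain.Different
import Mathlib.RingTheory.RamificationInertia.Ramification
import Mathlib.RingTheory.DiscreteValuationRing.Basic
import Mathlib.LinearAlgebra.Trace

/-!
# The different of a tame extension of discrete valuation rings
-/

attribute [local instance] FractionRing.liftAlgebra FractionRing.isScalarTower_liftAlgebra

namespace GrothLib.TameDifferent

open IsLocalRing

/-- Additivity of the trace in a short exact sequence of vector spaces. -/
theorem trace_eq_add_of_exact {K N V Q : Type*} [Field K] [AddCommGroup N] [Module K N]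
    [AddCommGroup V] [Module K V] [AddCommGroup Q] [Module K Q] [FiniteDimensional K N]
    [FiniteDimensional K V] [FiniteDimensional K Q]
    {i : N →ₗ[K] V} {q : V →ₗ[K] Q} (hi : Function.Injective i) (hq : Function.Surjective q)
    (hex : Function.Exact i q) (f : V →ₗ[K] V) (g : N →ₗ[K] N) (h : Q →ₗ[K] Q)
    (hg : f ∘ₗ i = i ∘ₗ g) (hh : q ∘ₗ f = h ∘ₗ q) :
    LinearMap.trace K V f = LinearMap.trace K N g + LinearMap.trace K Q h := by
  obtain ⟨r, hr⟩ := i.exists_leftInverse_of_injective (LinearMap.ker_eq_bot.mpr hi)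
  have hri : ∀ n, r (i n) = n := fun n => LinearMap.congr_fun hr n
  obtain ⟨s₀, hs₀⟩ := q.exists_rightInverse_of_surjective (LinearMap.range_eq_top.mpr hq)
  set s : Q →ₗ[K] V := s₀ - i ∘ₗ r ∘ₗ s₀
  have hqi : ∀ n, q (i n) = 0 := fun n => (hex (i n)).mpr ⟨n, rfl⟩
  have hqs : ∀ x, q (s x) = x := fun x => by
    simp only [s, LinearMap.sub_apply, LinearMap.comp_apply, map_sub, hqi, sub_zero]
    exact LinearMap.congr_fun hs₀ x
  have hsum : i ∘ₗ r + s ∘ₗ q = LinearMap.id := by
    ext v
    obtain ⟨n, hn⟩ := (hex (v - s₀ (q v))).mp (by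
      rw [map_sub, show q (s₀ (q v)) = q v from LinearMap.congr_fun hs₀ (q v), sub_self])
    have h2 : r v = n + r (s₀ (q v)) := by
      have := congrArg r hn
      rw [hri, map_sub] at this
      rw [this]; abel
    simp only [LinearMap.add_apply, LinearMap.comp_apply, LinearMap.id_apply, s,
      LinearMap.sub_apply, h2, map_add, hn]
    abel
  calc LinearMap.trace K V f
      = LinearMap.trace K V (f ∘ₗ (i ∘ₗ r) + f ∘ₗ (s ∘ₗ q)) := by
        rw [← LinearMap.comp_add, hsum, LinearMap.comp_id]
    _ = LinearMap.trace K V ((i ∘ₗ g) ∘ₗ r) + LinearMap.trace K V ((f ∘ₗ s) ∘ₗ q) := by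
        rw [map_add, ← hg, LinearMap.comp_assoc, LinearMap.comp_assoc]
    _ = LinearMap.trace K N g + LinearMap.trace K Q h := by
        rw [LinearMap.trace_comp_comm' r (i ∘ₗ g), LinearMap.trace_comp_comm' q (f ∘ₗ s)]
        have e1 : r ∘ₗ i ∘ₗ g = g := by ext n; simp [hri]
        have e2 : q ∘ₗ f ∘ₗ s = h := by
          rw [← LinearMap.comp_assoc, hh, LinearMap.comp_assoc]
          ext x; simp [hqs]
        rw [e1, e2]

/-- Trace over `K` of multiplication in a truncated discrete valuation ring. -/
theorem trace_eq_nsmul {K C : Type*} [Field K] [CommRing C] [Algebra K C] [FiniteDimensional K C]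
    (t : C) (e : ℕ) (hte : t ^ e = 0) (ht : ∀ n < e, ∀ c, t ^ (n + 1) ∣ t ^ n * c → t ∣ c)
    (x : C) :
    Algebra.trace K C x =
      e • Algebra.trace K (C ⧸ Ideal.span {t}) (Ideal.Quotient.mk _ x) := by
  have main : ∀ n ≤ e, Algebra.trace K (C ⧸ Ideal.span {t ^ n}) (Ideal.Quotient.mk _ x) =
      n • Algebra.trace K (C ⧸ Ideal.span {t}) (Ideal.Quotient.mk _ x) := by
    intro n
    induction n with
    | zero =>
      intro _
      have : Subsingleton (C ⧸ Ideal.span {t ^ 0}) :=
        Ideal.Quotient.subsingleton_iff.mpr (by simp)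
      rw [Algebra.trace_apply, show Algebra.lmul K _ (Ideal.Quotient.mk _ x) = 0 from
        Subsingleton.elim _ _, map_zero, zero_smul]
    | succ n ih =>
      intro hn
      rw [succ_nsmul', ← ih (by omega)]
      let i : (C ⧸ Ideal.span {t}) →ₗ[K] (C ⧸ Ideal.span {t ^ (n + 1)}) :=
        Submodule.mapQ ((Ideal.span {t}).restrictScalars K)
          ((Ideal.span {t ^ (n + 1)}).restrictScalars K) (LinearMap.mulLeft K (t ^ n))
          (fun c hc => by
            simp only [Submodule.restrictScalars_mem, Ideal.mem_span_singleton] at hc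
            simp only [Submodule.mem_comap, Submodule.restrictScalars_mem, LinearMap.mulLeft_apply,
              Ideal.mem_span_singleton, pow_succ]
            exact mul_dvd_mul_left _ hc)
      let q : (C ⧸ Ideal.span {t ^ (n + 1)}) →ₗ[K] (C ⧸ Ideal.span {t ^ n}) :=
        (Ideal.Quotient.factorₐ K (Ideal.span_singleton_le_span_singleton.mpr
          (pow_dvd_pow t (Nat.le_succ n)))).toLinearMap
      have hi : ∀ c, i (Ideal.Quotient.mk _ c) = Ideal.Quotient.mk _ (t ^ n * c) := fun _ => rfl
      have hq : ∀ c, q (Ideal.Quotient.mk _ c) = Ideal.Quotient.mk _ c := fun _ => rfl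
      refine trace_eq_add_of_exact (i := i) (q := q) ?_ ?_ ?_ _ _ _ ?_ ?_
      · rw [injective_iff_map_eq_zero]
        intro c hc
        obtain ⟨c, rfl⟩ := Ideal.Quotient.mk_surjective c
        rw [hi, Ideal.Quotient.eq_zero_iff_mem, Ideal.mem_span_singleton] at hc
        rw [Ideal.Quotient.eq_zero_iff_mem, Ideal.mem_span_singleton]
        exact ht n (by omega) c hc
      · intro c
        obtain ⟨c, rfl⟩ := Ideal.Quotient.mk_surjective c
        exact ⟨_, hq c⟩
      · intro c
        obtain ⟨c, rfl⟩ := Ideal.Quotient.mk_surjective c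
        rw [hq, Ideal.Quotient.eq_zero_iff_mem, Ideal.mem_span_singleton]
        constructor
        · rintro ⟨d, rfl⟩
          exact ⟨Ideal.Quotient.mk _ d, hi d⟩
        · rintro ⟨d, hd⟩
          obtain ⟨d, rfl⟩ := Ideal.Quotient.mk_surjective d
          rw [hi, Ideal.Quotient.eq, Ideal.mem_span_singleton] at hd
          have h1 := (pow_dvd_pow t (Nat.le_succ n)).trans hd
          have h2 := dvd_sub (dvd_mul_right (t ^ n) d) h1
          rwa [sub_sub_cancel] at h2
      · refine LinearMap.ext fun c => ?_
        obtain ⟨c, rfl⟩ := Ideal.Quotient.mk_surjective c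
        show Ideal.Quotient.mk _ x * i (Ideal.Quotient.mk _ c) =
          i (Ideal.Quotient.mk _ x * Ideal.Quotient.mk _ c)
        rw [← map_mul, hi, hi, ← map_mul, mul_left_comm]
      · refine LinearMap.ext fun c => ?_
        obtain ⟨c, rfl⟩ := Ideal.Quotient.mk_surjective c
        show q (Ideal.Quotient.mk _ x * Ideal.Quotient.mk _ c) =
          Ideal.Quotient.mk _ x * q (Ideal.Quotient.mk _ c)
        rw [← map_mul, hq, hq, ← map_mul]
  rw [← main e le_rfl]
  have hbot : Ideal.span {t ^ e} = (⊥ : Ideal C) := by rw [hte]; simp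
  let ε : (C ⧸ Ideal.span {t ^ e}) ≃ₐ[K] C :=
    (Ideal.quotientEquivAlgOfEq K hbot).trans (AlgEquiv.quotientBot K C)
  rw [← Algebra.trace_eq_of_algEquiv ε]
  rfl

variable (A B : Type*) [CommRing A] [IsDomain A] [IsDiscreteValuationRing A]
  [CommRing B] [IsDomain B] [IsDiscreteValuationRing B] [Algebra A B] [Module.Finite A B]
  [Module.IsTorsionFree A B] [IsLocalHom (algebraMap A B)]

noncomputable instance : Algebra (ResidueField A) (B ⧸ (maximalIdeal A).map (algebraMap A B)) :=
  inferInstanceAs (Algebra (A ⧸ maximalIdeal A) _)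

instance : IsScalarTower A (ResidueField A) (B ⧸ (maximalIdeal A).map (algebraMap A B)) :=
  inferInstanceAs (IsScalarTower A (A ⧸ maximalIdeal A) _)

theorem map_maximalIdeal_eq_pow :
    (maximalIdeal A).map (algebraMap A B) =
      maximalIdeal B ^ Ideal.ramificationIdx (maximalIdeal B) A := by
  have hA : maximalIdeal A ≠ ⊥ := IsDiscreteValuationRing.not_a_field A
  have hne : (maximalIdeal A).map (algebraMap A B) ≠ ⊥ := Ideal.map_ne_bot_of_ne_bot hA
  obtain ⟨π, hπ⟩ := IsDiscreteValuationRing.exists_irreducible B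
  obtain ⟨n, hn⟩ := IsDiscreteValuationRing.ideal_eq_span_pow_irreducible hne hπ
  have hm : maximalIdeal B = Ideal.span {π} := hπ.maximalIdeal_eq
  rw [← Ideal.ramificationIdx'_eq_ramificationIdx (maximalIdeal A) (maximalIdeal B) hA,
    Ideal.ramificationIdx'_spec (n := n)]
  · rw [hn, hm, Ideal.span_singleton_pow]
  · rw [hn, hm, Ideal.span_singleton_pow]
  · rw [hn, hm, Ideal.span_singleton_pow, Ideal.span_singleton_le_span_singleton]
    intro h
    have := (pow_dvd_pow_iff hπ.ne_zero hπ.not_isUnit).mp h
    omega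

theorem trace_quotient_map_eq (x : B) :
    Algebra.trace (ResidueField A) (B ⧸ (maximalIdeal A).map (algebraMap A B))
        (Ideal.Quotient.mk _ x) =
      Ideal.ramificationIdx (maximalIdeal B) A •
        Algebra.trace (ResidueField A) (ResidueField B) (residue B x) := by
  set e := Ideal.ramificationIdx (maximalIdeal B) A with he
  obtain ⟨π, hπ⟩ := IsDiscreteValuationRing.exists_irreducible B
  have hm : maximalIdeal B = Ideal.span {π} := hπ.maximalIdeal_eq
  set I := (maximalIdeal A).map (algebraMap A B)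
  have hI : I = Ideal.span {π ^ e} := by
    rw [← Ideal.span_singleton_pow, ← hm]; exact map_maximalIdeal_eq_pow A B
  have : Module.Finite (ResidueField A) (B ⧸ I) :=
    Module.Finite.of_restrictScalars_finite A (ResidueField A) (B ⧸ I)
  rw [trace_eq_nsmul (Ideal.Quotient.mk I π) e]
  · congr 1
    let T : Ideal (B ⧸ I) := Ideal.span {Ideal.Quotient.mk I π}
    have hle : I ≤ maximalIdeal B := by
      rw [hI, hm, Ideal.span_singleton_le_span_singleton]
      refine dvd_pow_self π ?_
      exact (Ideal.ramificationIdx_pos (maximalIdeal B) A).ne'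
    let φ : (B ⧸ I) →ₐ[ResidueField A] ResidueField B :=
      { toRingHom := Ideal.Quotient.factor hle
        commutes' := fun a => by
          obtain ⟨a, rfl⟩ := Ideal.Quotient.mk_surjective a
          rfl }
    have hφ : Function.Surjective φ := Ideal.Quotient.factor_surjective hle
    have hker : T = RingHom.ker φ := by
      ext c
      obtain ⟨c, rfl⟩ := Ideal.Quotient.mk_surjective c
      have : φ (Ideal.Quotient.mk I c) = residue B c := rfl
      rw [RingHom.mem_ker, this, residue_eq_zero_iff, hm, Ideal.mem_span_singleton,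
        Ideal.mem_span_singleton]
      constructor
      · rintro ⟨d, hd⟩
        obtain ⟨d, rfl⟩ := Ideal.Quotient.mk_surjective d
        rw [← map_mul, Ideal.Quotient.eq, hI, Ideal.mem_span_singleton] at hd
        have h1 := (dvd_pow_self π (Ideal.ramificationIdx_pos (maximalIdeal B) A).ne').trans hd
        have h2 := dvd_add h1 (dvd_mul_right π d)
        rwa [sub_add_cancel] at h2
      · intro h; exact map_dvd _ h
    let ε : ((B ⧸ I) ⧸ T) ≃ₐ[ResidueField A] ResidueField B :=
      (Ideal.quotientEquivAlgOfEq _ hker).trans (Ideal.quotientKerAlgEquivOfSurjective hφ)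
    rw [← Algebra.trace_eq_of_algEquiv ε]
    rfl
  · rw [← map_pow, Ideal.Quotient.eq_zero_iff_mem, hI]
    exact Ideal.mem_span_singleton_self _
  · intro n hn c hc
    obtain ⟨c, rfl⟩ := Ideal.Quotient.mk_surjective c
    obtain ⟨d, hd⟩ := hc
    obtain ⟨d, rfl⟩ := Ideal.Quotient.mk_surjective d
    rw [← map_pow, ← map_pow, ← map_mul, ← map_mul, Ideal.Quotient.eq, hI,
      Ideal.mem_span_singleton] at hd
    refine map_dvd _ ?_
    have h1 := dvd_add ((pow_dvd_pow π (show n + 1 ≤ e by omega)).trans hd)
      (dvd_mul_right (π ^ (n + 1)) d)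
    rw [sub_add_cancel, pow_succ] at h1
    exact (mul_dvd_mul_iff_left (pow_ne_zero n hπ.ne_zero)).mp h1

open nonZeroDivisors in
omit [IsLocalHom (algebraMap A B)] in
theorem differentIdeal_le_map_iff
    [Algebra.IsSeparable (FractionRing A) (FractionRing B)] :
    differentIdeal A B ≤ (maximalIdeal A).map (algebraMap A B) ↔
      ∀ x, Algebra.intTrace A B x ∈ maximalIdeal A := by
  constructor
  · intro h x
    by_contra hx
    exact not_dvd_differentIdeal_of_intTrace_not_mem A
      ((maximalIdeal A).map (algebraMap A B)) ⊤ (Ideal.mul_top _) x trivial hx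
      (Ideal.dvd_iff_le.mpr h)
  · intro h
    obtain ⟨ϖ, hϖ⟩ := IsDiscreteValuationRing.exists_irreducible A
    have hI : (maximalIdeal A).map (algebraMap A B) = Ideal.span {algebraMap A B ϖ} := by
      rw [hϖ.maximalIdeal_eq, Ideal.map_span, Set.image_singleton]
    let K := FractionRing A
    let L := FractionRing B
    have : IsLocalization (Algebra.algebraMapSubmonoid B A⁰) L :=
      IsIntegralClosure.isLocalization _ K _ _
    have : FiniteDimensional K L := .of_isLocalization A B A⁰
    have hne : algebraMap A B ϖ ≠ 0 := by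
      simpa using hϖ.ne_zero
    rw [hI, differentialIdeal_le_iff (K := K) (L := L) (by simpa using hne),
      Submodule.map_le_iff_le_comap]
    intro y hy
    rw [FractionalIdeal.coeIdeal_span_singleton, FractionalIdeal.spanSingleton_inv,
      Submodule.restrictScalars_mem, FractionalIdeal.mem_coe,
      FractionalIdeal.mem_spanSingleton] at hy
    obtain ⟨b, rfl⟩ := hy
    obtain ⟨a, ha⟩ := Ideal.mem_span_singleton.mp (hϖ.maximalIdeal_eq ▸ h b)
    rw [Submodule.mem_comap, Submodule.mem_one]
    refine ⟨a, ?_⟩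
    have h1 := Algebra.algebraMap_intTrace (A := A) (K := K) (L := L) b
    rw [ha, map_mul] at h1
    rw [Algebra.smul_def, ← IsScalarTower.algebraMap_apply A B L,
      IsScalarTower.algebraMap_apply A K L, ← map_inv₀, mul_comm, ← Algebra.smul_def,
      LinearMap.coe_restrictScalars, map_smul, ← h1, smul_eq_mul, ← mul_assoc,
      inv_mul_cancel₀ (IsFractionRing.to_map_ne_zero_of_mem_nonZeroDivisors
        (mem_nonZeroDivisors_of_ne_zero hϖ.ne_zero)), one_mul]

theorem differentIdeal_eq_pow_sub_one_iff
    [Algebra.IsSeparable (FractionRing A) (FractionRing B)] :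
    differentIdeal A B = maximalIdeal B ^ (Ideal.ramificationIdx (maximalIdeal B) A - 1) ↔
      (Algebra.IsSeparable (ResidueField A) (ResidueField B) ∧
        ((Ideal.ramificationIdx (maximalIdeal B) A : ℕ) : ResidueField A) ≠ 0) := by
  have hA : maximalIdeal A ≠ ⊥ := IsDiscreteValuationRing.not_a_field A
  have hepos := Ideal.ramificationIdx_pos (maximalIdeal B) A
  have hmap := map_maximalIdeal_eq_pow A B
  have htr := trace_quotient_map_eq A B
  generalize Ideal.ramificationIdx (maximalIdeal B) A = e at *
  have hdvd : maximalIdeal B ^ (e - 1) ∣ differentIdeal A B :=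
    pow_sub_one_dvd_differentIdeal A _ e hA (dvd_of_eq hmap.symm)
  have step1 : differentIdeal A B = maximalIdeal B ^ (e - 1) ↔
      ¬ differentIdeal A B ≤ (maximalIdeal A).map (algebraMap A B) := by
    obtain ⟨π, hπ⟩ := IsDiscreteValuationRing.exists_irreducible B
    obtain ⟨d, hd⟩ := IsDiscreteValuationRing.ideal_eq_span_pow_irreducible
      (differentIdeal_ne_bot (A := A) (B := B)) hπ
    rw [hmap, hπ.maximalIdeal_eq, Ideal.span_singleton_pow, Ideal.span_singleton_pow, hd,
      Ideal.span_singleton_le_span_singleton, pow_dvd_pow_iff hπ.ne_zero hπ.not_isUnit]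
    rw [hπ.maximalIdeal_eq, Ideal.span_singleton_pow, hd, Ideal.dvd_iff_le,
      Ideal.span_singleton_le_span_singleton, pow_dvd_pow_iff hπ.ne_zero hπ.not_isUnit] at hdvd
    constructor
    · intro h
      have h1 : e - 1 = d := by
        have h2 := Ideal.span_singleton_le_span_singleton.mp h.le
        rw [pow_dvd_pow_iff hπ.ne_zero hπ.not_isUnit] at h2
        have h3 := Ideal.span_singleton_le_span_singleton.mp h.ge
        rw [pow_dvd_pow_iff hπ.ne_zero hπ.not_isUnit] at h3
        omega
      omega
    · intro h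
      rw [show e - 1 = d by omega]
  rw [step1, differentIdeal_le_map_iff]
  have key : ∀ x, Algebra.intTrace A B x ∈ maximalIdeal A ↔
      e • Algebra.trace (ResidueField A) (ResidueField B) (residue B x) = 0 := by
    intro x
    rw [← htr, ← Ideal.Quotient.eq_zero_iff_mem,
      ← Algebra.trace_quotient_eq_of_isDedekindDomain]
    rfl
  simp only [key, nsmul_eq_mul, mul_eq_zero, not_forall, not_or]
  constructor
  · rintro ⟨x, hne, hx⟩
    refine ⟨?_, hne⟩
    by_contra hsep
    exact hx (by rw [Algebra.trace_eq_zero_of_not_isSeparable hsep]; rfl)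
  · rintro ⟨hsep, hne⟩
    obtain ⟨y, hy⟩ := DFunLike.ne_iff.mp (Algebra.trace_ne_zero (ResidueField A) (ResidueField B))
    obtain ⟨x, rfl⟩ := residue_surjective y
    exact ⟨x, hne, hy⟩

end GrothLib.TameDifferent
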