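/-
Injective resolutions of short exact sequences of bounded below complexes.
-/
import Mathlib

set_option autoImplicit false
universe v u

open CategoryTheory Limits HomologicalComplex CochainComplex

namespace Groth.Agent.Horseshoe

variable {A : Type u} [Category.{v} A] [Abelian A]

section FiveLemma

variable {S₁ S₂ : ShortComplex (CochainComplex A ℤ)} (φ : S₁ ⟶ S₂)
  (hS₁ : S₁.ShortExact) (hS₂ : S₂.ShortExact)

include hS₁ hS₂

lemma quasiIso_τ₂ (h₁ : QuasiIso φ.τ₁) (h₃ : QuasiIso φ.τ₃) : QuasiIso φ.τ₂ := by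
  rw [quasiIso_iff]
  intro j
  rw [quasiIsoAt_iff_isIso_homologyMap]
  have e₁ : ∀ i, IsIso (homologyMap φ.τ₁ i) := fun i => by
    rw [← quasiIsoAt_iff_isIso_homologyMap]; infer_instance
  have e₃ : ∀ i, IsIso (homologyMap φ.τ₃ i) := fun i => by
    rw [← quasiIsoAt_iff_isIso_homologyMap]; infer_instance
  have hm : Mono (homologyMap φ.τ₂ j) := by
    apply Abelian.mono_of_epi_of_mono_of_mono
      ((ComposableArrows.δ₀Functor ⋙ ComposableArrows.δ₀Functor).map
        (HomologySequence.mapComposableArrows₅ φ hS₁ hS₂ (j - 1) j (by simp)))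
    · exact (HomologySequence.composableArrows₅_exact hS₁ (j - 1) j (by simp)).δ₀.δ₀
    · exact (HomologySequence.composableArrows₅_exact hS₂ (j - 1) j (by simp)).δ₀.δ₀
    · exact @IsIso.epi_of_iso _ _ _ _ _ (e₃ (j - 1))
    · exact @IsIso.mono_of_iso _ _ _ _ _ (e₁ j)
    · exact @IsIso.mono_of_iso _ _ _ _ _ (e₃ j)
  have he : Epi (homologyMap φ.τ₂ j) := by
    apply Abelian.epi_of_epi_of_epi_of_mono
      ((ComposableArrows.δlastFunctor ⋙ ComposableArrows.δlastFunctor).map
        (HomologySequence.mapComposableArrows₅ φ hS₁ hS₂ j (j + 1) (by simp)))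
    · exact (HomologySequence.composableArrows₅_exact hS₁ j (j + 1) (by simp)).δlast.δlast
    · exact (HomologySequence.composableArrows₅_exact hS₂ j (j + 1) (by simp)).δlast.δlast
    · exact @IsIso.epi_of_iso _ _ _ _ _ (e₁ j)
    · exact @IsIso.epi_of_iso _ _ _ _ _ (e₃ j)
    · exact @IsIso.mono_of_iso _ _ _ _ _ (e₁ (j + 1))
  exact isIso_of_mono_of_epi _

end FiveLemma

lemma isStrictlyGE_X₂ {T : ShortComplex (CochainComplex A ℤ)} (hT : T.ShortExact) (n : ℤ)
    [T.X₁.IsStrictlyGE n] [T.X₃.IsStrictlyGE n] : T.X₂.IsStrictlyGE n := by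
  rw [isStrictlyGE_iff]
  intro i hi
  exact ((hT.map_of_exact (HomologicalComplex.eval A (.up ℤ) i)).exact).isZero_X₂
    ((T.X₁.isZero_of_isStrictlyGE n i hi).eq_of_src _ _)
    ((T.X₃.isZero_of_isStrictlyGE n i hi).eq_of_tgt _ _)

lemma isStrictlyGE_X₃ {T : ShortComplex (CochainComplex A ℤ)} (hT : T.ShortExact) (n : ℤ)
    [T.X₂.IsStrictlyGE n] : T.X₃.IsStrictlyGE n := by
  rw [isStrictlyGE_iff]
  intro i hi
  have := (hT.map_of_exact (HomologicalComplex.eval A (.up ℤ) i)).epi_g
  exact @IsZero.of_epi _ _ _ _ _ ((T.map (HomologicalComplex.eval A (.up ℤ) i)).g) this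
    (T.X₂.isZero_of_isStrictlyGE n i hi)

lemma injective_X₃ {T : ShortComplex A} (hT : T.ShortExact) [Injective T.X₁] [Injective T.X₂] :
    Injective T.X₃ := by
  let s := hT.splittingOfInjective
  constructor
  intro X Y g f _
  obtain ⟨h, hh⟩ := Injective.factors (g ≫ s.s) f
  exact ⟨h ≫ T.g, by rw [← Category.assoc, hh, Category.assoc, s.s_g, Category.comp_id]⟩

lemma isIso_πTruncGE_f (L : CochainComplex A ℤ) (n p : ℤ) (hp : n < p) :
    IsIso ((L.πTruncGE n).f p) := by
  obtain ⟨k, rfl⟩ := Int.le.dest hp.le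
  show IsIso ((HomologicalComplex.πTruncGE L (ComplexShape.embeddingUpIntGE n)).f (n + k))
  have hk : (ComplexShape.embeddingUpIntGE n).f k = n + k := rfl
  dsimp [HomologicalComplex.πTruncGE]
  refine (ComplexShape.Embedding.isIso_liftExtend_f_iff _ _ _ hk).2 ?_
  apply isIso_restrictionToTruncGE'
  rw [ComplexShape.boundaryGE_embeddingUpIntGE_iff]
  omega

/-- The key step: resolve `P` compatibly with a map from an injective complex. -/
theorem exists_mono_extension [EnoughInjectives A] {I P : CochainComplex A ℤ} (f : I ⟶ P) [Mono f]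
    (n : ℤ) [I.IsStrictlyGE n] [P.IsStrictlyGE n] (hf : Mono (homologyMap f n)) :
    ∃ (L : CochainComplex A ℤ) (k : P ⟶ L), L.IsStrictlyGE n ∧ (∀ p, Injective (L.X p)) ∧
      QuasiIso k ∧ Mono (f ≫ k) := by
  have : HasDerivedCategory A := MorphismProperty.HasLocalization.standard _
  obtain ⟨L, i, _, _, hL, _⟩ :=
    CochainComplex.Plus.modelCategoryQuillen.exists_mono_quasiIso_injective P (n - 1) n (by simp)
  have : L.IsGE n := by
    have hK : P.IsGE n := inferInstance
    rw [← DerivedCategory.isGE_Q_obj_iff] at hK ⊢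
    exact DerivedCategory.TStructure.t.isGE_of_iso (asIso (DerivedCategory.Q.map i)) n
  have : QuasiIso (L.πTruncGE n) := (L.quasiIso_πTruncGE_iff n).mpr inferInstance
  have : Injective (L.opcycles n) :=
    L.injective_opcycles (n - 1) n (L.exactAt_of_isGE n (n - 1))
  refine ⟨L.truncGE n, i ≫ L.πTruncGE n, inferInstance, fun q ↦ ?_, inferInstance, ?_⟩
  · obtain h | rfl | h := lt_trichotomy q n
    · exact (CochainComplex.isZero_of_isStrictlyGE _ n _ h).injective
    · exact Injective.of_iso (L.truncGEXIsoOpcycles q).symm inferInstance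
    · exact Injective.of_iso (L.truncGEXIso n q h).symm (hL q)
  · have hmid : ∀ p, n < p → Mono ((f ≫ i ≫ L.πTruncGE n).f p) := fun p hp => by
      have := isIso_πTruncGE_f L n p hp
      rw [HomologicalComplex.comp_f, HomologicalComplex.comp_f]
      infer_instance
    refine HomologicalComplex.mono_of_mono_f _ fun p => ?_
    obtain h | rfl | h := lt_trichotomy p n
    · exact ⟨fun _ _ _ => (I.isZero_of_isStrictlyGE n p h).eq_of_tgt _ _⟩
    · set F := f ≫ i ≫ L.πTruncGE p with hF
      have := hmid (p + 1) (by omega)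
      have hH : Mono (homologyMap F p) := by
        rw [hF, homologyMap_comp]
        have : IsIso (homologyMap (i ≫ L.πTruncGE p) p) := inferInstance
        infer_instance
      rw [Preadditive.mono_iff_cancel_zero]
      intro T t ht
      have hd : t ≫ I.d p (p + 1) = 0 := by
        rw [← cancel_mono (F.f (p + 1)), Category.assoc, ← F.comm, reassoc_of% ht, zero_comp,
          zero_comp]
      let t' := I.liftCycles t (p + 1) (by simp) hd
      have h1 : t' ≫ cyclesMap F p = 0 := by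
        rw [← cancel_mono (iCycles _ p), Category.assoc, cyclesMap_i, liftCycles_i_assoc, ht,
          zero_comp]
      have hiso : IsIso (I.homologyπ p) :=
        I.isIso_homologyπ (p - 1) p (by simp)
          ((I.isZero_of_isStrictlyGE p (p - 1) (by omega)).eq_of_src _ _)
      have h2 : t' = 0 := by
        rw [← cancel_mono (I.homologyπ p), ← cancel_mono (homologyMap F p), Category.assoc,
          homologyπ_naturality, reassoc_of% h1, zero_comp, zero_comp, zero_comp]
      rw [← I.liftCycles_i t (p + 1) (by simp) hd, show I.liftCycles t (p + 1) (by simp) hd = 0 from h2,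
        zero_comp]
    · exact hmid p h

/-- Resolution of a short exact sequence. -/
theorem exists_resolution [EnoughInjectives A] (S : ShortComplex (CochainComplex A ℤ))
    (hS : S.ShortExact) (n : ℤ)
    [S.X₁.IsStrictlyGE n] [S.X₂.IsStrictlyGE n] [S.X₃.IsStrictlyGE n] :
    ∃ (T : ShortComplex (CochainComplex A ℤ)) (φ : S ⟶ T), T.ShortExact ∧
      T.X₁.IsStrictlyGE n ∧ T.X₂.IsStrictlyGE n ∧ T.X₃.IsStrictlyGE n ∧
      (∀ k : ℤ, Injective (T.X₁.X k) ∧ Injective (T.X₂.X k) ∧ Injective (T.X₃.X k)) ∧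
      QuasiIso φ.τ₁ ∧ QuasiIso φ.τ₂ ∧ QuasiIso φ.τ₃ := by
  obtain ⟨L₁, i₁, hi₁, hL₁, hge₁⟩ :=
    CochainComplex.Plus.modelCategoryQuillen.exists_quasiIso_injective S.X₁ n
  have := hS.mono_f
  have := hS.epi_g
  -- the pushout extension
  let q : pushout S.f i₁ ⟶ S.X₃ := pushout.desc S.g 0 (by rw [S.zero, comp_zero])
  have hq : pushout.inl S.f i₁ ≫ q = S.g := pushout.inl_desc _ _ _
  have hzero : pushout.inr S.f i₁ ≫ q = 0 := pushout.inr_desc _ _ _
  let T' : ShortComplex (CochainComplex A ℤ) := ShortComplex.mk (pushout.inr S.f i₁) q hzero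
  have : Epi q := epi_of_epi_fac hq
  have hcok : IsColimit (CokernelCofork.ofπ q hzero) :=
    CokernelCofork.IsColimit.ofπ _ _
      (fun g hg => hS.gIsCokernel.desc (CokernelCofork.ofπ (pushout.inl S.f i₁ ≫ g) (by
        rw [pushout.condition_assoc, hg, comp_zero])))
      (fun g hg => by
        have hfac : S.g ≫ hS.gIsCokernel.desc (CokernelCofork.ofπ (pushout.inl S.f i₁ ≫ g) (by
            rw [pushout.condition_assoc, hg, comp_zero])) = pushout.inl S.f i₁ ≫ g :=
          Cofork.IsColimit.π_desc hS.gIsCokernel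
        apply pushout.hom_ext
        · rw [← Category.assoc, hq, hfac]
        · rw [← Category.assoc, hzero, zero_comp, hg])
      (fun g hg m hm => by
        have hfac : S.g ≫ hS.gIsCokernel.desc (CokernelCofork.ofπ (pushout.inl S.f i₁ ≫ g) (by
            rw [pushout.condition_assoc, hg, comp_zero])) = pushout.inl S.f i₁ ≫ g :=
          Cofork.IsColimit.π_desc hS.gIsCokernel
        rw [← cancel_epi S.g, hfac, ← hm, ← hq, Category.assoc])
  have : Mono T'.f := inferInstanceAs (Mono (pushout.inr S.f i₁))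
  have : Epi T'.g := inferInstanceAs (Epi q)
  have hT' : T'.ShortExact :=
    { exact := T'.exact_of_g_is_cokernel hcok }
  let ψ : S ⟶ T' :=
    { τ₁ := i₁
      τ₂ := pushout.inl _ _
      τ₃ := 𝟙 _
      comm₁₂ := (pushout.condition).symm
      comm₂₃ := by simp [T', hq] }
  have hψ₂ : QuasiIso (pushout.inl S.f i₁) :=
    quasiIso_τ₂ ψ hS hT' hi₁ (inferInstanceAs (QuasiIso (𝟙 S.X₃)))
  have : T'.X₁.IsStrictlyGE n := hge₁
  have : T'.X₃.IsStrictlyGE n := inferInstanceAs (S.X₃.IsStrictlyGE n)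
  have : (pushout S.f i₁).IsStrictlyGE n := isStrictlyGE_X₂ hT' n
  have hH : Mono (homologyMap (pushout.inr S.f i₁) n) :=
    (hT'.homology_exact₁ (n - 1) n (by simp)).mono_g
      (((T'.X₃).isZero_of_isGE n (n - 1) (by omega)).eq_of_src _ _)
  obtain ⟨L₂, k, hge₂, hL₂, hk, hmono⟩ :=
    exists_mono_extension (pushout.inr S.f i₁) n hH
  let f₂ : L₁ ⟶ L₂ := pushout.inr S.f i₁ ≫ k
  let T : ShortComplex (CochainComplex A ℤ) := ShortComplex.mk f₂ (cokernel.π f₂) (by simp)
  have : Mono T.f := hmono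
  have : Epi T.g := inferInstanceAs (Epi (cokernel.π f₂))
  have hT : T.ShortExact :=
    { exact := T.exact_of_g_is_cokernel (cokernelIsCokernel f₂) }
  have hw : S.f ≫ ((pushout.inl S.f i₁ ≫ k) ≫ cokernel.π f₂) = 0 := by
    rw [Category.assoc, pushout.condition_assoc]
    simp only [← Category.assoc (pushout.inr S.f i₁)]
    rw [cokernel.condition, comp_zero]
  let φ : S ⟶ T :=
    { τ₁ := i₁
      τ₂ := pushout.inl S.f i₁ ≫ k
      τ₃ := hS.gIsCokernel.desc (CokernelCofork.ofπ _ hw)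
      comm₁₂ := by simp [T, f₂, pushout.condition_assoc]
      comm₂₃ := (hS.gIsCokernel.fac (CokernelCofork.ofπ _ hw) WalkingParallelPair.one).symm }
  have : T.X₂.IsStrictlyGE n := hge₂
  have hφ₂ : QuasiIso φ.τ₂ := inferInstanceAs (QuasiIso (pushout.inl S.f i₁ ≫ k))
  refine ⟨T, φ, hT, hge₁, hge₂, isStrictlyGE_X₃ hT n, fun m => ⟨hL₁ m, hL₂ m, ?_⟩, hi₁, hφ₂,
    HomologicalComplex.HomologySequence.quasiIso_τ₃ φ hS hT hi₁ hφ₂⟩
  have : Injective (T.map (HomologicalComplex.eval A (.up ℤ) m)).X₁ := hL₁ m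
  have : Injective (T.map (HomologicalComplex.eval A (.up ℤ) m)).X₂ := hL₂ m
  exact injective_X₃ (hT.map_of_exact (HomologicalComplex.eval A (.up ℤ) m))

end Groth.Agent.Horseshoe

namespace Groth.Agent.Horseshoe

open Opposite

variable {A : Type u} [Category.{v} A] [Abelian A]

lemma quasiIso_opEquiv_map_iff {K L : CochainComplex A ℤ} (f : K ⟶ L) :
    QuasiIso ((CochainComplex.opEquivalence A).functor.map f.op) ↔ QuasiIso f := by
  have key : ∀ p : ℤ, QuasiIsoAt ((CochainComplex.opEquivalence A).functor.map f.op) p ↔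
      QuasiIsoAt f (-p) := fun p => by
    rw [quasiIsoAt_iff' _ (p - 1) p (p + 1) (by simp) (by simp),
      quasiIsoAt_iff' f (-(p + 1)) (-p) (-(p - 1)) (by simp; omega) (by simp; omega)]
    exact ShortComplex.quasiIso_opMap_iff
      ((HomologicalComplex.shortComplexFunctor' A (.up ℤ) (-(p + 1)) (-p) (-(p - 1))).map f)
  refine ⟨fun h => ⟨fun p => ?_⟩, fun h => ⟨fun p => (key p).2 inferInstance⟩⟩
  have := (key (-p)).1 inferInstance
  rwa [neg_neg] at this

lemma isStrictlyGE_opEquiv_obj (K : CochainComplex A ℤ) (n : ℤ) [K.IsStrictlyLE n] :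
    ((CochainComplex.opEquivalence A).functor.obj (op K)).IsStrictlyGE (-n) := by
  rw [isStrictlyGE_iff]
  intro i hi
  exact (K.isZero_of_isStrictlyLE n (-i) (by omega)).op

/-- Projective resolution of a short exact sequence. -/
theorem exists_coresolution [EnoughProjectives A] (S : ShortComplex (CochainComplex A ℤ))
    (hS : S.ShortExact) (n : ℤ)
    [S.X₁.IsStrictlyLE n] [S.X₂.IsStrictlyLE n] [S.X₃.IsStrictlyLE n] :
    ∃ (T : ShortComplex (CochainComplex A ℤ)) (φ : T ⟶ S), T.ShortExact ∧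
      T.X₁.IsStrictlyLE n ∧ T.X₂.IsStrictlyLE n ∧ T.X₃.IsStrictlyLE n ∧
      (∀ k : ℤ, Projective (T.X₁.X k) ∧ Projective (T.X₂.X k) ∧ Projective (T.X₃.X k)) ∧
      QuasiIso φ.τ₁ ∧ QuasiIso φ.τ₂ ∧ QuasiIso φ.τ₃ := by
  let E := CochainComplex.opEquivalence A
  let S' : ShortComplex (CochainComplex Aᵒᵖ ℤ) := S.op.map E.functor
  have hS' : S'.ShortExact := hS.op.map_of_exact E.functor
  have : S'.X₁.IsStrictlyGE (-n) := isStrictlyGE_opEquiv_obj S.X₃ n
  have : S'.X₂.IsStrictlyGE (-n) := isStrictlyGE_opEquiv_obj S.X₂ n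
  have : S'.X₃.IsStrictlyGE (-n) := isStrictlyGE_opEquiv_obj S.X₁ n
  obtain ⟨T', φ', hT', g₁, g₂, g₃, hinj, q₁, q₂, q₃⟩ := exists_resolution S' hS' (-n)
  let U : ShortComplex (CochainComplex A ℤ)ᵒᵖ := T'.map E.inverse
  let ψ : S.op ⟶ U :=
    { τ₁ := E.unitIso.hom.app _ ≫ E.inverse.map φ'.τ₁
      τ₂ := E.unitIso.hom.app _ ≫ E.inverse.map φ'.τ₂
      τ₃ := E.unitIso.hom.app _ ≫ E.inverse.map φ'.τ₃
      comm₁₂ := by
        refine (Category.assoc _ _ _).trans ?_
        refine (congrArg (_ ≫ ·) ((E.inverse.map_comp _ _).symm.trans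
          ((congrArg E.inverse.map φ'.comm₁₂).trans (E.inverse.map_comp _ _)))).trans ?_
        exact (E.unitIso.hom.naturality_assoc S.op.f _).symm
      comm₂₃ := by
        refine (Category.assoc _ _ _).trans ?_
        refine (congrArg (_ ≫ ·) ((E.inverse.map_comp _ _).symm.trans
          ((congrArg E.inverse.map φ'.comm₂₃).trans (E.inverse.map_comp _ _)))).trans ?_
        exact (E.unitIso.hom.naturality_assoc S.op.g _).symm }
  have hq : ∀ {K : CochainComplex A ℤ} {M : CochainComplex Aᵒᵖ ℤ} (g : E.functor.obj (op K) ⟶ M),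
      QuasiIso g → QuasiIso (E.unitIso.hom.app (op K) ≫ E.inverse.map g).unop := by
    intro K M g hg
    rw [← quasiIso_opEquiv_map_iff, Quiver.Hom.op_unop, E.functor.map_comp]
    have h1 : QuasiIso (E.functor.map (E.unitIso.hom.app (op K))) := inferInstance
    have h2 : QuasiIso (E.functor.map (E.inverse.map g)) := by
      erw [E.fun_inv_map]
      infer_instance
    infer_instance
  have hX : ∀ (M : CochainComplex Aᵒᵖ ℤ) (k : ℤ), Injective (M.X (-k)) →
      Projective ((E.inverse.obj M).unop.X k) := by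
    intro M k h
    have : Injective (op (unop (M.X (-k)))) := h
    exact Injective.projective_iff_injective_op.2 this
  have hZ : ∀ (M : CochainComplex Aᵒᵖ ℤ), M.IsStrictlyGE (-n) →
      (E.inverse.obj M).unop.IsStrictlyLE n := by
    intro M h
    rw [isStrictlyLE_iff]
    intro i hi
    exact (M.isZero_of_isStrictlyGE (-n) (-i) (by omega)).unop
  have hT : U.unop.ShortExact := (hT'.map_of_exact E.inverse).unop
  exact ⟨U.unop, ShortComplex.unopMap ψ, hT, hZ _ g₃, hZ _ g₂, hZ _ g₁,
    fun k => ⟨hX _ k (hinj (-k)).2.2, hX _ k (hinj (-k)).2.1, hX _ k (hinj (-k)).1⟩,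
    hq φ'.τ₃ q₃, hq φ'.τ₂ q₂, hq φ'.τ₁ q₁⟩

end Groth.Agent.Horseshoe
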