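/-
Frobenius-semilinear systems `A x^(p) - x = b` over strictly henselian local rings.
-/
import Mathlib
import Groth.Agent.Lib.SigmaLin.Basic
import Groth.Agent.Lib.Hensel.MultivarRoot

set_option autoImplicit false
universe u v

open IsLocalRing Polynomial

namespace Groth.Agent.FrobMatrix

section Field

variable {k : Type u} [Field k] [IsSepClosed k] (p : ℕ) [Fact p.Prime] [CharP k p]

lemma exists_ne_zero_root {f : k[X]} (hdeg : 2 ≤ f.natDegree) (hf : f.Separable) :
    ∃ x : k, x ≠ 0 ∧ f.IsRoot x := by
  classical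
  by_contra h
  push Not at h
  have hs : f.Splits := IsSepClosed.splits_of_separable f hf
  have hcard : f.roots.card = f.natDegree := (Polynomial.Splits.natDegree_eq_card_roots hs).symm
  have hnd : f.roots.Nodup := Polynomial.nodup_roots hf
  have : f.roots.toFinset ⊆ {0} := by
    intro x hx
    rw [Multiset.mem_toFinset] at hx
    rw [Finset.mem_singleton]
    by_contra hx0
    exact h x hx0 (Polynomial.isRoot_of_mem_roots hx)
  have := Finset.card_le_card this
  rw [Finset.card_singleton, Multiset.toFinset_card_of_nodup hnd] at this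
  omega

lemma exists_fixed_coeff (n : ℕ) (b : Fin (n + 1) → k) (hb : b ≠ 0) :
    ∃ x : k, x ≠ 0 ∧ x = ∑ i : Fin (n + 1),
      (⇑(frobenius k p))^[i.val + 1] x * (⇑(frobenius k p))^[i.val] (b (Fin.rev i)) := by
  have hp := (Fact.out : p.Prime)
  obtain ⟨j, hj⟩ := Function.ne_iff.1 hb
  let a : Fin (n + 1) → k := fun i => (⇑(frobenius k p))^[i.val] (b (Fin.rev i))
  let f : k[X] := ∑ i : Fin (n + 1), C (a i) * X ^ p ^ (i.val + 1) - X
  have hcoeff : f.coeff (p ^ (j.rev.val + 1)) = a j.rev := by
    simp only [f, coeff_sub, finsetSum_coeff, coeff_C_mul, coeff_X_pow, coeff_X]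
    rw [if_neg (fun h => absurd h.symm (Nat.one_lt_pow (by omega) hp.one_lt).ne'), sub_zero,
      Finset.sum_eq_single j.rev]
    · simp
    · intro i _ hi
      rw [if_neg, mul_zero]
      intro h
      have := Nat.pow_right_injective hp.two_le h
      exact hi (Fin.ext (by omega))
    · simp
  have ha : a j.rev ≠ 0 := by
    simp only [a, Fin.rev_rev, Function.iterate_succ_apply', ne_eq]
    intro h
    apply hj
    rw [iterate_frobenius] at h
    exact pow_eq_zero_iff (pow_ne_zero _ hp.ne_zero) |>.1 h
  have hdeg : 2 ≤ f.natDegree := le_trans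
    (le_trans hp.two_le (Nat.le_self_pow (Nat.succ_ne_zero _) p))
    (le_natDegree_of_ne_zero (by rw [hcoeff]; exact ha))
  have hsep : f.Separable := by
    rw [separable_def]
    have : derivative f = C (-1) := by
      simp [f, derivative_sub, derivative_sum, derivative_X_pow, Nat.cast_pow, CharP.cast_eq_zero k p]
    rw [this]
    exact ⟨0, -1, by simp⟩
  obtain ⟨x, hx0, hx⟩ := exists_ne_zero_root hdeg hsep
  refine ⟨x, hx0, ?_⟩
  simp only [f, IsRoot.def, eval_sub, eval_finsetSum, eval_mul, eval_C, eval_pow, eval_X,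
    sub_eq_zero] at hx
  conv_lhs => rw [← hx]
  refine Finset.sum_congr rfl fun i _ => ?_
  rw [iterate_frobenius, mul_comm]

lemma exists_artinSchreier (c : k) : ∃ y : k, frobenius k p y - y + c = 0 := by
  have hp := (Fact.out : p.Prime)
  let f : k[X] := X ^ p - X + C c
  have hsep : f.Separable := by
    rw [separable_def]
    have : derivative f = C (-1) := by
      simp [f, derivative_X_pow, CharP.cast_eq_zero k p]
    rw [this]
    exact ⟨0, -1, by simp⟩
  have hdeg : f.natDegree = p := by
    have : f = X ^ p + (-X + C c) := by simp [f]; ring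
    rw [this, natDegree_add_eq_left_of_natDegree_lt]
    · simp
    · rw [natDegree_X_pow]
      exact lt_of_le_of_lt ((natDegree_add_le _ _).trans (by simp)) hp.one_lt
  have hne : f.degree ≠ 0 := by
    intro h
    rw [natDegree_eq_of_degree_eq_some h] at hdeg
    exact hp.ne_zero hdeg.symm
  obtain ⟨y, hy⟩ := IsSepClosed.exists_root f hne hsep
  exact ⟨y, by simpa [f, frobenius_def] using hy⟩

lemma natCard_fixed : Nat.card {c : k // c ^ p = c} = p := by
  have hp := (Fact.out : p.Prime)
  letI := ZMod.algebra k p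
  have hinj : Function.Injective (algebraMap (ZMod p) k) := RingHom.injective _
  classical
  have hne : (X ^ p - X : k[X]) ≠ 0 := FiniteField.X_pow_card_sub_X_ne_zero k hp.one_lt
  have key : {c : k | c ^ p = c} = Set.range (algebraMap (ZMod p) k) := by
    symm
    refine Set.eq_of_subset_of_ncard_le ?_ ?_ ?_
    · rintro _ ⟨z, rfl⟩
      show _ = _
      rw [← map_pow, ZMod.pow_card]
    · rw [Set.ncard_range_of_injective hinj, Nat.card_zmod]
      have hsub : {c : k | c ^ p = c} ⊆ ((X ^ p - X : k[X]).roots.toFinset : Set k) := by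
        intro c hc
        simp only [Finset.mem_coe, Multiset.mem_toFinset, mem_roots hne]
        simpa [sub_eq_zero] using hc
      refine (Set.ncard_le_ncard hsub).trans ?_
      rw [Set.ncard_coe_finset]
      refine (Multiset.toFinset_card_le _).trans ((card_roots' _).trans ?_)
      rw [FiniteField.X_pow_card_sub_X_natDegree_eq k hp.one_lt]
    · exact (finite_setOf_isRoot hne).subset (fun c hc => by simpa [sub_eq_zero] using hc)
  show Nat.card {c : k | c ^ p = c} = p
  rw [key, Nat.card_range_of_injective hinj, Nat.card_zmod]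

theorem field_main {n : ℕ} (a : Matrix (Fin n) (Fin n) k)
    (ha : Submodule.span k (Set.range a.col) = ⊤) :
    (∀ b : Fin n → k, ∃ x : Fin n → k, ∀ i, ∑ j, a i j * x j ^ p - x i = b i) ∧
      Nat.card {x : Fin n → k // ∀ i, ∑ j, a i j * x j ^ p = x i} = p ^ n := by
  classical
  let T : (Fin n → k) →ₛₗ[frobenius k p] (Fin n → k) :=
    { toFun := fun x i => ∑ j, a i j * x j ^ p
      map_add' := fun x y => by
        ext i
        simp only [Pi.add_apply, add_pow_char, mul_add, Finset.sum_add_distrib]
      map_smul' := fun c x => by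
        ext i
        simp only [Pi.smul_apply, smul_eq_mul, mul_pow, Finset.mul_sum, frobenius_def]
        exact Finset.sum_congr rfl fun j _ => by ring }
  have h1 : Submodule.span k (Set.range T) = ⊤ := by
    rw [eq_top_iff, ← ha, Submodule.span_le]
    rintro _ ⟨j, rfl⟩
    refine Submodule.subset_span ⟨Pi.single j 1, ?_⟩
    ext i
    show ∑ l, a i l * (Pi.single j (1 : k) : Fin n → k) l ^ p = a i j
    rw [Finset.sum_eq_single j]
    · simp
    · intro l _ hl
      simp [Pi.single_eq_of_ne hl, zero_pow (Fact.out : p.Prime).ne_zero]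
    · simp
  obtain ⟨⟨b, hb⟩, hsurj⟩ := GrothLib.SigmaLin.exists_fixed_basis T h1
    (exists_fixed_coeff p) (exists_artinSchreier p)
  refine ⟨fun c => ?_, ?_⟩
  · obtain ⟨x, hx⟩ := hsurj (-c)
    exact ⟨x, fun i => neg_injective (by simpa [T] using congrFun hx i)⟩
  · have hT : ∀ c : Fin (Module.finrank k (Fin n → k)) → k,
        T (∑ i, c i • b i) = ∑ i, (c i ^ p) • b i := fun c => by
      simp [map_sum, map_smulₛₗ, hb, frobenius_def]
    let e : {x : Fin n → k // ∀ i, ∑ j, a i j * x j ^ p = x i} ≃
        (Fin (Module.finrank k (Fin n → k)) → {c : k // c ^ p = c}) :=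
      { toFun := fun x i => ⟨b.equivFun x.1 i, by
          have h := hT (b.equivFun x.1)
          rw [b.sum_equivFun, ← b.equivFun_symm_apply (fun i => b.equivFun x.1 i ^ p)] at h
          have h' : T x.1 = x.1 := funext x.2
          rw [h'] at h
          have := congrFun ((congrArg b.equivFun h).trans (b.equivFun.apply_symm_apply _)) i
          exact this.symm⟩
        invFun := fun c => ⟨∑ i, (c i : k) • b i, fun l => by
          have h := congrFun (hT fun i => (c i : k)) l
          simp only [(c _).2] at h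
          exact h⟩
        left_inv := fun x => Subtype.ext (b.sum_equivFun x.1)
        right_inv := fun c => funext fun i => Subtype.ext <| by
          show b.equivFun (∑ i, (c i : k) • b i) i = c i
          rw [← b.equivFun_symm_apply fun i => (c i : k), LinearEquiv.apply_symm_apply] }
    rw [Nat.card_congr e, Nat.card_fun, Nat.card_fin, natCard_fixed, Module.finrank_fin_fun]

end Field

variable {R : Type u} [CommRing R] [HenselianLocalRing R] (p : ℕ) [Fact p.Prime] [CharP R p]

lemma charP_residueField : CharP (ResidueField R) p :=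
  (CharP.charP_iff_prime_eq_zero Fact.out).2 (by
    rw [← map_natCast (residue R), CharP.cast_eq_zero, map_zero])

open MvPolynomial in
/-- Hensel lifting of a solution of the residual system. -/
theorem exists_lift {n : ℕ} (a : Matrix (Fin n) (Fin n) R) (b x₀ : Fin n → R)
    (h₀ : ∀ i, ∑ j, a i j * x₀ j ^ p - x₀ i - b i ∈ maximalIdeal R) :
    ∃ x : Fin n → R, (∀ i, ∑ j, a i j * x j ^ p - x i = b i) ∧
      ∀ j, x j - x₀ j ∈ maximalIdeal R := by
  classical
  let F : Fin n → MvPolynomial (Fin n) R := fun i =>
    ∑ j, MvPolynomial.C (a i j) * MvPolynomial.X j ^ p - MvPolynomial.X i - MvPolynomial.C (b i)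
  have hJ : Matrix.of (fun i j => MvPolynomial.eval x₀ (pderiv j (F i))) = -1 := by
    ext i j
    simp only [F, Matrix.of_apply, map_sub, map_sum, pderiv_C, Derivation.leibniz,
      Derivation.leibniz_pow, MvPolynomial.pderiv_X, nsmul_eq_mul, CharP.cast_eq_zero, zero_mul,
      mul_zero, smul_zero, smul_eq_mul, Pi.single_apply, Matrix.neg_apply, Matrix.one_apply]
    split_ifs <;> simp_all
  obtain ⟨x, hx, hx₀⟩ := GrothLib.Hensel.exists_multivariate_root (I := maximalIdeal R) F x₀
    (fun i => by simpa [F] using h₀ i)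
    (by rw [hJ, Matrix.det_neg, Matrix.det_one, mul_one]; exact (isUnit_one.neg.pow _).map _)
  exact ⟨x, fun i => by simpa [F, sub_eq_zero] using hx i, hx₀⟩

theorem exists_solution [IsSepClosed (ResidueField R)] {n : ℕ} (a : Matrix (Fin n) (Fin n) R)
    (ha : Submodule.span (ResidueField R) (Set.range (a.map (residue R)).col) = ⊤)
    (b : Fin n → R) : ∃ x : Fin n → R, ∀ i, ∑ j, a i j * x j ^ p - x i = b i := by
  haveI := charP_residueField (R := R) p
  obtain ⟨y, hy⟩ := (field_main p _ ha).1 fun i => residue R (b i)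
  choose x₀ hx₀ using fun j => residue_surjective (y j)
  obtain ⟨x, hx, -⟩ := exists_lift p a b x₀ fun i => by
    rw [← residue_eq_zero_iff]
    simp [hx₀, sub_eq_zero]
    simpa using hy i
  exact ⟨x, hx⟩

/-- fixed vectors congruent modulo the maximal ideal are equal -/
theorem eq_zero_of_fixed {n : ℕ} (a : Matrix (Fin n) (Fin n) R) (d : Fin n → R)
    (hd : ∀ j, d j ∈ maximalIdeal R) (hfix : ∀ i, ∑ j, a i j * d j ^ p = d i) : d = 0 := by
  classical
  let N : Matrix (Fin n) (Fin n) R := 1 - a * Matrix.diagonal fun j => d j ^ (p - 1)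
  have hN : N.mulVec d = 0 := by
    ext i
    simp only [N, Matrix.sub_mulVec, Matrix.one_mulVec, Pi.sub_apply, Pi.zero_apply, sub_eq_zero]
    simp only [Matrix.mulVec, dotProduct, Matrix.mul_diagonal, mul_assoc,
      pow_sub_one_mul (Fact.out : p.Prime).ne_zero]
    exact (hfix i).symm
  have hmap : (residue R).mapMatrix N = 1 := by
    rw [map_sub, map_one, map_mul, sub_eq_self]
    have : (residue R).mapMatrix (Matrix.diagonal fun j => d j ^ (p - 1)) = 0 := by
      ext i j
      by_cases h : i = j
      · subst h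
        simp [(residue_eq_zero_iff (d i)).2 (hd i),
          Nat.sub_ne_zero_of_lt (Fact.out : p.Prime).one_lt]
      · simp [Matrix.diagonal_apply_ne _ h]
    rw [this, mul_zero]
  have hu : IsUnit N.det := by
    rw [← notMem_maximalIdeal, ← residue_eq_zero_iff, RingHom.map_det, hmap, Matrix.det_one]
    exact one_ne_zero
  exact Matrix.mulVec_injective_of_isUnit ((Matrix.isUnit_iff_isUnit_det N).2 hu)
    (hN.trans (Matrix.mulVec_zero N).symm)

theorem natCard_fixed_vectors [IsSepClosed (ResidueField R)] {n : ℕ}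
    (a : Matrix (Fin n) (Fin n) R)
    (ha : Submodule.span (ResidueField R) (Set.range (a.map (residue R)).col) = ⊤) :
    Nat.card {x : Fin n → R // ∀ i, ∑ j, a i j * x j ^ p = x i} = p ^ n := by
  haveI := charP_residueField (R := R) p
  rw [← (field_main p _ ha).2]
  let f : {x : Fin n → R // ∀ i, ∑ j, a i j * x j ^ p = x i} →
      {y : Fin n → ResidueField R // ∀ i, ∑ j, (a.map (residue R)) i j * y j ^ p = y i} :=
    fun x => ⟨fun j => residue R (x.1 j), fun i => by simp [← x.2 i]⟩
  refine Nat.card_eq_of_bijective f ⟨fun x x' h => ?_, fun y => ?_⟩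
  · refine Subtype.ext (sub_eq_zero.1 (eq_zero_of_fixed p a (x.1 - x'.1) (fun j => ?_) fun i => ?_))
    · rw [← residue_eq_zero_iff, Pi.sub_apply, map_sub, sub_eq_zero]
      exact congrFun (congrArg Subtype.val h) j
    · simp [sub_pow_char, mul_sub, x.2 i, x'.2 i]
  · choose x₀ hx₀ using fun j => residue_surjective (y.1 j)
    obtain ⟨x, hx, hx'⟩ := exists_lift p a 0 x₀ fun i => by
      rw [← residue_eq_zero_iff]
      simp [hx₀, sub_eq_zero]
      simpa using y.2 i
    refine ⟨⟨x, fun i => sub_eq_zero.1 (hx i)⟩, Subtype.ext (funext fun j => ?_)⟩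
    show residue R (x j) = y.1 j
    rw [← hx₀ j, ← sub_eq_zero, ← map_sub, residue_eq_zero_iff]
    exact hx' j

end Groth.Agent.FrobMatrix

namespace Groth.Agent.FrobMatrix

variable {R : Type u} [CommRing R] [HenselianLocalRing R] (p : ℕ) [Fact p.Prime] [CharP R p]
  {M : Type v} [AddCommGroup M] [Module R M]

/-- the residual columns span when the values of `T` span -/
lemma span_residual {n : ℕ} (f : (Fin n → R) →ₗ[R] M) (hf : Function.Surjective f)
    (hker : ∀ d, f d = 0 → ∀ i, d i ∈ maximalIdeal R) (a : Matrix (Fin n) (Fin n) R)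
    (hspan : Submodule.span R (Set.range fun j => f (a.col j)) = ⊤) :
    Submodule.span (ResidueField R) (Set.range (a.map (residue R)).col) = ⊤ := by
  rw [eq_top_iff]
  intro y _
  choose x hx using fun j => residue_surjective (y j)
  obtain ⟨c, hc⟩ := (Submodule.mem_span_range_iff_exists_fun R).1
    (hspan.ge (Submodule.mem_top (x := f x)))
  rw [Submodule.mem_span_range_iff_exists_fun]
  refine ⟨fun j => residue R (c j), funext fun i => ?_⟩
  have := hker (x - ∑ j, c j • a.col j) (by simp [← hc]) i
  rw [← residue_eq_zero_iff, Pi.sub_apply, map_sub, sub_eq_zero] at this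
  rw [← hx i, this]
  simp [Finset.sum_apply]

lemma map_system {n : ℕ} (f : (Fin n → R) →ₗ[R] M) (T : M →+ M)
    (hT : ∀ (r : R) (m : M), T (r • m) = r ^ p • T m) (a : Matrix (Fin n) (Fin n) R)
    (ha : ∀ j, f (a.col j) = T (f (Pi.single j 1))) (x : Fin n → R) :
    f (fun i => ∑ j, a i j * x j ^ p) = T (f x) := by
  have h1 : x = ∑ j, x j • Pi.single j (1 : R) := by
    ext i
    simp [Finset.sum_apply, Pi.single_apply]
  have h2 : (fun i => ∑ j, a i j * x j ^ p) = ∑ j, x j ^ p • a.col j := by
    ext i
    simp [Finset.sum_apply, mul_comm]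
  conv_rhs => rw [h1]
  simp [h2, map_sum, ha, hT]

theorem surjective_sub_id [IsSepClosed (ResidueField R)] {n : ℕ} (f : (Fin n → R) →ₗ[R] M)
    (hf : Function.Surjective f) (T : M →+ M)
    (hT : ∀ (r : R) (m : M), T (r • m) = r ^ p • T m) (a : Matrix (Fin n) (Fin n) R)
    (ha : ∀ j, f (a.col j) = T (f (Pi.single j 1)))
    (hcol : Submodule.span (ResidueField R) (Set.range (a.map (residue R)).col) = ⊤) :
    Function.Surjective (fun m => T m - m) := by
  intro m
  obtain ⟨b, rfl⟩ := hf m
  obtain ⟨x, hx⟩ := exists_solution p a hcol b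
  refine ⟨f x, ?_⟩
  show T (f x) - f x = f b
  rw [← map_system p f T hT a ha, ← map_sub]
  exact congrArg f (funext hx)

end Groth.Agent.FrobMatrix
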