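/-
Elements of the Galois group of a strictly henselian discretely valued field fixing an `r`-th root
of a uniformizer are products of two `r`-th powers (`r` invertible in the residue field).
-/
import Mathlib
import Groth.Agent.Lib.Hensel.Local
import Groth.Agent.Lib.InertiaFilt.Basic

set_option autoImplicit false
universe u

open IsLocalRing
open scoped Pointwise

namespace Groth.Agent.FundChar

/-- a finite domain over a henselian local ring is local -/
lemma isLocalRing_of_finite {R S : Type u} [CommRing R] [HenselianLocalRing R] [CommRing S]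
    [IsDomain S] [Algebra R S] [Module.Finite R S] : IsLocalRing S := by
  obtain ⟨_, e, he, hne, huniq, -⟩ :=
    GrothLib.Hensel.exists_completeOrthogonalIdempotents_isLocalRing (R := R) (S := S)
  refine IsLocalRing.of_unique_max_ideal ?_
  obtain ⟨m, hm⟩ := Ideal.exists_maximal S
  refine ⟨m, hm, fun m' hm' => ?_⟩
  by_contra hne'
  have h1 : ∀ i, e i = 1 := fun i => by
    refine ((IsIdempotentElem.iff_eq_zero_or_one).1 (he.idem i)).resolve_left fun h => hne i ?_
    rw [h]
    exact zero_mem _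
  have := he.ortho (i := ⟨m, hm⟩) (j := ⟨m', hm'⟩)
    (fun h => hne' (congrArg MaximalSpectrum.asIdeal h).symm)
  simp [h1] at this

variable {B : Type u} [CommRing B] [IsDomain B] [IsNoetherianRing B] {G : Type u} [Group G]
  [MulSemiringAction G B]

/-- an element fixing residues and a uniformizer mod `m ^ 2`, of order invertible mod `m`,
acts trivially -/
lemma smul_eq_self {m : Ideal B} [m.IsMaximal] {g : G} {l : ℕ} (hl : (l : B) ∉ m)
    (hgl : g ^ l = 1) (hres : g ∈ m.inertia G) {π : B} (hπ : m = Ideal.span {π})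
    (hfix : g • π - π ∈ m ^ 2) (x : B) : g • x = x := by
  have hm : ∀ y ∈ m, g • y - y ∈ m ^ 2 := by
    intro y hy
    rw [hπ, Ideal.mem_span_singleton'] at hy
    obtain ⟨c, rfl⟩ := hy
    rw [show g • (c * π) - c * π = (g • c - c) * (g • π) + c * (g • π - π) by rw [smul_mul']; ring]
    refine Ideal.add_mem _ ?_ (Ideal.mul_mem_left _ _ hfix)
    rw [pow_two]
    refine Ideal.mul_mem_mul (hres c) ?_
    have := m.add_mem (hres π) (show π ∈ m by rw [hπ]; exact Ideal.mem_span_singleton_self π)
    rwa [sub_add_cancel] at this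
  refine GrothLib.InertiaFilt.smul_eq_self_of_pow_eq_one hl hgl (fun x => ?_) x
  have key : ∀ j : ℕ, (g ^ j) • x - x - (j : B) * (g • x - x) ∈ m ^ 2 := by
    intro j
    induction j with
    | zero => simp
    | succ j ih =>
      have hd : g • ((g ^ j) • x - x) - ((g ^ j) • x - x) ∈ m ^ 2 := by
        refine hm _ ?_
        have := m.add_mem (Ideal.pow_le_self two_ne_zero ih) (m.mul_mem_left (j : B) (hres x))
        rwa [sub_add_cancel] at this
      rw [show (g ^ (j + 1)) • x - x - ((j + 1 : ℕ) : B) * (g • x - x) =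
        ((g ^ j) • x - x - (j : B) * (g • x - x)) +
          (g • ((g ^ j) • x - x) - ((g ^ j) • x - x)) by
        rw [pow_succ', mul_smul, smul_sub]; push_cast; ring]
      exact Ideal.add_mem _ ih hd
  have h1 : (l : B) * (g • x - x) ∈ m ^ 2 := by
    have := key l
    rwa [hgl, one_smul, sub_self, zero_sub, neg_mem_iff] at this
  have htop : Ideal.span {(l : B)} ⊔ m ^ 2 = ⊤ :=
    Ideal.sup_pow_eq_top (by
      rw [sup_comm]
      exact (Ideal.IsMaximal.out (I := m)).2 _ (lt_of_le_of_ne le_sup_left fun e => hl (e ▸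
        Ideal.mem_sup_right (Ideal.mem_span_singleton_self _))))
  obtain ⟨a, ha, b, hb, hab⟩ := Submodule.mem_sup.mp ((Ideal.eq_top_iff_one _).mp htop)
  obtain ⟨c, rfl⟩ := Ideal.mem_span_singleton'.mp ha
  rw [show g • x - x = c * ((l : B) * (g • x - x)) + b * (g • x - x) by
    rw [← mul_assoc, ← add_mul, hab, one_mul]]
  exact Ideal.add_mem _ (Ideal.mul_mem_left _ _ h1) (Ideal.mul_mem_right _ _ hb)

variable (R : Type u) [CommRing R] [IsDomain R] [IsDiscreteValuationRing R] [HenselianLocalRing R]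
  [IsSepClosed (ResidueField R)] (K : Type u) [Field K] [Algebra R K] [IsFractionRing R K]
  (L : Type u) [Field L] [Algebra K L] [FiniteDimensional K L] [IsGalois K L]

theorem finite_level' (B : Type u) [CommRing B] [IsDomain B] [Algebra R L] [IsScalarTower R K L]
    [Algebra R B] [Algebra B L] [IsScalarTower R B L] [IsIntegralClosure B R L] {r : ℕ} [NeZero r]
    (hr : IsUnit (r : R)) (η : L) (hη : IsPrimitiveRoot η r) (ρ : L) (hρr : ∀ g : L ≃ₐ[K] L, g ρ ^ r = ρ ^ r)
    (hρ0 : ρ ≠ 0)
    (htrans : ∀ ζ : L, ζ ^ r = 1 → ∃ g : L ≃ₐ[K] L, g ρ = ζ * ρ) :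
    (∀ (g : L ≃ₐ[K] L) (ζ : L), ζ ^ r = 1 → g ζ = ζ) ∧
      (∀ h : L ≃ₐ[K] L, h ρ = ρ → ∃ a b : L ≃ₐ[K] L, h = a ^ r * b ^ r) := by
  classical
  letI := IsIntegralClosure.MulSemiringAction R K L B
  haveI : IsIntegrallyClosed R := inferInstance
  haveI : Algebra.IsIntegral R B := IsIntegralClosure.isIntegral_algebra R L
  haveI : Module.Finite R B := IsIntegralClosure.finite R K L B
  haveI : IsFractionRing B L := IsIntegralClosure.isFractionRing_of_finite_extension R K L B
  haveI : IsDedekindDomain B := IsIntegralClosure.isDedekindDomain R K L B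
  haveI hgal : IsGaloisGroup (L ≃ₐ[K] L) R B := IsGaloisGroup.of_isFractionRing _ _ _ K L
  haveI : SMulCommClass (L ≃ₐ[K] L) R B := hgal.commutes
  haveI : IsLocalRing B := isLocalRing_of_finite (R := R)
  haveI : IsNoetherianRing B := inferInstance
  have hcoe : ∀ (g : L ≃ₐ[K] L) (x : B), algebraMap B L (g • x) = g (algebraMap B L x) :=
    fun g x => algebraMap_galRestrict_apply R g x
  have hinjB : Function.Injective (algebraMap B L) := IsFractionRing.injective B L
  set m : Ideal B := maximalIdeal B with hm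
  haveI : IsLocalHom (algebraMap R B) := by
    refine ((local_hom_TFAE (algebraMap R B)).out 0 4).2 ?_
    exact IsLocalRing.eq_maximalIdeal
      (Ideal.isMaximal_comap_of_isIntegral_of_isMaximal (maximalIdeal B))
  -- residual triviality
  have hres : ∀ g : L ≃ₐ[K] L, g ∈ m.inertia (L ≃ₐ[K] L) := by
    intro g x
    haveI : Module.Finite (ResidueField R) (ResidueField B) :=
      IsLocalRing.ResidueField.finite_of_module_finite
    haveI : IsPurelyInseparable (ResidueField R) (ResidueField B) :=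
      Algebra.IsAlgebraic.isPurelyInseparable_of_isSepClosed
    let f : ResidueField B →ₐ[ResidueField R] ResidueField B :=
      { toRingHom := ResidueField.map ((MulSemiringAction.toRingEquiv _ B g : B ≃+* B) : B →+* B)
        commutes' := fun c => by
          obtain ⟨c, rfl⟩ := residue_surjective c
          show ResidueField.map _ (residue B (algebraMap R B c)) = residue B (algebraMap R B c)
          rw [ResidueField.map_residue]
          exact congrArg (residue B) (smul_algebraMap g c) }
    have : residue B (g • x) = residue B x := by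
      have := AlgHom.congr_fun (Subsingleton.elim f (AlgHom.id _ _)) (residue B x)
      simpa [f, ResidueField.map_residue] using this
    show g • x - x ∈ m
    rwa [hm, ← residue_eq_zero_iff, map_sub, sub_eq_zero]
  -- roots of unity are fixed
  have hrB : IsUnit (r : B) := by simpa using hr.map (algebraMap R B)
  have hfixζ : ∀ (g : L ≃ₐ[K] L) (ζ : L), ζ ^ r = 1 → g ζ = ζ := by
    intro g ζ hζ
    have hζint : IsIntegral R ζ := IsIntegral.of_pow (NeZero.pos r) (by rw [hζ]; exact isIntegral_one)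
    obtain ⟨z, rfl⟩ := (IsIntegralClosure.isIntegral_iff (A := B)).1 hζint
    have hz : z ^ r = 1 := hinjB (by rw [map_pow, map_one]; exact hζ)
    let w : B := (g • z) * z ^ (r - 1)
    have hw : w ^ r = 1 := by
      rw [mul_pow, ← pow_mul, mul_comm (r - 1), pow_mul, hz, one_pow, mul_one, ← smul_pow', hz,
        smul_one]
    have hw1 : residue B w = 1 := by
      have : residue B (g • z) = residue B z := by
        rw [← sub_eq_zero, ← map_sub, residue_eq_zero_iff]; exact hres g z
      rw [map_mul, map_pow, this, ← pow_succ', Nat.sub_one_add_one (NeZero.ne r), ← map_pow, hz,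
        map_one]
    have hsum : IsUnit (∑ i ∈ Finset.range r, w ^ i) := by
      rw [← residue_ne_zero_iff_isUnit, map_sum]
      simp only [map_pow, hw1, one_pow, Finset.sum_const, Finset.card_range, nsmul_one]
      rw [← map_natCast (residue B), residue_ne_zero_iff_isUnit]
      exact hrB
    have hgeom : (w - 1) * (∑ i ∈ Finset.range r, w ^ i) = 0 := by
      rw [mul_geom_sum, hw, sub_self]
    have hw' : w = 1 := sub_eq_zero.1 (by simpa [hsum.ne_zero] using hgeom)
    have : g • z = z := by
      calc g • z = g • z * z ^ r := by rw [hz, mul_one]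
        _ = w * z := by rw [mul_assoc, ← pow_succ, Nat.sub_one_add_one (NeZero.ne r)]
        _ = z := by rw [hw', one_mul]
    rw [← hcoe, this]
  refine ⟨hfixζ, fun h hh => ?_⟩
  -- the tame character
  obtain ⟨π, hπ⟩ : ∃ π : B, m = Ideal.span {π} :=
    (IsPrincipalIdealRing.principal m).principal
  have hπm : π ∈ m := by rw [hπ]; exact Ideal.mem_span_singleton_self π
  have hu : ∀ g : L ≃ₐ[K] L, ∃ u : B, g • π = u * π := by
    intro g
    have : g • π ∈ m := by
      have := m.add_mem (hres g π) hπm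
      rwa [sub_add_cancel] at this
    rw [hπ, Ideal.mem_span_singleton'] at this
    obtain ⟨u, hu⟩ := this
    exact ⟨u, hu.symm⟩
  have hπ0 : π ≠ 0 := by
    intro h0
    rw [h0, Ideal.span_singleton_zero, hm] at hπ
    have hϖ : ∃ c : R, c ≠ 0 ∧ c ∈ maximalIdeal R :=
      Submodule.exists_mem_ne_zero_of_ne_bot (IsDiscreteValuationRing.not_a_field R) |>.imp
        fun _ h => ⟨h.2, h.1⟩
    obtain ⟨c, hc0, hc⟩ := hϖ
    have : algebraMap R B c ∈ maximalIdeal B := map_nonunit (algebraMap R B) c hc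
    rw [hπ, Ideal.mem_bot] at this
    refine hc0 (IsFractionRing.injective R K ((algebraMap K L).injective ?_))
    rw [← IsScalarTower.algebraMap_apply, map_zero, map_zero, IsScalarTower.algebraMap_apply R B L,
      this, map_zero]
  choose u hu using hu
  let θ : (L ≃ₐ[K] L) →* ResidueField B :=
    { toFun := fun g => residue B (u g)
      map_one' := by
        have := hu 1
        rw [one_smul] at this
        rw [← mul_right_cancel₀ hπ0 ((one_mul π).trans this), map_one]
      map_mul' := fun g g' => by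
        have h1 : u (g * g') = (g • u g') * u g := by
          refine mul_right_cancel₀ hπ0 ?_
          rw [← hu, mul_smul, hu g', smul_mul', hu g, mul_assoc]
        rw [h1, map_mul, mul_comm]
        congr 1
        rw [← sub_eq_zero, ← map_sub, residue_eq_zero_iff]
        exact hres g _ }
  -- the kernel consists of `r`-th powers
  have hker : ∀ g : L ≃ₐ[K] L, θ g = 1 → ∃ b, g = b ^ r := by
    intro g hg
    have hfix : ∀ k : ℕ, (g ^ k) • π - π ∈ m ^ 2 := by
      intro k
      rw [hu, show u (g ^ k) * π - π = (u (g ^ k) - 1) * π by ring, pow_two]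
      refine Ideal.mul_mem_mul ?_ hπm
      rw [hm, ← residue_eq_zero_iff, map_sub, map_one, sub_eq_zero]
      show θ (g ^ k) = 1
      rw [map_pow, hg, one_pow]
    have hcop : (orderOf g).Coprime r := by
      rw [Nat.coprime_iff_gcd_eq_one]
      by_contra hne
      obtain ⟨l, hl, hdvd⟩ := Nat.exists_prime_and_dvd hne
      obtain ⟨k, hk⟩ := hdvd.trans (Nat.gcd_dvd_left _ _)
      obtain ⟨j, hj⟩ := hdvd.trans (Nat.gcd_dvd_right _ _)
      have hlB : (l : B) ∉ m := by
        intro hlm
        rw [hm, mem_maximalIdeal, mem_nonunits_iff] at hlm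
        refine hlm (isUnit_of_mul_isUnit_left (y := (j : B)) ?_)
        rw [← Nat.cast_mul, ← hj]
        exact hrB
      have hgk : (g ^ k) ^ l = 1 := by
        rw [← pow_mul, mul_comm, ← hk, pow_orderOf_eq_one]
      have h1 : g ^ k = 1 := by
        refine AlgEquiv.ext fun y => ?_
        obtain ⟨a, s, hs, rfl⟩ := IsFractionRing.div_surjective B y
        rw [map_div₀, AlgEquiv.one_apply]
        congr 1 <;>
        · refine (hcoe _ _).symm.trans (congrArg (algebraMap B L) ?_)
          exact smul_eq_self hlB hgk (hres _) hπ (hfix k) _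
      have hpos : 0 < k := by
        rcases Nat.eq_zero_or_pos k with h0 | h0
        · rw [h0, mul_zero] at hk
          exact absurd hk (orderOf_pos g).ne'
        · exact h0
      have := orderOf_le_of_pow_eq_one hpos h1
      rw [hk] at this
      have h2 : 2 * k ≤ l * k := Nat.mul_le_mul_right _ hl.two_le
      omega
    obtain ⟨b, hb⟩ := exists_pow_eq_self_of_coprime hcop.symm
    exact ⟨g ^ b, by rw [← pow_mul, mul_comm b r, pow_mul]; exact hb.symm⟩
  -- the image is cyclic
  haveI : IsCyclic θ.toHomUnits.range := inferInstance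
  obtain ⟨⟨c0, g0, hg0⟩, hgen⟩ := IsCyclic.exists_generator (α := θ.toHomUnits.range)
  have hdec : ∀ g : L ≃ₐ[K] L, ∃ (i : ℤ) (b : L ≃ₐ[K] L), g = g0 ^ i * b ^ r := by
    intro g
    obtain ⟨i, hi⟩ := Subgroup.mem_zpowers_iff.1 (hgen ⟨θ.toHomUnits g, g, rfl⟩)
    have hi' : θ.toHomUnits (g0 ^ i) = θ.toHomUnits g := by
      rw [map_zpow, hg0]
      exact congrArg Subtype.val hi
    obtain ⟨b, hb⟩ := hker ((g0 ^ i)⁻¹ * g) (by
      have : θ.toHomUnits ((g0 ^ i)⁻¹ * g) = 1 := by rw [map_mul, map_inv, hi', inv_mul_cancel]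
      simpa using congrArg Units.val this)
    exact ⟨i, b, by rw [← hb, mul_inv_cancel_left]⟩
  -- the `r`-th root
  have hroot : ∀ g : L ≃ₐ[K] L, ∀ n : ℕ, ∀ ζ : L, ζ ^ r = 1 → g ρ = ζ * ρ →
      (g ^ n) ρ = ζ ^ n * ρ := by
    intro g n ζ hζ hg
    induction n with
    | zero => simp
    | succ n ih =>
      rw [pow_succ', AlgEquiv.mul_apply, ih, map_mul, map_pow, hfixζ g ζ hζ, hg]
      ring
  have hzeta : ∀ g : L ≃ₐ[K] L, ∃ ζ : L, ζ ^ r = 1 ∧ g ρ = ζ * ρ := fun g =>
    ⟨g ρ / ρ, by rw [div_pow, hρr g, div_self (pow_ne_zero _ hρ0)],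
      (div_mul_cancel₀ _ hρ0).symm⟩
  obtain ⟨ζ0, hζ0, hg0ρ⟩ := hzeta g0
  have hpowr : ∀ b : L ≃ₐ[K] L, (b ^ r) ρ = ρ := fun b => by
    obtain ⟨ζ, hζ, hb⟩ := hzeta b
    rw [hroot b r ζ hζ hb, hζ, one_mul]
  have hord : ∀ g : L ≃ₐ[K] L, ∃ (n : ℕ) (b : L ≃ₐ[K] L), g = g0 ^ n * b ^ r ∧ g ρ = ζ0 ^ n * ρ := by
    intro g
    obtain ⟨i, b, rfl⟩ := hdec g
    obtain ⟨n, hn⟩ : ∃ n : ℕ, g0 ^ i = g0 ^ n := by
      have := Subgroup.zpow_mem_zpowers g0 i
      rw [← mem_powers_iff_mem_zpowers, Submonoid.mem_powers_iff] at this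
      exact this.imp fun n h => h.symm
    refine ⟨n, b, by rw [hn], ?_⟩
    rw [AlgEquiv.mul_apply, hpowr, hn, hroot g0 n ζ0 hζ0 hg0ρ]
  have hprim : IsPrimitiveRoot ζ0 r := by
    obtain ⟨g, hg⟩ := htrans η hη.pow_eq_one
    obtain ⟨n, -, -, hn⟩ := hord g
    rw [hg] at hn
    have hηn : η = ζ0 ^ n := mul_right_cancel₀ hρ0 hn
    refine ⟨hζ0, fun l hl => hη.dvd_of_pow_eq_one l ?_⟩
    rw [hηn, ← pow_mul, mul_comm, pow_mul, hl, one_pow]
  obtain ⟨n, b, rfl, hn⟩ := hord h
  rw [hh] at hn
  obtain ⟨k, rfl⟩ := hprim.dvd_of_pow_eq_one n (mul_right_cancel₀ hρ0 (hn.symm.trans (one_mul ρ).symm))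
  exact ⟨g0 ^ k, b, by rw [← pow_mul, mul_comm k r]⟩

end Groth.Agent.FundChar
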