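import Groth.Prelude.Def_W4bk4grossh1223Act
import Mathlib.Algebra.TrivSqZeroExt.Basic
import Mathlib.RingTheory.Finiteness.Basic

/-!
# Invariants of an equivariant module as invariants of a square-zero extension
-/

set_option autoImplicit false

universe u

open CategoryTheory MonObj AlgebraicGeometry
open scoped TensorProduct

noncomputable section

namespace GrothLib.GModSqZero27

variable {k : Type u} [Field k] {G : Over (Spec (CommRingCat.of k))} [GrpObj G]
  {A : Type u} [CommRing A] [Algebra k A] {M : Type u} [AddCommGroup M] [Module A M] [Module k M]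
  [IsScalarTower k A M] [Module Aᵐᵒᵖ M] [IsCentralScalar A M] [IsScalarTower k Aᵐᵒᵖ M]

local notation "C" => TrivSqZeroExt A M

/-- first projection. -/
def p1 (B : Type u) [CommRing B] [Algebra k B] : B ⊗[k] C →ₗ[B] B ⊗[k] A :=
  LinearMap.baseChange B (TrivSqZeroExt.fstHom k A M).toLinearMap

/-- second projection. -/
def p2 (B : Type u) [CommRing B] [Algebra k B] : B ⊗[k] C →ₗ[B] B ⊗[k] M :=
  LinearMap.baseChange B ((TrivSqZeroExt.sndHom A M).restrictScalars k)

/-- first inclusion. -/
def i1 (B : Type u) [CommRing B] [Algebra k B] : B ⊗[k] A →ₗ[B] B ⊗[k] C :=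
  LinearMap.baseChange B (TrivSqZeroExt.inlAlgHom k A M).toLinearMap

/-- second inclusion. -/
def i2 (B : Type u) [CommRing B] [Algebra k B] : B ⊗[k] M →ₗ[B] B ⊗[k] C :=
  LinearMap.baseChange B ((TrivSqZeroExt.inrHom A M).restrictScalars k)

variable (B : Type u) [CommRing B] [Algebra k B]

@[simp] theorem p1_tmul (b : B) (c : C) : p1 B (b ⊗ₜ[k] c) = b ⊗ₜ[k] c.fst := rfl
@[simp] theorem p2_tmul (b : B) (c : C) : p2 B (b ⊗ₜ[k] c) = b ⊗ₜ[k] c.snd := rfl
@[simp] theorem i1_tmul (b : B) (a : A) :
    i1 (M := M) B (b ⊗ₜ[k] a) = b ⊗ₜ[k] TrivSqZeroExt.inl a := rfl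
@[simp] theorem i2_tmul (b : B) (m : M) :
    i2 (A := A) B (b ⊗ₜ[k] m) = b ⊗ₜ[k] TrivSqZeroExt.inr m := rfl

@[simp] theorem p1_i1 (x : B ⊗[k] A) : p1 (M := M) B (i1 B x) = x := by
  induction x using TensorProduct.induction_on with
  | zero => simp
  | tmul b a => simp
  | add x y hx hy => simp [hx, hy]

@[simp] theorem p2_i2 (x : B ⊗[k] M) : p2 (A := A) B (i2 B x) = x := by
  induction x using TensorProduct.induction_on with
  | zero => simp
  | tmul b a => simp
  | add x y hx hy => simp [hx, hy]

@[simp] theorem p1_i2 (x : B ⊗[k] M) : p1 (A := A) B (i2 B x) = 0 := by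
  induction x using TensorProduct.induction_on with
  | zero => simp
  | tmul b a => simp
  | add x y hx hy => simp [hx, hy]

@[simp] theorem p2_i1 (x : B ⊗[k] A) : p2 (M := M) B (i1 B x) = 0 := by
  induction x using TensorProduct.induction_on with
  | zero => simp
  | tmul b a => simp
  | add x y hx hy => simp [hx, hy]

theorem decomp (x : B ⊗[k] C) : i1 B (p1 B x) + i2 B (p2 B x) = x := by
  induction x using TensorProduct.induction_on with
  | zero => simp
  | tmul b a => simp [← TensorProduct.tmul_add, TrivSqZeroExt.inl_fst_add_inr_snd_eq]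
  | add x y hx hy =>
    simp only [map_add]
    rw [add_add_add_comm, hx, hy]

theorem i1_mul (x y : B ⊗[k] A) : i1 (M := M) B (x * y) = i1 B x * i1 B y := by
  induction x using TensorProduct.induction_on with
  | zero => simp
  | add x x' hx hx' => simp [add_mul, hx, hx']
  | tmul b a =>
    induction y using TensorProduct.induction_on with
    | zero => simp
    | add y y' hy hy' => simp [mul_add, hy, hy']
    | tmul b' a' => simp [Algebra.TensorProduct.tmul_mul_tmul]

theorem i1_i2 (x : B ⊗[k] A) (y : B ⊗[k] M) :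
    i1 (M := M) B x * i2 B y = i2 B (VecGrp.GMod.smulW k A M B x y) := by
  induction x using TensorProduct.induction_on with
  | zero => simp
  | add x x' hx hx' => simp [add_mul, hx, hx']
  | tmul b a =>
    induction y using TensorProduct.induction_on with
    | zero => simp
    | add y y' hy hy' => rw [map_add, mul_add, hy, hy', map_add, map_add]
    | tmul b' m' =>
      simp [VecGrp.GMod.smulW, Algebra.TensorProduct.tmul_mul_tmul, TrivSqZeroExt.inl_mul_inr]

theorem i2_i2 (x y : B ⊗[k] M) : i2 (A := A) B x * i2 B y = 0 := by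
  induction x using TensorProduct.induction_on with
  | zero => simp
  | add x x' hx hx' => simp [add_mul, hx, hx']
  | tmul b a =>
    induction y using TensorProduct.induction_on with
    | zero => simp
    | add y y' hy hy' => rw [map_add, mul_add, hy, hy', add_zero]
    | tmul b' m' => simp [Algebra.TensorProduct.tmul_mul_tmul, TrivSqZeroExt.inr_mul_inr]

variable (ρA : VecGrp.GMod G A) (ρM : VecGrp.GMod G M)

/-- the action on the square-zero extension, as a linear map. -/
def act (g : VecGrp.pt k B ⟶ G) : B ⊗[k] C →ₗ[B] B ⊗[k] C :=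
  i1 B ∘ₗ (ρA.ρ B g).toLinearMap ∘ₗ p1 B + i2 B ∘ₗ (ρM.ρ B g).toLinearMap ∘ₗ p2 B

theorem act_apply (g : VecGrp.pt k B ⟶ G) (x : B ⊗[k] C) :
    act B ρA ρM g x = i1 B (ρA.ρ B g (p1 B x)) + i2 B (ρM.ρ B g (p2 B x)) := rfl

theorem act_one (x : B ⊗[k] C) : act B ρA ρM 1 x = x := by
  simp [act_apply, decomp]

theorem act_mul (g h : VecGrp.pt k B ⟶ G) (x : B ⊗[k] C) :
    act B ρA ρM (g * h) x = act B ρA ρM g (act B ρA ρM h x) := by
  simp [act_apply, map_mul, LinearEquiv.mul_apply]

/-- the action on the square-zero extension. -/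
def sqZero : VecGrp.GMod G C where
  ρ B _ _ :=
    { toFun := fun g => LinearEquiv.ofLinear (act B ρA ρM g) (act B ρA ρM g⁻¹)
        (LinearMap.ext fun x => by
          simp only [LinearMap.comp_apply, LinearMap.id_apply]
          rw [← act_mul, mul_inv_cancel, act_one])
        (LinearMap.ext fun x => by
          simp only [LinearMap.comp_apply, LinearMap.id_apply]
          rw [← act_mul, inv_mul_cancel, act_one])
      map_one' := LinearEquiv.ext fun x => act_one B ρA ρM x
      map_mul' := fun g h => LinearEquiv.ext fun x => act_mul B ρA ρM g h x }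
  naturality {B B'} _ _ _ _ φ g x := by
    show VecGrp.Wmap φ (act B ρA ρM g x) = act B' ρA ρM (VecGrp.ptMap φ ≫ g) (VecGrp.Wmap φ x)
    have e1 : p1 B' (VecGrp.Wmap φ x) = VecGrp.Wmap φ (p1 B x) := by
      induction x using TensorProduct.induction_on with
      | zero => simp
      | tmul b a => simp
      | add x y hx hy => simp [hx, hy]
    have e2 : p2 B' (VecGrp.Wmap φ x) = VecGrp.Wmap φ (p2 B x) := by
      clear e1
      induction x using TensorProduct.induction_on with
      | zero => simp
      | tmul b a => simp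
      | add x y hx hy => simp [hx, hy]
    have e3 : ∀ z : B ⊗[k] A, i1 (M := M) B' (VecGrp.Wmap φ z) = VecGrp.Wmap φ (i1 B z) := by
      intro z
      induction z using TensorProduct.induction_on with
      | zero => simp
      | tmul b a => simp
      | add x y hx hy => simp [hx, hy]
    have e4 : ∀ z : B ⊗[k] M, i2 (A := A) B' (VecGrp.Wmap φ z) = VecGrp.Wmap φ (i2 B z) := by
      intro z
      induction z using TensorProduct.induction_on with
      | zero => simp
      | tmul b a => simp
      | add x y hx hy => simp [hx, hy]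
    rw [act_apply, act_apply, map_add, e1, e2, ← ρA.naturality φ g, ← ρM.naturality φ g, e3, e4]

theorem sqZero_apply (g : VecGrp.pt k B ⟶ G) (x : B ⊗[k] C) :
    (sqZero ρA ρM).ρ B g x = act B ρA ρM g x := rfl

theorem sqZero_isMult (hA : ρA.IsMult) (hc : VecGrp.GMod.IsCompat ρA ρM) :
    (sqZero ρA ρM).IsMult := by
  intro B _ _ g
  refine ⟨fun x y => ?_, ?_⟩
  · have L : ∀ (p p' : B ⊗[k] A) (q q' : B ⊗[k] M),
        (i1 B p + i2 B q : B ⊗[k] C) * (i1 B p' + i2 B q') =
          i1 B (p * p') + i2 B (VecGrp.GMod.smulW k A M B p q' + VecGrp.GMod.smulW k A M B p' q) := by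
      intro p p' q q'
      rw [add_mul, mul_add, mul_add, i2_i2, add_zero, ← i1_mul, i1_i2, mul_comm (i2 (A := A) B q), i1_i2,
        map_add, add_assoc]
    rw [← decomp B x, ← decomp B y]
    generalize p1 B x = p, p2 B x = q, p1 B y = p', p2 B y = q'
    rw [L]
    simp only [sqZero_apply, act_apply, map_add, p1_i1, p1_i2, p2_i1, p2_i2, add_zero, zero_add,
      map_zero]
    rw [L, (hA B g).1, hc B g, hc B g, map_add]
  · rw [sqZero_apply, act_apply]
    have h1 : p1 B (1 : B ⊗[k] C) = 1 := by
      rw [Algebra.TensorProduct.one_def, p1_tmul, TrivSqZeroExt.fst_one]; rfl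
    have h2 : p2 B (1 : B ⊗[k] C) = 0 := by
      rw [Algebra.TensorProduct.one_def, p2_tmul, TrivSqZeroExt.snd_one, TensorProduct.tmul_zero]
    rw [h1, h2, (hA B g).2, map_zero, map_zero, add_zero, Algebra.TensorProduct.one_def, i1_tmul,
      TrivSqZeroExt.inl_one]
    rfl

/-- Finitely many invariants span the invariants of `M` over the invariants of `A`, given finite
generation of the invariants of the square-zero extension. -/
theorem exists_span (hA : ρA.IsMult) (h : VecGrp.AdjoinFG k
      ((sqZero ρA ρM).fixedUnder (𝟙 G) : Set C)) :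
    ∃ s : Finset M, (↑s : Set M) ⊆ ρM.fixedUnder (𝟙 G) ∧
      ρM.fixedUnder (𝟙 G) ≤
        (Submodule.span ↥(ρA.fixedSubalgebra hA (𝟙 G)) (↑s : Set M)).restrictScalars k := by
  classical
  obtain ⟨s, hs, hgen⟩ := h
  have h1 : ∀ c : C, c ∈ (sqZero ρA ρM).fixedUnder (𝟙 G) →
      c.fst ∈ ρA.fixedSubalgebra hA (𝟙 G) ∧ c.snd ∈ ρM.fixedUnder (𝟙 G) := by
    intro c hc
    constructor
    · intro B _ _ g
      have := congrArg (p1 B) (hc B g)
      simpa [sqZero_apply, act_apply] using this
    · intro B _ _ g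
      have := congrArg (p2 B) (hc B g)
      simpa [sqZero_apply, act_apply] using this
  refine ⟨s.image TrivSqZeroExt.snd, ?_, ?_⟩
  · intro m hm
    obtain ⟨c, hc, rfl⟩ := Finset.mem_image.1 hm
    exact (h1 c (hs hc)).2
  · intro m hm
    have hin : TrivSqZeroExt.inr m ∈ (sqZero ρA ρM).fixedUnder (𝟙 G) := by
      intro B _ _ g
      rw [sqZero_apply, act_apply, p1_tmul, p2_tmul, TrivSqZeroExt.fst_inr, TrivSqZeroExt.snd_inr,
        TensorProduct.tmul_zero, map_zero, map_zero, zero_add, hm B g, i2_tmul]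
    have key : ∀ c ∈ Algebra.adjoin k (↑s : Set C),
        c.fst ∈ ρA.fixedSubalgebra hA (𝟙 G) ∧
        c.snd ∈ Submodule.span ↥(ρA.fixedSubalgebra hA (𝟙 G))
          (↑(s.image TrivSqZeroExt.snd) : Set M) := by
      intro c hc
      induction hc using Algebra.adjoin_induction with
      | mem x hx =>
        exact ⟨(h1 x (hs hx)).1, Submodule.subset_span (Finset.mem_image_of_mem _ hx)⟩
      | algebraMap r =>
        refine ⟨Subalgebra.algebraMap_mem _ r, ?_⟩
        rw [TrivSqZeroExt.algebraMap_eq_inl', TrivSqZeroExt.snd_inl]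
        exact Submodule.zero_mem _
      | add x y _ _ hx hy => exact ⟨add_mem hx.1 hy.1, add_mem hx.2 hy.2⟩
      | mul x y _ _ hx hy =>
        refine ⟨mul_mem hx.1 hy.1, ?_⟩
        rw [TrivSqZeroExt.snd_mul, op_smul_eq_smul]
        exact add_mem (Submodule.smul_mem _ (⟨x.fst, hx.1⟩ : ρA.fixedSubalgebra hA (𝟙 G)) hy.2)
          (Submodule.smul_mem _ (⟨y.fst, hy.1⟩ : ρA.fixedSubalgebra hA (𝟙 G)) hx.2)
    have := (key _ (hgen hin)).2
    rw [TrivSqZeroExt.snd_inr] at this
    exact this

theorem finiteType [Algebra.FiniteType k A] [Module.Finite A M] : Algebra.FiniteType k C := by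
  classical
  obtain ⟨a, ha⟩ := (inferInstance : Algebra.FiniteType k A).out
  obtain ⟨m, hm⟩ := (inferInstance : Module.Finite A M).fg_top
  refine ⟨⟨a.image TrivSqZeroExt.inl ∪ m.image TrivSqZeroExt.inr, ?_⟩⟩
  set S := Algebra.adjoin k (↑(a.image (TrivSqZeroExt.inl (M := M)) ∪
    m.image (TrivSqZeroExt.inr (R := A))) : Set C)
  have hA : ∀ x : A, TrivSqZeroExt.inl x ∈ S := by
    have : (Algebra.adjoin k (↑a : Set A)).map (TrivSqZeroExt.inlAlgHom k A M) ≤ S := by
      rw [AlgHom.map_adjoin]
      refine Algebra.adjoin_mono ?_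
      rintro _ ⟨x, hx, rfl⟩
      rw [Finset.coe_union, Finset.coe_image]
      exact Or.inl ⟨x, hx, rfl⟩
    intro x
    exact this ⟨x, by rw [ha]; exact Algebra.mem_top, rfl⟩
  have hM : ∀ x : M, TrivSqZeroExt.inr x ∈ S := by
    intro x
    have hx : x ∈ Submodule.span A (↑m : Set M) := by rw [hm]; exact Submodule.mem_top
    induction hx using Submodule.span_induction with
    | mem y hy =>
      refine Algebra.subset_adjoin ?_
      rw [Finset.coe_union, Finset.coe_image, Finset.coe_image]
      exact Or.inr ⟨y, hy, rfl⟩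
    | zero => rw [TrivSqZeroExt.inr_zero]; exact zero_mem _
    | add y z _ _ hy hz => rw [TrivSqZeroExt.inr_add]; exact add_mem hy hz
    | smul r y _ hy => rw [← TrivSqZeroExt.inl_mul_inr]; exact mul_mem (hA r) hy
  refine eq_top_iff.2 fun c _ => ?_
  rw [← TrivSqZeroExt.inl_fst_add_inr_snd_eq c]
  exact add_mem (hA _) (hM _)

end GrothLib.GModSqZero27
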