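import Groth.Prelude.Def_PolLaw
import Mathlib.LinearAlgebra.Vandermonde
import Mathlib.LinearAlgebra.Matrix.Adjugate
import Mathlib.RingTheory.LocalRing.ResidueField.Ideal
import Mathlib.RingTheory.Localization.Integer
import Mathlib.RingTheory.Localization.AtPrime.Basic
import Mathlib.Algebra.Module.LocalizedModule.Basic
import Mathlib.SetTheory.Cardinal.Finite

/-!
# When `Γ^d` is spanned by `d`-th divided powers
-/

universe u

open DividedPowerAlgebra

namespace GrothLib.GammaSpan

variable {A : Type u} [CommRing A] {M : Type u} [AddCommGroup M] [Module A M]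

variable (A M) in
/-- The span of the `e`-th divided powers. -/
noncomputable def dpSpan (e : ℕ) : Submodule A (DividedPowerAlgebra A M) :=
  Submodule.span A (Set.range (DividedPowerAlgebra.dp A e : M → DividedPowerAlgebra A M))

/-- Saturation at a prime. -/
def sat {X : Type*} [AddCommGroup X] [Module A X] (p : Ideal A) [p.IsPrime] (N : Submodule A X) : Submodule A X where
  carrier := {g | ∃ s : A, s ∉ p ∧ s • g ∈ N}
  add_mem' := by
    rintro g h ⟨s, hs, hg⟩ ⟨t, ht, hh⟩
    refine ⟨s * t, ‹p.IsPrime›.mul_notMem hs ht, ?_⟩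
    rw [smul_add]
    refine N.add_mem ?_ ?_
    · rw [mul_comm, mul_smul]; exact N.smul_mem _ hg
    · rw [mul_smul]; exact N.smul_mem _ hh
  zero_mem' := ⟨1, fun h => ‹p.IsPrime›.ne_top ((Ideal.eq_top_iff_one _).mpr h), by simp⟩
  smul_mem' := by
    rintro a g ⟨s, hs, hg⟩
    exact ⟨s, hs, by rw [smul_comm]; exact N.smul_mem _ hg⟩

variable (p : Ideal A) [p.IsPrime]

lemma le_sat {X : Type*} [AddCommGroup X] [Module A X] (N : Submodule A X) : N ≤ sat p N := fun g hg =>
  ⟨1, fun h => ‹p.IsPrime›.ne_top ((Ideal.eq_top_iff_one _).mpr h), by rwa [one_smul]⟩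

lemma mem_sat_of_smul_mem_sat {X : Type*} [AddCommGroup X] [Module A X] (N : Submodule A X) {s : A} (hs : s ∉ p)
    {g : X} (h : s • g ∈ sat p N) : g ∈ sat p N := by
  obtain ⟨t, ht, h⟩ := h
  exact ⟨t * s, ‹p.IsPrime›.mul_notMem ht hs, by rwa [mul_smul]⟩

lemma eq_top_of_forall_sat {X : Type*} [AddCommGroup X] [Module A X] (N : Submodule A X) (g : X)
    (h : ∀ q : PrimeSpectrum A, g ∈ sat q.asIdeal N) : g ∈ N := by
  let I : Ideal A := Submodule.comap (LinearMap.toSpanSingleton A X g) N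
  suffices I = ⊤ by simpa [I] using (Ideal.eq_top_iff_one _).mp this
  by_contra hne
  obtain ⟨m, hm, hle⟩ := Ideal.exists_le_maximal I hne
  obtain ⟨s, hs, hsg⟩ := h ⟨m, hm.isPrime⟩
  exact hs (hle hsg)

/-- The key hypothesis: products of two divided powers lie locally in the span of divided powers. -/
def PairCond (d : ℕ) : Prop :=
  ∀ (j l : ℕ) (a b : M), j + l ≤ d → dp A j a * dp A l b ∈ sat p (dpSpan A M (j + l))

theorem prod_mem_sat {d : ℕ} (h : PairCond (M := M) p d) :
    ∀ (n : ℕ) (k : Fin n → ℕ) (m : Fin n → M), ∑ i, k i ≤ d →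
      ∏ i, dp A (k i) (m i) ∈ sat p (dpSpan A M (∑ i, k i)) := by
  intro n
  induction n with
  | zero =>
    intro k m _
    rw [Fin.prod_univ_zero, Fin.sum_univ_zero]
    exact le_sat p _ (Submodule.subset_span ⟨0, DividedPowerAlgebra.dp_zero⟩)
  | succ n ih =>
    intro k m hk
    rw [Fin.sum_univ_succ] at hk ⊢
    rw [Fin.prod_univ_succ]
    obtain ⟨s, hs, hmem⟩ := ih (fun i => k i.succ) (fun i => m i.succ) (le_trans (Nat.le_add_left _ _) hk)
    refine mem_sat_of_smul_mem_sat p _ hs ?_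
    have hmul : (dpSpan A M (∑ i : Fin n, k i.succ)).map (LinearMap.mulLeft A (dp A (k 0) (m 0))) ≤
        sat p (dpSpan A M (k 0 + ∑ i : Fin n, k i.succ)) := by
      rw [dpSpan, Submodule.map_span, Submodule.span_le]
      rintro _ ⟨_, ⟨x, rfl⟩, rfl⟩
      exact h _ _ _ _ hk
    rw [← mul_smul_comm]
    exact hmul ⟨_, hmem, rfl⟩

theorem span_eq_gammaPiece {d : ℕ} (h : ∀ q : PrimeSpectrum A, PairCond (M := M) q.asIdeal d) :
    Submodule.span A (Set.range (DividedPowerAlgebra.dp A d : M → DividedPowerAlgebra A M)) =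
      _root_.PolLaw.gammaPiece A M d := by
  refine le_antisymm (Submodule.span_le.mpr ?_) (Submodule.span_le.mpr ?_)
  · rintro _ ⟨x, rfl⟩
    exact Submodule.subset_span ⟨1, fun _ => d, fun _ => x, by simp, by simp⟩
  · rintro _ ⟨n, k, m, hk, rfl⟩
    refine eq_top_of_forall_sat _ _ fun q => ?_
    have := prod_mem_sat q.asIdeal (h q) n k m hk.le
    rwa [hk] at this

theorem pairCond_of_cyclic (d : ℕ) (x : LocalizedModule p.primeCompl M)
    (hx : Submodule.span (Localization.AtPrime p) {x} = ⊤) : PairCond (M := M) p d := by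
  induction x using LocalizedModule.induction_on with
  | _ m₀ s₀ =>
  have key : ∀ m : M, ∃ s : A, s ∉ p ∧ ∃ r : A, s • m = r • m₀ := by
    intro m
    obtain ⟨c, hc⟩ := Submodule.mem_span_singleton.mp
      (hx ▸ Submodule.mem_top : LocalizedModule.mk m (1 : p.primeCompl) ∈ Submodule.span (Localization.AtPrime p) {LocalizedModule.mk m₀ s₀})
    induction c using Localization.induction_on with
    | _ y =>
      obtain ⟨r, t⟩ := y
      rw [LocalizedModule.mk_smul_mk, LocalizedModule.mk_eq] at hc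
      obtain ⟨u, hu⟩ := hc
      refine ⟨(u : A) * ((t : A) * s₀), p.primeCompl.mul_mem u.2 (p.primeCompl.mul_mem t.2 s₀.2), (u : A) * r, ?_⟩
      simp only [Submonoid.smul_def, Submonoid.coe_mul, Submonoid.coe_one, one_smul] at hu
      rw [mul_smul, mul_smul (u : A) r]
      exact hu.symm
  intro j l a b _
  obtain ⟨s, hs, r, hr⟩ := key a
  obtain ⟨s', hs', r', hr'⟩ := key b
  refine mem_sat_of_smul_mem_sat p _ (show s ^ j * s' ^ l ∉ p from
    ‹p.IsPrime›.mul_notMem (fun h => hs (‹p.IsPrime›.mem_of_pow_mem _ h)) (fun h => hs' (‹p.IsPrime›.mem_of_pow_mem _ h))) (le_sat p _ ?_)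
  rw [← smul_mul_smul_comm, ← DividedPowerAlgebra.dp_smul, ← DividedPowerAlgebra.dp_smul, hr, hr', DividedPowerAlgebra.dp_smul,
    DividedPowerAlgebra.dp_smul, smul_mul_smul_comm, DividedPowerAlgebra.dp_mul]
  exact Submodule.smul_mem _ _ (nsmul_mem (Submodule.subset_span (Set.mem_range_self _)) _)

theorem pairCond_of_card (d : ℕ) (hd : (d : Cardinal) ≤ Cardinal.mk p.ResidueField) : PairCond (M := M) p d := by
  classical
  intro j₀ l₀ a b hle
  generalize he : j₀ + l₀ = e at hle ⊢
  rcases Nat.eq_zero_or_pos j₀ with hj | hj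
  · rw [hj, DividedPowerAlgebra.dp_zero, one_mul]
    exact le_sat p _ (Submodule.subset_span ⟨b, by rw [← he, hj, zero_add]⟩)
  rcases Nat.eq_zero_or_pos l₀ with hl | hl
  · rw [hl, DividedPowerAlgebra.dp_zero, mul_one]
    exact le_sat p _ (Submodule.subset_span ⟨a, by rw [← he, hl, add_zero]⟩)
  obtain ⟨e', rfl⟩ : ∃ e', e = e' + 2 := ⟨e - 2, by omega⟩
  -- distinct nonzero residues
  obtain ⟨f⟩ : Nonempty (Fin (e' + 2) ↪ p.ResidueField) := by
    have h1 : ((e' + 2 : ℕ) : Cardinal.{u}) ≤ Cardinal.mk p.ResidueField := le_trans (Nat.cast_le.mpr hle) hd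
    exact Cardinal.lift_mk_le'.mp (by simpa using h1)
  obtain ⟨g, hg, hg0⟩ : ∃ g : Fin (e' + 1) → p.ResidueField, Function.Injective g ∧ ∀ i, g i ≠ 0 := by
    by_cases hz : ∃ i, f i = 0
    · obtain ⟨i₀, hi₀⟩ := hz
      exact ⟨fun i => f (i₀.succAbove i), f.injective.comp Fin.succAbove_right_injective,
        fun i h => Fin.succAbove_ne i₀ i (f.injective (h.trans hi₀.symm))⟩
    · exact ⟨fun i => f i.castSucc, f.injective.comp (Fin.castSucc_injective _), fun i h => hz ⟨_, h⟩⟩
  obtain ⟨⟨σ, hσ⟩, hσg⟩ := IsLocalization.exist_integer_multiples_of_finite (nonZeroDivisors (A ⧸ p)) g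
  choose τ hτ using fun i => RingHom.mem_rangeS.mp (hσg i)
  obtain ⟨s, rfl⟩ := Ideal.Quotient.mk_surjective σ
  choose t ht using fun i => Ideal.Quotient.mk_surjective (τ i)
  have hsp : s ∉ p := fun h => nonZeroDivisors.ne_zero hσ (Ideal.Quotient.eq_zero_iff_mem.mpr h)
  have hs0 : algebraMap (A ⧸ p) p.ResidueField (Ideal.Quotient.mk p s) ≠ 0 := fun h =>
    nonZeroDivisors.ne_zero hσ ((IsFractionRing.injective (A ⧸ p) p.ResidueField) (h.trans (map_zero _).symm))
  let π : A →+* p.ResidueField := (algebraMap (A ⧸ p) p.ResidueField).comp (Ideal.Quotient.mk p)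
  have hπ : ∀ x, x ∈ p ↔ π x = 0 := fun x => by
    rw [← Ideal.Quotient.eq_zero_iff_mem, RingHom.comp_apply,
      ← map_eq_zero_iff _ (IsFractionRing.injective (A ⧸ p) p.ResidueField)]
  have hπt : ∀ i, π (t i) = π s * g i := fun i => by
    rw [RingHom.comp_apply, ht, hτ]
    exact Algebra.smul_def _ _
  let c : Fin (e' + 1) → DividedPowerAlgebra A M := fun i => dp A (e' + 1 - i) (s • a) * dp A ((i : ℕ) + 1) b
  let W : Matrix (Fin (e' + 1)) (Fin (e' + 1)) A := Matrix.of fun r i => t r ^ ((i : ℕ) + 1)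
  have hrow : ∀ r, ∑ i, W r i • c i ∈ dpSpan A M (e' + 2) := fun r => by
    have hexp : dp A (e' + 2) (s • a + t r • b) =
        dp A (e' + 2) (s • a) + ((∑ i, W r i • c i) + t r ^ (e' + 2) • dp A (e' + 2) b) := by
      rw [DividedPowerAlgebra.dp_add, ← Finset.Nat.sum_antidiagonal_swap,
        Finset.Nat.sum_antidiagonal_eq_sum_range_succ_mk, Finset.sum_range_succ, Finset.sum_range_succ',
        ← Fin.sum_univ_eq_sum_range]
      simp only [Prod.swap_prod_mk, DividedPowerAlgebra.dp_smul (r := t r), mul_smul_comm, W, c, Matrix.of_apply,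
        Nat.sub_self, Nat.sub_zero, DividedPowerAlgebra.dp_zero, one_mul, mul_one, pow_zero, one_smul,
        show ∀ x : ℕ, e' + 2 - (x + 1) = e' + 1 - x from fun x => by omega]
      ac_rfl
    have : ∑ i, W r i • c i =
        dp A (e' + 2) (s • a + t r • b) - dp A (e' + 2) (s • a) - t r ^ (e' + 2) • dp A (e' + 2) b := by
      rw [hexp]; abel
    rw [this]
    exact sub_mem (sub_mem (Submodule.subset_span (Set.mem_range_self _)) (Submodule.subset_span (Set.mem_range_self _)))
      (Submodule.smul_mem _ _ (Submodule.subset_span (Set.mem_range_self _)))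
  have hdet : W.det ∉ p := by
    rw [hπ, RingHom.map_det]
    have : π.mapMatrix W = Matrix.diagonal (fun r => π (t r)) * Matrix.vandermonde (fun r => π (t r)) := by
      ext r i
      simp [W, Matrix.diagonal_mul, Matrix.vandermonde_apply, pow_succ']
    rw [this, Matrix.det_mul, Matrix.det_diagonal]
    have hne : ∀ r, π (t r) ≠ 0 := fun r => by rw [hπt]; exact mul_ne_zero hs0 (hg0 r)
    refine mul_ne_zero (Finset.prod_ne_zero_iff.mpr fun r _ => hne r) (Matrix.det_vandermonde_ne_zero_iff.mpr ?_)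
    intro r r' h
    have h' : π s * g r = π s * g r' := by rw [← hπt, ← hπt]; exact h
    exact hg (mul_left_cancel₀ hs0 h')
  have hsol : ∀ i, W.det • c i ∈ dpSpan A M (e' + 2) := fun i => by
    have : W.det • c i = ∑ r, W.adjugate i r • ∑ i', W r i' • c i' := by
      simp only [Finset.smul_sum, smul_smul]
      rw [Finset.sum_comm]
      simp only [← Finset.sum_smul, ← Matrix.mul_apply, Matrix.adjugate_mul, Matrix.smul_apply, Matrix.one_apply]
      simp
    rw [this]
    exact Submodule.sum_mem _ fun r _ => Submodule.smul_mem _ _ (hrow r)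
  have hj₀ : j₀ = e' + 1 - (l₀ - 1) := by omega
  refine mem_sat_of_smul_mem_sat p _ (show s ^ j₀ ∉ p from fun h => hsp (‹p.IsPrime›.mem_of_pow_mem _ h))
    ⟨W.det, hdet, ?_⟩
  rw [← smul_mul_assoc, ← DividedPowerAlgebra.dp_smul]
  have := hsol ⟨l₀ - 1, by omega⟩
  simp only [c] at this
  rwa [← hj₀, Nat.sub_add_cancel hl] at this

end GrothLib.GammaSpan
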