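import Groth.Agent.Lib.LengthQuotX
import Mathlib.RingTheory.KrullDimension.Regular
import Mathlib.RingTheory.Length
import Mathlib.RingTheory.Artinian.Ring

/-!
# `∑ length M_p ≤ length (M / tM)` over a Noetherian local ring
-/

open Pointwise LinearMap

universe u v

namespace GrothLib.LenIneq

variable {R : Type u} [CommRing R] [IsNoetherianRing R]
variable {M : Type v} [AddCommGroup M] [Module R M] [Module.Finite R M]

/-- A finite module of finite length has support of dimension `≤ 0`. -/
theorem supportDim_le_zero (h : Module.length R M ≠ ⊤) : Module.supportDim R M ≤ 0 := by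
  haveI : IsArtinian R M :=
    (isFiniteLength_iff_isNoetherian_isArtinian.mp (Module.length_ne_top_iff.mp h)).2
  obtain ⟨s, hs⟩ := Module.Finite.fg_top (R := R) (M := M)
  let f : R →ₗ[R] (s → M) := LinearMap.pi fun i => LinearMap.toSpanSingleton R M i.1
  have hker : ker f = Module.annihilator R M := by
    ext r
    rw [← Submodule.annihilator_top, ← hs, Submodule.mem_annihilator_span, mem_ker, funext_iff]
    exact ⟨fun h n => h ⟨n.1, n.2⟩, fun h i => h ⟨i.1, i.2⟩⟩
  haveI : IsArtinian R (R ⧸ Module.annihilator R M) := by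
    rw [← hker]
    exact isArtinian_of_linearEquiv f.quotKerEquivRange.symm
  haveI : IsArtinianRing (R ⧸ Module.annihilator R M) :=
    isArtinian_of_tower R inferInstance
  rw [Module.supportDim_eq_ringKrullDim_quotient_annihilator]
  have := isArtinianRing_iff_krullDimLE_zero.mp ‹IsArtinianRing (R ⧸ Module.annihilator R M)›
  simpa using Ring.krullDimLE_iff.mp this

variable [IsLocalRing R]

theorem supportDim_le_one (t : R) (ht : t ∈ IsLocalRing.maximalIdeal R)
    (h0 : Module.supportDim R (M ⧸ t • (⊤ : Submodule R M)) ≤ 0) : Module.supportDim R M ≤ 1 := by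
  refine (Module.supportDim_le_supportDim_quotSMulTop_succ ht).trans ?_
  calc _ ≤ (0 : WithBot ℕ∞) + 1 := by gcongr
    _ = 1 := zero_add 1

omit [IsNoetherianRing R] in
theorem ord_ne_zero {t : R} (ht : t ∈ IsLocalRing.maximalIdeal R) (p : PrimeSpectrum R) :
    Ring.ord (R ⧸ p.asIdeal) (Ideal.Quotient.mk p.asIdeal t) ≠ 0 := by
  rw [Ring.ord, ne_eq, Module.length_eq_zero_iff, Submodule.Quotient.subsingleton_iff,
    Ideal.span_singleton_eq_top]
  intro hu
  obtain ⟨b, hb⟩ := hu.exists_right_inv
  obtain ⟨c, rfl⟩ := Ideal.Quotient.mk_surjective b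
  rw [← map_mul, ← map_one (Ideal.Quotient.mk p.asIdeal), Ideal.Quotient.eq] at hb
  have h1 := Ideal.sub_mem _ (Ideal.mul_mem_right c _ ht) (IsLocalRing.le_maximalIdeal p.isPrime.ne_top hb)
  exact (IsLocalRing.maximalIdeal.isMaximal R).ne_top ((Ideal.eq_top_iff_one _).mpr (by simpa using h1))

omit [IsNoetherianRing R] in
theorem ord_eq_one_iff {t : R} (ht : t ∈ IsLocalRing.maximalIdeal R) (p : Ideal R) [hp : p.IsPrime] :
    Ring.ord (R ⧸ p) (Ideal.Quotient.mk p t) = 1 ↔
      Ideal.map (Ideal.Quotient.mk p) (IsLocalRing.maximalIdeal R) =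
        Ideal.span {Ideal.Quotient.mk p t} := by
  rw [Ring.ord, Module.length_eq_one_iff, isSimpleModule_iff_isCoatom, ← Ideal.isMaximal_def]
  have hle : Ideal.span {Ideal.Quotient.mk p t} ≤
      Ideal.map (Ideal.Quotient.mk p) (IsLocalRing.maximalIdeal R) :=
    (Ideal.span_singleton_le_iff_mem _).mpr (Ideal.mem_map_of_mem _ ht)
  have hne : Ideal.map (Ideal.Quotient.mk p) (IsLocalRing.maximalIdeal R) ≠ ⊤ := by
    intro h
    have h' := congrArg (Ideal.comap (Ideal.Quotient.mk p)) h
    rw [Ideal.comap_map_of_surjective' _ Ideal.Quotient.mk_surjective, Ideal.mk_ker,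
      sup_of_le_left (IsLocalRing.le_maximalIdeal hp.ne_top), Ideal.comap_top] at h'
    exact (IsLocalRing.maximalIdeal.isMaximal R).ne_top h'
  constructor
  · intro h
    exact (h.eq_of_le hne hle).symm
  · intro h
    rw [← h]
    exact (Ideal.map_eq_top_or_isMaximal_of_surjective _ Ideal.Quotient.mk_surjective
      (IsLocalRing.maximalIdeal.isMaximal R)).resolve_left hne

theorem main (t : R) (ht : t ∈ IsLocalRing.maximalIdeal R)
    (hfin : Module.length R (M ⧸ t • (⊤ : Submodule R M)) ≠ ⊤)
    (T : Finset (PrimeSpectrum R))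
    (hT : ∀ p, p ∈ Module.support R M → (p.asIdeal ≠ IsLocalRing.maximalIdeal R ↔ p ∈ T)) :
    (∑ p ∈ T, Module.length (Localization.AtPrime p.asIdeal) (LocalizedModule p.asIdeal.primeCompl M)) ≤
      Module.length R (M ⧸ t • (⊤ : Submodule R M)) ∧
    ((∑ p ∈ T, Module.length (Localization.AtPrime p.asIdeal) (LocalizedModule p.asIdeal.primeCompl M)) =
      Module.length R (M ⧸ t • (⊤ : Submodule R M)) ↔
      IsSMulRegular M t ∧ ∀ p ∈ T, p ∈ Module.support R M →
        Ideal.map (Ideal.Quotient.mk p.asIdeal) (IsLocalRing.maximalIdeal R) =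
          Ideal.span {Ideal.Quotient.mk p.asIdeal t}) := by
  classical
  have h0 := supportDim_le_zero hfin
  have h1 := supportDim_le_one t ht h0
  have H := GrothLib.LengthQuotX.length_quot_eq t h1 h0
  rw [GrothLib.LengthQuotX.finsum_term_eq t hT] at H
  set len := fun p : PrimeSpectrum R =>
    Module.length (Localization.AtPrime p.asIdeal) (LocalizedModule p.asIdeal.primeCompl M)
  set o := fun p : PrimeSpectrum R => Ring.ord (R ⧸ p.asIdeal) (Ideal.Quotient.mk p.asIdeal t)
  replace H : Module.length R (M ⧸ t • (⊤ : Submodule R M)) =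
      Module.length R (ker (lsmul R M t)) + ∑ p ∈ T, o p * len p := H
  rw [H] at hfin ⊢
  have ho : ∀ p, 1 ≤ o p := fun p => Order.one_le_iff_pos.mpr (pos_iff_ne_zero.mpr (ord_ne_zero ht p))
  have hle : ∑ p ∈ T, len p ≤ ∑ p ∈ T, o p * len p :=
    Finset.sum_le_sum fun p _ => le_mul_of_one_le_left zero_le (ho p)
  refine ⟨hle.trans le_add_self, ?_⟩
  have hk : Module.length R (ker (lsmul R M t)) = 0 ↔ IsSMulRegular M t := by
    rw [Module.length_eq_zero_iff, Submodule.subsingleton_iff_eq_bot, LinearMap.ker_eq_bot]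
    rfl
  have hsum : ∑ p ∈ T, o p * len p ≠ ⊤ := fun h => hfin (by rw [h, add_top])
  have hterm : ∀ p ∈ T, o p * len p ≠ ⊤ := fun p hp => ne_top_of_le_ne_top hsum
    (Finset.single_le_sum (f := fun q => o q * len q) (fun q _ => zero_le) hp)
  constructor
  · intro h
    have h2 : Module.length R (ker (lsmul R M t)) = 0 := by
      have : Module.length R (ker (lsmul R M t)) + ∑ p ∈ T, o p * len p ≤
          0 + ∑ p ∈ T, o p * len p := by rw [zero_add, ← h]; exact hle
      exact nonpos_iff_eq_zero.mp ((ENat.add_le_add_iff_right hsum).mp this)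
    refine ⟨hk.mp h2, fun p hp hps => ?_⟩
    rw [h2, zero_add] at h
    have hlen : len p ≠ 0 := by
      rw [ne_eq, Module.length_eq_zero_iff, not_subsingleton_iff_nontrivial]
      exact hps
    have heq : len p = o p * len p := by
      refine le_antisymm (le_mul_of_one_le_left zero_le (ho p)) ?_
      rw [← Finset.add_sum_erase _ _ hp, ← Finset.add_sum_erase _ _ hp] at h
      have hle' : ∑ q ∈ T.erase p, len q ≤ ∑ q ∈ T.erase p, o q * len q :=
        Finset.sum_le_sum fun q _ => le_mul_of_one_le_left zero_le (ho q)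
      have hne : ∑ q ∈ T.erase p, o q * len q ≠ ⊤ := ne_top_of_le_ne_top hsum
        (Finset.sum_le_sum_of_subset (Finset.erase_subset p T))
      refine (ENat.add_le_add_iff_right hne).mp ?_
      rw [← h]
      gcongr
    rw [← ord_eq_one_iff ht]
    have hlt : len p ≠ ⊤ := ne_top_of_le_ne_top (hterm p hp) heq.le
    have hot : o p ≠ ⊤ := fun h' => hterm p hp (by rw [h', ENat.top_mul hlen])
    change o p = 1
    revert heq hlen
    lift len p to ℕ using hlt with a
    lift o p to ℕ using hot with b
    intro hlen heq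
    have h' : a = b * a := by exact_mod_cast heq
    have ha : a ≠ 0 := by exact_mod_cast hlen
    exact_mod_cast (Nat.mul_eq_right ha).mp h'.symm
  · rintro ⟨hreg, h⟩
    rw [hk.mpr hreg, zero_add]
    refine Finset.sum_congr rfl fun p hp => ?_
    by_cases hps : p ∈ Module.support R M
    · rw [show o p = 1 from (ord_eq_one_iff ht p.asIdeal).mpr (h p hp hps), one_mul]
    · have := Module.notMem_support_iff.mp hps
      rw [show len p = 0 from Module.length_eq_zero]
      simp

end GrothLib.LenIneq
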