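import Mathlib

/-! Graded modules over a graded algebra generated in degree one. -/

namespace H2GradedGen
open scoped Pointwise
variable {R : Type*} [CommRing R] {A : Type*} [CommRing A] [Algebra R A]
  (𝒜 : ℕ → Submodule R A) [GradedAlgebra 𝒜]

lemma piece_mul (hA : ∀ n : ℕ, 𝒜 (n + 1) = 𝒜 1 * 𝒜 n) (i j : ℕ) :
    𝒜 (i + j) = 𝒜 i * 𝒜 j := by
  induction i with
  | zero =>
    rw [zero_add]
    refine le_antisymm (fun x hx => ?_) (Submodule.mul_le.2 fun a ha b hb => ?_)
    · simpa using Submodule.mul_mem_mul (SetLike.one_mem_graded 𝒜) hx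
    · simpa using SetLike.mul_mem_graded ha hb
  | succ i ih => rw [Nat.add_right_comm, hA (i + j), ih, ← mul_assoc, ← hA i]

variable {M : Type*} [AddCommGroup M] [Module R M] [Module A M] [IsScalarTower R A M]
  (ℳ : ℕ → Submodule R M) [DirectSum.Decomposition ℳ] [SetLike.GradedSMul 𝒜 ℳ]

lemma piece_eq_smul (hA : ∀ n : ℕ, 𝒜 (n + 1) = 𝒜 1 * 𝒜 n)
    (s : Set M) (n₀ : ℕ) (hs : ∀ y ∈ s, ∃ d : ℕ, d ≤ n₀ ∧ y ∈ ℳ d)
    (hspan : Submodule.span A s = ⊤) (n k : ℕ) (hn : n₀ ≤ n) :
    ℳ (n + k) = 𝒜 k • ℳ n := by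
  classical
  have hsm : ∀ i d, ∀ a ∈ 𝒜 i, ∀ y ∈ ℳ d, a • y ∈ ℳ (i + d) := fun i d a ha y hy =>
    SetLike.GradedSMul.smul_mem ha hy
  refine le_antisymm (fun x hx => ?_) (Submodule.smul_le.2 fun a ha y hy => ?_)
  · suffices H : ∀ z : M, (((DirectSum.decompose ℳ) z (n + k) : ℳ (n + k)) : M) ∈ 𝒜 k • ℳ n by
      have := H x
      rwa [DirectSum.decompose_of_mem_same ℳ hx] at this
    intro z
    suffices H : ∀ a : A, (((DirectSum.decompose ℳ) (a • z) (n + k) : ℳ (n + k)) : M) ∈ 𝒜 k • ℳ n by
      simpa using H 1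
    have hz : z ∈ Submodule.span A s := hspan ▸ Submodule.mem_top
    induction hz using Submodule.span_induction with
    | mem y hy =>
      obtain ⟨d, hd, hyd⟩ := hs y hy
      intro a
      induction a using DirectSum.Decomposition.inductionOn 𝒜 with
      | zero => simp
      | homogeneous a =>
        rename_i i
        by_cases h : i + d = n + k
        · rw [← h, DirectSum.decompose_of_mem_same ℳ (hsm _ _ _ a.2 _ hyd)]
          have hi : i = k + (n - d) := by omega
          have ha : (a : A) ∈ 𝒜 k * 𝒜 (n - d) := by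
            rw [← piece_mul 𝒜 hA, ← hi]; exact a.2
          refine Submodule.mul_induction_on ha (fun b hb c hc => ?_) (fun b c hb hc => ?_)
          · rw [mul_smul]
            refine Submodule.smul_mem_smul hb ?_
            have := hsm _ _ _ hc _ hyd
            rwa [Nat.sub_add_cancel (hd.trans hn)] at this
          · rw [add_smul]; exact add_mem hb hc
        · rw [DirectSum.decompose_of_mem_ne ℳ (hsm _ _ _ a.2 _ hyd) h]
          exact zero_mem _
      | add a b ha hb =>
        rw [add_smul, DirectSum.decompose_add, DirectSum.add_apply, Submodule.coe_add]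
        exact add_mem ha hb
    | zero => intro a; simp
    | add y z _ _ hy hz =>
      intro a
      rw [smul_add, DirectSum.decompose_add, DirectSum.add_apply, Submodule.coe_add]
      exact add_mem (hy a) (hz a)
    | smul r y _ hy => intro a; rw [smul_smul]; exact hy _
  · rw [Nat.add_comm]; exact hsm _ _ _ ha _ hy

end H2GradedGen
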