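import Mathlib.RingTheory.GradedAlgebra.Homogeneous.Ideal
import Mathlib.Algebra.GCDMonoid.Finset
import Mathlib.Algebra.GCDMonoid.Nat
import Mathlib.RingTheory.Adjoin.Basic
import Mathlib.Algebra.Algebra.Operations
import Mathlib.RingTheory.GradedAlgebra.FiniteType
import Mathlib.GroupTheory.Finiteness
import Mathlib.Algebra.Group.Submonoid.Finsupp

/-!
# Monomials in homogeneous generators of a graded algebra
-/

universe u

open DirectSum

namespace GrothLib.GradedMono

variable {R A : Type u} [CommRing R] [CommRing A] [Algebra R A] (𝒜 : ℕ → Submodule R A) [GradedAlgebra 𝒜]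
  {s : ℕ} (f : Fin s → A) (deg : Fin s → ℕ) (hdeg : ∀ i, 0 < deg i) (hf : ∀ i, f i ∈ 𝒜 (deg i))
  (hgen : Algebra.adjoin R (Set.range f) = ⊤)

include hf in
theorem monomial_mem (k : Fin s → ℕ) : ∏ i, f i ^ k i ∈ 𝒜 (∑ i, k i * deg i) :=
  SetLike.prod_mem_graded 𝒜 _ _ fun i _ => by simpa using SetLike.pow_mem_graded (k i) (hf i)

include hf hgen in
theorem eq_span_monomials (n : ℕ) :
    𝒜 n = Submodule.span R {x : A | ∃ k : Fin s → ℕ, ∑ i, k i * deg i = n ∧ ∏ i, f i ^ k i = x} := by
  classical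
  refine le_antisymm (fun a ha => ?_) (Submodule.span_le.mpr ?_)
  · have h : a ∈ Submodule.span R ((Submonoid.closure (Set.range f) : Submonoid A) : Set A) := by
      rw [← Algebra.adjoin_eq_span, hgen]; simp
    suffices H : ∀ x ∈ Submodule.span R ((Submonoid.closure (Set.range f) : Submonoid A) : Set A),
        GradedAlgebra.proj 𝒜 n x ∈ Submodule.span R
          {x : A | ∃ k : Fin s → ℕ, ∑ i, k i * deg i = n ∧ ∏ i, f i ^ k i = x} by
      have := H a h
      rwa [GradedAlgebra.proj_apply, decompose_of_mem_same 𝒜 ha] at this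
    intro x hx
    induction hx using Submodule.span_induction with
    | mem x hx =>
      obtain ⟨k, rfl⟩ := Submonoid.mem_closure_range_iff_of_fintype.mp hx
      rw [GradedAlgebra.proj_apply]
      by_cases hk : ∑ i, k i * deg i = n
      · rw [decompose_of_mem_same 𝒜 (hk ▸ monomial_mem 𝒜 f deg hf k)]
        exact Submodule.subset_span ⟨k, hk, rfl⟩
      · rw [decompose_of_mem_ne 𝒜 (monomial_mem 𝒜 f deg hf k) hk]
        exact zero_mem _
    | zero => simp
    | add x y _ _ hx hy => rw [map_add]; exact add_mem hx hy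
    | smul c x _ hx => rw [map_smul]; exact Submodule.smul_mem _ c hx
  · rintro _ ⟨k, hk, rfl⟩
    exact hk ▸ monomial_mem 𝒜 f deg hf k

theorem mul_le_add (i j : ℕ) : 𝒜 i * 𝒜 j ≤ 𝒜 (i + j) :=
  Submodule.mul_le.mpr fun _ ha _ hb => SetLike.mul_mem_graded ha hb

theorem pow_le_mul (i : ℕ) : ∀ m : ℕ, 𝒜 i ^ m ≤ 𝒜 (m * i)
  | 0 => by
    rw [pow_zero, zero_mul, Submodule.one_eq_span, Submodule.span_le, Set.singleton_subset_iff]
    exact SetLike.one_mem_graded 𝒜
  | m + 1 => by
    rw [pow_succ, Nat.succ_mul]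
    exact le_trans (mul_le_mul' (pow_le_mul i m) le_rfl) (mul_le_add 𝒜 _ _)

include hdeg hf hgen in
theorem degree_add_lcm (n : ℕ) (hn : (s - 1) * (Finset.univ.lcm deg - 1) ≤ n) :
    𝒜 (n + Finset.univ.lcm deg) = 𝒜 n * 𝒜 (Finset.univ.lcm deg) := by
  refine le_antisymm ?_ (mul_le_add 𝒜 _ _)
  rw [eq_span_monomials 𝒜 f deg hf hgen (n + _), Submodule.span_le]
  rintro _ ⟨k, hk, rfl⟩
  set l := Finset.univ.lcm deg with hl
  have hdl : ∀ i, deg i ∣ l := fun i => Finset.dvd_lcm (Finset.mem_univ i)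
  have hlpos : 0 < l := by
    rw [pos_iff_ne_zero, hl]
    intro h
    rw [Finset.lcm_eq_zero_iff] at h
    obtain ⟨i, -, hi⟩ := h
    exact (hdeg i).ne' hi
  obtain ⟨i, hi⟩ : ∃ i, l / deg i ≤ k i := by
    by_contra hne
    push Not at hne
    have hle : ∀ i, k i * deg i ≤ l - 1 := fun i => by
      have h1 : (k i + 1) * deg i ≤ l := le_trans (Nat.mul_le_mul_right _ (hne i)) (Nat.div_mul_le_self _ _)
      have h2 := hdeg i
      rw [add_mul, one_mul] at h1
      omega
    have : n + l ≤ s * (l - 1) := by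
      rw [← hk]
      exact le_trans (Finset.sum_le_sum fun i _ => hle i) (by simp)
    rcases Nat.eq_zero_or_pos s with hs | hs
    · rw [hs, zero_mul] at this; omega
    · rw [show s = (s - 1) + 1 by omega, add_mul, one_mul] at this
      omega
  have hsplit : ∏ j, f j ^ k j = (∏ j, f j ^ (Function.update k i (k i - l / deg i) j)) * f i ^ (l / deg i) := by
    rw [← Finset.prod_erase_mul _ _ (Finset.mem_univ i), ← Finset.prod_erase_mul _ _ (Finset.mem_univ i),
      Function.update_self, mul_assoc, ← pow_add, Nat.sub_add_cancel hi]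
    congr 1
    exact Finset.prod_congr rfl fun j hj => by rw [Function.update_of_ne (Finset.ne_of_mem_erase hj)]
  rw [hsplit]
  refine Submodule.mul_mem_mul ?_ ?_
  · have := monomial_mem 𝒜 f deg hf (Function.update k i (k i - l / deg i))
    convert this using 2
    have e : ∀ g : Fin s → ℕ, ∑ j, g j * deg j = (∑ j ∈ Finset.univ.erase i, g j * deg j) + g i * deg i :=
      fun g => (Finset.sum_erase_add _ _ (Finset.mem_univ i)).symm
    have hk' := hk
    rw [e] at hk' ⊢
    rw [Function.update_self, Nat.sub_mul, Nat.div_mul_cancel (hdl i),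
      Finset.sum_congr rfl fun j hj => by rw [Function.update_of_ne (Finset.ne_of_mem_erase hj)]]
    have : l ≤ k i * deg i := le_trans (Nat.div_mul_cancel (hdl i)).ge (Nat.mul_le_mul_right _ hi)
    omega
  · have := SetLike.pow_mem_graded (l / deg i) (hf i)
    rwa [smul_eq_mul, Nat.div_mul_cancel (hdl i)] at this

include hdeg hf hgen in
theorem degree_zero : 𝒜 0 = 1 := by
  refine le_antisymm ?_ (by rw [← pow_zero (𝒜 0)]; simpa using pow_le_mul 𝒜 0 0)
  rw [eq_span_monomials 𝒜 f deg hf hgen 0, Submodule.span_le]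
  rintro _ ⟨k, hk, rfl⟩
  have : ∀ i, k i = 0 := fun i => by
    have h1 : k i * deg i = 0 := (Finset.sum_eq_zero_iff.mp hk) i (Finset.mem_univ i)
    exact (mul_eq_zero.mp h1).resolve_right (hdeg i).ne'
  simp only [this, pow_zero, Finset.prod_const_one]
  exact Submodule.one_le.mp le_rfl

include hdeg hf hgen in
theorem degree_mul_eq_pow (a : ℕ) (ha : s - 1 ≤ a) (k : ℕ) :
    𝒜 (k * (a * Finset.univ.lcm deg)) = 𝒜 (a * Finset.univ.lcm deg) ^ k := by
  set l := Finset.univ.lcm deg
  refine le_antisymm ?_ (pow_le_mul 𝒜 _ k)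
  have hstep : ∀ j, 𝒜 ((a + j) * l) ≤ 𝒜 (a * l) * 𝒜 l ^ j := by
    intro j
    induction j with
    | zero => simp
    | succ j ih =>
      rw [show (a + (j + 1)) * l = (a + j) * l + l by ring, degree_add_lcm 𝒜 f deg hdeg hf hgen _ ?_, pow_succ,
        ← mul_assoc]
      · exact mul_le_mul' ih le_rfl
      · exact le_trans (Nat.mul_le_mul (le_trans ha (Nat.le_add_right a j)) (Nat.sub_le _ 1)) le_rfl
  induction k with
  | zero => rw [zero_mul, pow_zero]; exact (degree_zero 𝒜 f deg hdeg hf hgen).le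
  | succ k ih =>
    rcases Nat.eq_zero_or_pos k with rfl | hk
    · simp
    · have h := hstep (k * a)
      rw [show (a + k * a) * l = (k + 1) * (a * l) by ring] at h
      refine h.trans ?_
      rw [pow_succ, mul_comm k a, pow_mul, mul_comm (𝒜 (a * l)) _]
      refine mul_le_mul' ?_ le_rfl
      exact pow_le_pow_left' (pow_le_mul 𝒜 l a) k

end GrothLib.GradedMono
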