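import Groth.Prelude.Def_CycAlg
import Mathlib.Tactic.LinearCombination

/-!
# Lengths in exact hexagons, Herbrand quotients
-/

open CycAlg LinearMap

universe u v

namespace GrothLib.Herbrand

variable {R : Type u} [CommRing R]

section Hexagon

variable {A B C D E F : Type v} [AddCommGroup A] [Module R A] [AddCommGroup B] [Module R B]
  [AddCommGroup C] [Module R C] [AddCommGroup D] [Module R D] [AddCommGroup E] [Module R E]
  [AddCommGroup F] [Module R F]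

lemma length_eq_range_add_range (f : A →ₗ[R] B) (g : B →ₗ[R] C) (h : Function.Exact f g) :
    Module.length R B = Module.length R (range f) + Module.length R (range g) := by
  refine Module.length_eq_add_of_exact (range f).subtype g.rangeRestrict (range f).injective_subtype
    g.surjective_rangeRestrict ?_
  intro b
  rw [Subtype.ext_iff]
  show g b = 0 ↔ _
  rw [h b]
  exact ⟨fun hb => ⟨⟨b, hb⟩, rfl⟩, fun ⟨⟨_, hb⟩, e⟩ => e ▸ hb⟩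

lemma length_range_lt_top (f : A →ₗ[R] B) (h : Module.length R A < ⊤) : Module.length R (range f) < ⊤ :=
  lt_of_le_of_lt (Module.length_le_of_surjective f.rangeRestrict f.surjective_rangeRestrict) h

lemma length_range_lt_top' (f : A →ₗ[R] B) (h : Module.length R B < ⊤) : Module.length R (range f) < ⊤ :=
  lt_of_le_of_lt (Module.length_le_of_injective (range f).subtype (range f).injective_subtype) h

variable (fA : A →ₗ[R] B) (fB : B →ₗ[R] C) (fC : C →ₗ[R] D) (fD : D →ₗ[R] E) (fE : E →ₗ[R] F) (fF : F →ₗ[R] A)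
  (eA : Function.Exact fF fA) (eB : Function.Exact fA fB) (eC : Function.Exact fB fC) (eD : Function.Exact fC fD)
  (eE : Function.Exact fD fE) (eF : Function.Exact fE fF)

include eB in
lemma lt_top_middle (hA : Module.length R A < ⊤) (hC : Module.length R C < ⊤) : Module.length R B < ⊤ := by
  rw [length_eq_range_add_range fA fB eB]
  exact ENat.add_lt_top.mpr ⟨length_range_lt_top fA hA, length_range_lt_top' fB hC⟩

include eA eB eC eD eE eF in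
lemma hexagon (hA : Module.length R A < ⊤) (hB : Module.length R B < ⊤) (hC : Module.length R C < ⊤)
    (hD : Module.length R D < ⊤) (hE : Module.length R E < ⊤) (hF : Module.length R F < ⊤) :
    ((Module.length R A).toNat : ℤ) - (Module.length R D).toNat + ((Module.length R C).toNat - (Module.length R F).toNat) =
      (Module.length R B).toNat - (Module.length R E).toNat := by
  have key : ∀ {U V W : Type v} [AddCommGroup U] [Module R U] [AddCommGroup V] [Module R V] [AddCommGroup W]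
      [Module R W] (f : U →ₗ[R] V) (g : V →ₗ[R] W), Function.Exact f g → Module.length R V < ⊤ →
      ((Module.length R V).toNat : ℤ) = (Module.length R (range f)).toNat + (Module.length R (range g)).toNat := by
    intro U V W _ _ _ _ _ _ f g h hV
    rw [length_eq_range_add_range f g h, ENat.toNat_add (length_range_lt_top' f hV).ne (length_range_lt_top g hV).ne]
    push_cast
    rfl
  rw [key fF fA eA hA, key fA fB eB hB, key fB fC eC hC, key fC fD eD hD, key fD fE eE hE, key fE fF eF hF]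
  ring

end Hexagon

section Complex

variable {M N : Type v} [AddCommGroup M] [Module R M] [AddCommGroup N] [Module R N]
  {M' N' : Type v} [AddCommGroup M'] [Module R M'] [AddCommGroup N'] [Module R N']

/-- The class of a cycle. -/
abbrev cls (φ : M →ₗ[R] N) (ψ : N →ₗ[R] M) : ker φ →ₗ[R] perH φ ψ := Submodule.mkQ _

lemma cls_eq_zero_iff (φ : M →ₗ[R] N) (ψ : N →ₗ[R] M) (x : ker φ) :
    cls φ ψ x = 0 ↔ (x : M) ∈ range ψ := by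
  rw [Submodule.mkQ_apply, Submodule.Quotient.mk_eq_zero]
  rfl

/-- Maps on periodic cohomology. -/
noncomputable def hmap (φ : M →ₗ[R] N) (ψ : N →ₗ[R] M) (φ' : M' →ₗ[R] N') (ψ' : N' →ₗ[R] M')
    (f : M →ₗ[R] M') (hk : ∀ x, φ x = 0 → φ' (f x) = 0) (hr : ∀ y, φ (ψ y) = 0 → f (ψ y) ∈ range ψ') :
    perH φ ψ →ₗ[R] perH φ' ψ' :=
  Submodule.mapQ _ _ (f.restrict fun x hx => hk x hx) (by
    rintro ⟨x, hx⟩ ⟨y, rfl⟩
    exact hr y hx)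

lemma hmap_cls {φ : M →ₗ[R] N} {ψ : N →ₗ[R] M} {φ' : M' →ₗ[R] N'} {ψ' : N' →ₗ[R] M'}
    {f : M →ₗ[R] M'} (hk : ∀ x, φ x = 0 → φ' (f x) = 0) (hr : ∀ y, φ (ψ y) = 0 → f (ψ y) ∈ range ψ')
    (x : M) (hx : φ x = 0) :
    hmap φ ψ φ' ψ' f hk hr (cls φ ψ ⟨x, hx⟩) = cls φ' ψ' ⟨f x, hk x hx⟩ := rfl

lemma perH_cases {φ : M →ₗ[R] N} {ψ : N →ₗ[R] M} (q : perH φ ψ) : ∃ x, ∃ hx : φ x = 0, cls φ ψ ⟨x, hx⟩ = q := by
  obtain ⟨⟨x, hx⟩, rfl⟩ := Submodule.mkQ_surjective _ q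
  exact ⟨x, hx, rfl⟩

/-- A periodic complex of finite length modules. -/
theorem finite_length_case (φ : M →ₗ[R] N) (ψ : N →ₗ[R] M) (h : IsPeriodic φ ψ) (hM : Module.length R M < ⊤)
    (hN : Module.length R N < ⊤) :
    FinCoh R φ ψ ∧ herbrand R φ ψ = ((Module.length R M).toNat : ℤ) - ((Module.length R N).toNat : ℤ) := by
  have hle : ∀ {X Y : Type v} [AddCommGroup X] [Module R X] [AddCommGroup Y] [Module R Y] (f : X →ₗ[R] Y)
      (g : Y →ₗ[R] X), f ∘ₗ g = 0 → Module.length R X < ⊤ →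
      Module.length R (perH f g) < ⊤ ∧ ((Module.length R X).toNat : ℤ) =
        (Module.length R (perH f g)).toNat + (Module.length R (range g)).toNat + (Module.length R (range f)).toNat := by
    intro X Y _ _ _ _ f g hfg hX
    have hsub : range g ≤ ker f := range_le_ker_iff.mpr hfg
    have hk : Module.length R (ker f) < ⊤ :=
      lt_of_le_of_lt (Module.length_le_of_injective (ker f).subtype (ker f).injective_subtype) hX
    have h1 : Module.length R X = Module.length R (ker f) + Module.length R (range f) :=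
      Module.length_eq_add_of_exact (ker f).subtype f.rangeRestrict (ker f).injective_subtype
        f.surjective_rangeRestrict (fun b => by
          rw [Subtype.ext_iff]
          exact ⟨fun hb => ⟨⟨b, hb⟩, rfl⟩, fun ⟨⟨_, hb⟩, e⟩ => e ▸ hb⟩)
    have h2 : Module.length R (ker f) = Module.length R (range g) + Module.length R (perH f g) := by
      refine Module.length_eq_add_of_exact (Submodule.inclusion hsub) (cls f g) (Submodule.inclusion_injective hsub)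
        (Submodule.mkQ_surjective _) (fun b => ?_)
      rw [cls_eq_zero_iff]
      exact ⟨fun hb => ⟨⟨b, hb⟩, rfl⟩, fun ⟨⟨_, hb⟩, e⟩ => e ▸ hb⟩
    have hP : Module.length R (perH f g) < ⊤ :=
      lt_of_le_of_lt (Module.length_le_of_surjective (cls f g) (Submodule.mkQ_surjective _)) hk
    refine ⟨hP, ?_⟩
    rw [h1, ENat.toNat_add hk.ne (length_range_lt_top f hX).ne, h2,
      ENat.toNat_add (length_range_lt_top' g hX).ne hP.ne]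
    push_cast
    ring
  obtain ⟨f1, e1⟩ := hle φ ψ h.1 hM
  obtain ⟨f2, e2⟩ := hle ψ φ h.2 hN
  refine ⟨⟨f1, f2⟩, ?_⟩
  rw [herbrand]
  linarith

end Complex

section Mult

variable {M : Type v} [AddCommGroup M] [Module R M]

/-- Multiplicativity of the Herbrand quotient for commuting maps. -/
theorem herbrand_mul (α β γ : M →ₗ[R] M) (hab : α * β = β * α) (hac : α * γ = γ * α) (hbc : β * γ = γ * β)
    (h0 : α * β * γ = 0) (h1 : FinCoh R α (β * γ)) (h2 : FinCoh R β (α * γ)) :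
    FinCoh R (α * β) γ ∧ herbrand R (α * β) γ = herbrand R α (β * γ) + herbrand R β (α * γ) := by
  have cab : ∀ x, α (β x) = β (α x) := fun x => LinearMap.congr_fun hab x
  have cac : ∀ x, α (γ x) = γ (α x) := fun x => LinearMap.congr_fun hac x
  have cbc : ∀ x, β (γ x) = γ (β x) := fun x => LinearMap.congr_fun hbc x
  have c0 : ∀ x, α (β (γ x)) = 0 := fun x => LinearMap.congr_fun h0 x
  let fA := hmap β (α * γ) (α * β) γ LinearMap.id (fun x hx => by show α (β x) = 0; rw [hx, map_zero])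
    (fun y _ => ⟨α y, (cac y).symm⟩)
  let fB := hmap (α * β) γ α (β * γ) β (fun x hx => hx) (fun y _ => ⟨y, rfl⟩)
  let fC := hmap α (β * γ) (α * γ) β LinearMap.id (fun x hx => by show α (γ x) = 0; rw [cac, hx, map_zero])
    (fun y _ => ⟨γ y, rfl⟩)
  let fD := hmap (α * γ) β γ (α * β) α (fun x hx => by rw [← cac]; exact hx) (fun y _ => ⟨y, rfl⟩)
  let fE := hmap γ (α * β) (β * γ) α LinearMap.id (fun x hx => by show β (γ x) = 0; rw [hx, map_zero])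
    (fun y _ => ⟨β y, rfl⟩)
  let fF := hmap (β * γ) α β (α * γ) γ (fun x hx => hx) (fun y _ => ⟨y, cac y⟩)
  have eB : Function.Exact fA fB := by
    intro q
    obtain ⟨x, hx, rfl⟩ := perH_cases q
    rw [hmap_cls, cls_eq_zero_iff]
    constructor
    · rintro ⟨y, (hy : β (γ y) = β x)⟩
      refine ⟨cls β (α * γ) ⟨x - γ y, by rw [mem_ker, map_sub, hy, sub_self]⟩, ?_⟩
      rw [hmap_cls, ← sub_eq_zero, ← map_sub, cls_eq_zero_iff]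
      exact ⟨-y, by simp⟩
    · rintro ⟨p, hp⟩
      obtain ⟨w, hw, rfl⟩ := perH_cases p
      rw [hmap_cls, ← sub_eq_zero, ← map_sub, cls_eq_zero_iff] at hp
      obtain ⟨y, hy⟩ := hp
      refine ⟨-y, ?_⟩
      have : x = w - γ y := by rw [hy]; simp
      show β (γ (-y)) = β x
      rw [this, map_sub, hw, map_neg, map_neg, zero_sub]
  have eC : Function.Exact fB fC := by
    intro q
    obtain ⟨x, hx, rfl⟩ := perH_cases q
    rw [hmap_cls, cls_eq_zero_iff]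
    constructor
    · rintro ⟨y, (hy : β y = x)⟩
      refine ⟨cls (α * β) γ ⟨y, by show α (β y) = 0; rw [hy]; exact hx⟩, ?_⟩
      rw [hmap_cls]
      congr
    · rintro ⟨p, hp⟩
      obtain ⟨w, hw, rfl⟩ := perH_cases p
      rw [hmap_cls, ← sub_eq_zero, ← map_sub, cls_eq_zero_iff] at hp
      obtain ⟨y, (hy : β (γ y) = β w - x)⟩ := hp
      exact ⟨w - γ y, by show β (w - γ y) = x; rw [map_sub, hy]; abel⟩
  have eD : Function.Exact fC fD := by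
    intro q
    obtain ⟨x, hx, rfl⟩ := perH_cases q
    rw [hmap_cls, cls_eq_zero_iff]
    constructor
    · rintro ⟨y, (hy : α (β y) = α x)⟩
      refine ⟨cls α (β * γ) ⟨x - β y, by rw [mem_ker, map_sub, hy, sub_self]⟩, ?_⟩
      rw [hmap_cls, ← sub_eq_zero, ← map_sub, cls_eq_zero_iff]
      exact ⟨-y, by simp⟩
    · rintro ⟨p, hp⟩
      obtain ⟨w, hw, rfl⟩ := perH_cases p
      rw [hmap_cls, ← sub_eq_zero, ← map_sub, cls_eq_zero_iff] at hp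
      obtain ⟨y, hy⟩ := hp
      refine ⟨-y, ?_⟩
      have : x = w - β y := by rw [hy]; simp
      show α (β (-y)) = α x
      rw [this, map_sub, hw, map_neg, map_neg, zero_sub]
  have eE : Function.Exact fD fE := by
    intro q
    obtain ⟨x, hx, rfl⟩ := perH_cases q
    rw [hmap_cls, cls_eq_zero_iff]
    constructor
    · rintro ⟨y, (hy : α y = x)⟩
      refine ⟨cls (α * γ) β ⟨y, by show α (γ y) = 0; rw [cac, hy]; exact hx⟩, ?_⟩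
      rw [hmap_cls]
      congr
    · rintro ⟨p, hp⟩
      obtain ⟨w, hw, rfl⟩ := perH_cases p
      rw [hmap_cls, ← sub_eq_zero, ← map_sub, cls_eq_zero_iff] at hp
      obtain ⟨y, (hy : α (β y) = α w - x)⟩ := hp
      exact ⟨w - β y, by show α (w - β y) = x; rw [map_sub, hy]; abel⟩
  have eF : Function.Exact fE fF := by
    intro q
    obtain ⟨x, hx, rfl⟩ := perH_cases q
    rw [hmap_cls, cls_eq_zero_iff]
    constructor
    · rintro ⟨y, (hy : α (γ y) = γ x)⟩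
      refine ⟨cls γ (α * β) ⟨x - α y, by rw [mem_ker, map_sub, ← cac, hy, sub_self]⟩, ?_⟩
      rw [hmap_cls, ← sub_eq_zero, ← map_sub, cls_eq_zero_iff]
      exact ⟨-y, by simp⟩
    · rintro ⟨p, hp⟩
      obtain ⟨w, hw, rfl⟩ := perH_cases p
      rw [hmap_cls, ← sub_eq_zero, ← map_sub, cls_eq_zero_iff] at hp
      obtain ⟨y, hy⟩ := hp
      refine ⟨-y, ?_⟩
      have : x = w - α y := by rw [hy]; simp
      show α (γ (-y)) = γ x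
      rw [this, map_sub, hw, map_neg, map_neg, zero_sub, cac]
  have eA : Function.Exact fF fA := by
    intro q
    obtain ⟨x, hx, rfl⟩ := perH_cases q
    rw [hmap_cls, cls_eq_zero_iff]
    constructor
    · rintro ⟨y, (hy : γ y = x)⟩
      refine ⟨cls (β * γ) α ⟨y, by show β (γ y) = 0; rw [hy]; exact hx⟩, ?_⟩
      rw [hmap_cls]
      congr
    · rintro ⟨p, hp⟩
      obtain ⟨w, hw, rfl⟩ := perH_cases p
      rw [hmap_cls, ← sub_eq_zero, ← map_sub, cls_eq_zero_iff] at hp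
      obtain ⟨y, (hy : α (γ y) = γ w - x)⟩ := hp
      exact ⟨w - α y, by show γ (w - α y) = x; rw [map_sub, ← cac, hy]; abel⟩
  have f1 : Module.length R (perH (α * β) γ) < ⊤ := lt_top_middle fA fB eB h2.1 h1.1
  have f2 : Module.length R (perH γ (α * β)) < ⊤ := lt_top_middle fD fE eE h2.2 h1.2
  refine ⟨⟨f1, f2⟩, ?_⟩
  have := hexagon fA fB fC fD fE fF eA eB eC eD eE eF h2.1 f1 h1.1 h2.2 f2 h1.2
  simp only [herbrand]
  linear_combination -this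

end Mult

section ShortExact

variable {M₁ N₁ M₂ N₂ M₃ N₃ : Type v} [AddCommGroup M₁] [Module R M₁] [AddCommGroup N₁] [Module R N₁]
  [AddCommGroup M₂] [Module R M₂] [AddCommGroup N₂] [Module R N₂] [AddCommGroup M₃] [Module R M₃]
  [AddCommGroup N₃] [Module R N₃]

/-- The map induced by a chain map. -/
noncomputable def chainMap (φ : M₁ →ₗ[R] N₁) (ψ : N₁ →ₗ[R] M₁) (φ' : M₂ →ₗ[R] N₂) (ψ' : N₂ →ₗ[R] M₂)
    (f : M₁ →ₗ[R] M₂) (g : N₁ →ₗ[R] N₂) (cφ : φ' ∘ₗ f = g ∘ₗ φ) (cψ : ψ' ∘ₗ g = f ∘ₗ ψ) :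
    perH φ ψ →ₗ[R] perH φ' ψ' :=
  hmap φ ψ φ' ψ' f (fun x hx => by rw [← LinearMap.comp_apply, cφ, LinearMap.comp_apply, hx, map_zero])
    (fun y _ => ⟨g y, LinearMap.congr_fun cψ y⟩)

lemma chainMap_cls {φ : M₁ →ₗ[R] N₁} {ψ : N₁ →ₗ[R] M₁} {φ' : M₂ →ₗ[R] N₂} {ψ' : N₂ →ₗ[R] M₂}
    {f : M₁ →ₗ[R] M₂} {g : N₁ →ₗ[R] N₂} (cφ : φ' ∘ₗ f = g ∘ₗ φ) (cψ : ψ' ∘ₗ g = f ∘ₗ ψ) (x : M₁) (hx : φ x = 0) :
    chainMap φ ψ φ' ψ' f g cφ cψ (cls φ ψ ⟨x, hx⟩) =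
      cls φ' ψ' ⟨f x, by rw [mem_ker, ← LinearMap.comp_apply, cφ, LinearMap.comp_apply, hx, map_zero]⟩ := rfl

lemma exists_descend {P Q T : Type v} [AddCommGroup P] [Module R P] [AddCommGroup Q] [Module R Q] [AddCommGroup T]
    [Module R T] (s : P →ₗ[R] Q) (hs : Function.Surjective s) (t : P →ₗ[R] T) (h : ker s ≤ ker t) :
    ∃ δ : Q →ₗ[R] T, ∀ p, δ (s p) = t p :=
  ⟨(ker s).liftQ t h ∘ₗ (s.quotKerEquivOfSurjective hs).symm.toLinearMap, fun p => by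
    have : (s.quotKerEquivOfSurjective hs).symm (s p) = Submodule.Quotient.mk p := by
      rw [LinearEquiv.symm_apply_eq]; rfl
    simp [this]⟩

theorem half (φ₁ : M₁ →ₗ[R] N₁) (ψ₁ : N₁ →ₗ[R] M₁) (φ₂ : M₂ →ₗ[R] N₂) (ψ₂ : N₂ →ₗ[R] M₂)
    (φ₃ : M₃ →ₗ[R] N₃) (ψ₃ : N₃ →ₗ[R] M₃) (h₁ : IsPeriodic φ₁ ψ₁) (h₂ : IsPeriodic φ₂ ψ₂)
    (f₁ : M₁ →ₗ[R] M₂) (g₁ : N₁ →ₗ[R] N₂) (f₂ : M₂ →ₗ[R] M₃) (g₂ : N₂ →ₗ[R] N₃)
    (cφ₁ : φ₂ ∘ₗ f₁ = g₁ ∘ₗ φ₁) (cψ₁ : ψ₂ ∘ₗ g₁ = f₁ ∘ₗ ψ₁)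
    (cφ₂ : φ₃ ∘ₗ f₂ = g₂ ∘ₗ φ₂) (cψ₂ : ψ₃ ∘ₗ g₂ = f₂ ∘ₗ ψ₂)
    (hf₁ : Function.Injective f₁) (hg₁ : Function.Injective g₁) (hf₂ : Function.Surjective f₂)
    (hg₂ : Function.Surjective g₂) (hM : range f₁ = ker f₂) (hN : range g₁ = ker g₂) :
    ∃ δ : perH φ₃ ψ₃ →ₗ[R] perH ψ₁ φ₁,
      Function.Exact (chainMap φ₁ ψ₁ φ₂ ψ₂ f₁ g₁ cφ₁ cψ₁) (chainMap φ₂ ψ₂ φ₃ ψ₃ f₂ g₂ cφ₂ cψ₂) ∧
      Function.Exact (chainMap φ₂ ψ₂ φ₃ ψ₃ f₂ g₂ cφ₂ cψ₂) δ ∧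
      Function.Exact δ (chainMap ψ₁ φ₁ ψ₂ φ₂ g₁ f₁ cψ₁ cφ₁) := by
  have eφ₁ : ∀ x, φ₂ (f₁ x) = g₁ (φ₁ x) := LinearMap.congr_fun cφ₁
  have eψ₁ : ∀ x, ψ₂ (g₁ x) = f₁ (ψ₁ x) := LinearMap.congr_fun cψ₁
  have eφ₂ : ∀ x, φ₃ (f₂ x) = g₂ (φ₂ x) := LinearMap.congr_fun cφ₂
  have eψ₂ : ∀ x, ψ₃ (g₂ x) = f₂ (ψ₂ x) := LinearMap.congr_fun cψ₂
  have zM : ∀ x, f₂ (f₁ x) = 0 := fun x => (hM ▸ ⟨x, rfl⟩ : f₁ x ∈ ker f₂)
  have zN : ∀ x, g₂ (g₁ x) = 0 := fun x => (hN ▸ ⟨x, rfl⟩ : g₁ x ∈ ker g₂)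
  let P := ker (φ₃ ∘ₗ f₂)
  have hPm : ∀ p : P, φ₂ (p : M₂) ∈ range g₁ := fun p => by
    rw [hN, mem_ker, ← eφ₂]; exact p.2
  let pre : P →ₗ[R] N₁ := (LinearEquiv.ofInjective g₁ hg₁).symm.toLinearMap ∘ₗ (φ₂ ∘ₗ P.subtype).codRestrict _ hPm
  have hpre : ∀ p : P, g₁ (pre p) = φ₂ (p : M₂) := fun p => by
    show ((LinearEquiv.ofInjective g₁ hg₁) ((LinearEquiv.ofInjective g₁ hg₁).symm _) : N₂) = _
    rw [LinearEquiv.apply_symm_apply]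
    rfl
  have hpre0 : ∀ p : P, ψ₁ (pre p) = 0 := fun p => hf₁ (by
    rw [← eψ₁, hpre, map_zero]; exact LinearMap.congr_fun h₂.2 _)
  let t : P →ₗ[R] perH ψ₁ φ₁ := cls ψ₁ φ₁ ∘ₗ pre.codRestrict (ker ψ₁) hpre0
  let s : P →ₗ[R] perH φ₃ ψ₃ := cls φ₃ ψ₃ ∘ₗ (f₂ ∘ₗ P.subtype).codRestrict (ker φ₃) (fun p => p.2)
  have hs : Function.Surjective s := fun q => by
    obtain ⟨x, hx, rfl⟩ := perH_cases q
    obtain ⟨z, rfl⟩ := hf₂ x
    exact ⟨⟨z, hx⟩, rfl⟩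
  have hker : ker s ≤ ker t := by
    rintro p hp
    rw [mem_ker] at hp ⊢
    change cls _ _ _ = 0 at hp ⊢
    rw [cls_eq_zero_iff] at hp ⊢
    obtain ⟨w, hw⟩ := hp
    obtain ⟨w, rfl⟩ := hg₂ w
    obtain ⟨z, hz⟩ : (p : M₂) - ψ₂ w ∈ range f₁ := by
      rw [hM, mem_ker, map_sub, ← eψ₂, hw]
      exact sub_self _
    refine ⟨z, hg₁ ?_⟩
    show g₁ (φ₁ z) = g₁ (pre p)
    rw [hpre, ← eφ₁, hz, map_sub, show φ₂ (ψ₂ w) = 0 from LinearMap.congr_fun h₂.1 w, sub_zero]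
  obtain ⟨δ, hδ⟩ := exists_descend s hs t hker
  refine ⟨δ, fun q => ?_, fun q => ?_, fun q => ?_⟩
  · obtain ⟨x, hx, rfl⟩ := perH_cases q
    rw [chainMap_cls, cls_eq_zero_iff]
    constructor
    · rintro ⟨w, (hw : ψ₃ w = f₂ x)⟩
      obtain ⟨w, rfl⟩ := hg₂ w
      obtain ⟨z, hz⟩ : x - ψ₂ w ∈ range f₁ := by
        rw [hM, mem_ker, map_sub, ← eψ₂, hw, sub_self]
      have hz0 : φ₁ z = 0 := hg₁ (by
        rw [← eφ₁, hz, map_sub, hx, show φ₂ (ψ₂ w) = 0 from LinearMap.congr_fun h₂.1 w, sub_zero, map_zero])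
      refine ⟨cls φ₁ ψ₁ ⟨z, hz0⟩, ?_⟩
      rw [chainMap_cls, ← sub_eq_zero, ← map_sub, cls_eq_zero_iff]
      exact ⟨-w, by simp [hz]⟩
    · rintro ⟨p, hp⟩
      obtain ⟨z, hz, rfl⟩ := perH_cases p
      rw [chainMap_cls, ← sub_eq_zero, ← map_sub, cls_eq_zero_iff] at hp
      obtain ⟨w, hw⟩ := hp
      refine ⟨-g₂ w, ?_⟩
      show ψ₃ (-g₂ w) = f₂ x
      rw [map_neg, eψ₂, hw]
      simp [zM]
  · obtain ⟨p, rfl⟩ := hs q
    rw [hδ]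
    change cls _ _ _ = 0 ↔ _
    rw [cls_eq_zero_iff]
    constructor
    · rintro ⟨z, (hz : φ₁ z = pre p)⟩
      refine ⟨cls φ₂ ψ₂ ⟨(p : M₂) - f₁ z, by rw [mem_ker, map_sub, eφ₁, hz, hpre, sub_self]⟩, ?_⟩
      rw [chainMap_cls]
      change cls _ _ _ = cls _ _ _
      refine congrArg (cls φ₃ ψ₃) (Subtype.ext ?_)
      show f₂ ((p : M₂) - f₁ z) = f₂ (p : M₂)
      rw [map_sub, zM, sub_zero]
    · rintro ⟨r, hr⟩
      obtain ⟨x, hx, rfl⟩ := perH_cases r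
      rw [chainMap_cls] at hr
      change cls _ _ _ = cls _ _ _ at hr
      rw [← sub_eq_zero, ← map_sub, cls_eq_zero_iff] at hr
      obtain ⟨w, hw⟩ := hr
      obtain ⟨w, rfl⟩ := hg₂ w
      change ψ₃ (g₂ w) = f₂ x - f₂ (p : M₂) at hw
      obtain ⟨z, hz⟩ : x - (p : M₂) - ψ₂ w ∈ range f₁ := by
        rw [hM, mem_ker, map_sub, map_sub, ← eψ₂, hw, sub_self]
      refine ⟨-z, hg₁ ?_⟩
      show g₁ (φ₁ (-z)) = g₁ (pre p)
      rw [hpre, map_neg, map_neg, ← eφ₁, hz, map_sub, map_sub, hx,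
        show φ₂ (ψ₂ w) = 0 from LinearMap.congr_fun h₂.1 w]
      abel
  · obtain ⟨y, hy, rfl⟩ := perH_cases q
    rw [chainMap_cls, cls_eq_zero_iff]
    constructor
    · rintro ⟨x, (hx : φ₂ x = g₁ y)⟩
      refine ⟨s ⟨x, by rw [mem_ker, LinearMap.comp_apply, eφ₂, hx, zN]⟩, ?_⟩
      rw [hδ]
      change cls _ _ _ = cls _ _ _
      exact congrArg (cls ψ₁ φ₁) (Subtype.ext (hg₁ ((hpre _).trans hx)))
    · rintro ⟨r, hr⟩
      obtain ⟨p, rfl⟩ := hs r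
      rw [hδ] at hr
      change cls _ _ _ = cls _ _ _ at hr
      rw [← sub_eq_zero, ← map_sub, cls_eq_zero_iff] at hr
      obtain ⟨z, hz⟩ := hr
      change φ₁ z = pre p - y at hz
      exact ⟨(p : M₂) - f₁ z, by show φ₂ _ = g₁ y; rw [map_sub, eφ₁, hz, map_sub, hpre, sub_sub_cancel]⟩

theorem shortExact (φ₁ : M₁ →ₗ[R] N₁) (ψ₁ : N₁ →ₗ[R] M₁) (φ₂ : M₂ →ₗ[R] N₂) (ψ₂ : N₂ →ₗ[R] M₂)
    (φ₃ : M₃ →ₗ[R] N₃) (ψ₃ : N₃ →ₗ[R] M₃) (h₁ : IsPeriodic φ₁ ψ₁) (h₂ : IsPeriodic φ₂ ψ₂)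
    (f₁ : M₁ →ₗ[R] M₂) (g₁ : N₁ →ₗ[R] N₂) (f₂ : M₂ →ₗ[R] M₃) (g₂ : N₂ →ₗ[R] N₃)
    (cφ₁ : φ₂ ∘ₗ f₁ = g₁ ∘ₗ φ₁) (cψ₁ : ψ₂ ∘ₗ g₁ = f₁ ∘ₗ ψ₁)
    (cφ₂ : φ₃ ∘ₗ f₂ = g₂ ∘ₗ φ₂) (cψ₂ : ψ₃ ∘ₗ g₂ = f₂ ∘ₗ ψ₂)
    (hf₁ : Function.Injective f₁) (hg₁ : Function.Injective g₁) (hf₂ : Function.Surjective f₂)
    (hg₂ : Function.Surjective g₂) (hM : range f₁ = ker f₂) (hN : range g₁ = ker g₂)
    (htwo : (FinCoh R φ₁ ψ₁ ∧ FinCoh R φ₂ ψ₂) ∨ (FinCoh R φ₁ ψ₁ ∧ FinCoh R φ₃ ψ₃) ∨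
      (FinCoh R φ₂ ψ₂ ∧ FinCoh R φ₃ ψ₃)) :
    FinCoh R φ₁ ψ₁ ∧ FinCoh R φ₂ ψ₂ ∧ FinCoh R φ₃ ψ₃ ∧
      herbrand R φ₂ ψ₂ = herbrand R φ₁ ψ₁ + herbrand R φ₃ ψ₃ := by
  obtain ⟨δ, e1, e2, e3⟩ := half φ₁ ψ₁ φ₂ ψ₂ φ₃ ψ₃ h₁ h₂ f₁ g₁ f₂ g₂ cφ₁ cψ₁ cφ₂ cψ₂ hf₁ hg₁ hf₂ hg₂ hM hN
  obtain ⟨δ', e4, e5, e6⟩ := half ψ₁ φ₁ ψ₂ φ₂ ψ₃ φ₃ ⟨h₁.2, h₁.1⟩ ⟨h₂.2, h₂.1⟩ g₁ f₁ g₂ f₂ cψ₁ cφ₁ cψ₂ cφ₂
    hg₁ hf₁ hg₂ hf₂ hN hM
  have fins : FinCoh R φ₁ ψ₁ ∧ FinCoh R φ₂ ψ₂ ∧ FinCoh R φ₃ ψ₃ := by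
    rcases htwo with ⟨ha, hb⟩ | ⟨ha, hc⟩ | ⟨hb, hc⟩
    · exact ⟨ha, hb, lt_top_middle _ _ e2 hb.1 ha.2, lt_top_middle _ _ e5 hb.2 ha.1⟩
    · exact ⟨ha, ⟨lt_top_middle _ _ e1 ha.1 hc.1, lt_top_middle _ _ e4 ha.2 hc.2⟩, hc⟩
    · exact ⟨⟨lt_top_middle _ _ e6 hc.2 hb.1, lt_top_middle _ _ e3 hc.1 hb.2⟩, hb, hc⟩
  obtain ⟨ha, hb, hc⟩ := fins
  refine ⟨ha, hb, hc, ?_⟩
  have := hexagon _ _ _ _ _ _ e6 e1 e2 e3 e4 e5 ha.1 hb.1 hc.1 ha.2 hb.2 hc.2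
  simp only [herbrand]
  linear_combination -this

end ShortExact

end GrothLib.Herbrand
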