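import Mathlib.RingTheory.RegularLocalRing.Defs
import Mathlib.RingTheory.Length
import Mathlib.RingTheory.Ideal.Colon
import Mathlib.LinearAlgebra.LeftExact
import Mathlib.RingTheory.LocalRing.Quotient
import Mathlib.RingTheory.LocalRing.Module
import Mathlib.RingTheory.HopkinsLevitzki
import Mathlib.RingTheory.Ideal.KrullsHeightTheorem
import Groth.Agent.Lib.RegLoc.Basic
import Groth.Agent.Lib.CMFree.Regular
import Groth.Agent.Lib.Serre.Regular

/-!
# `length Hom(I, R/J)` over a regular local ring of dimension two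

Duality over the Artinian complete intersection `B = R/(x^N, y^N)`.
-/

set_option autoImplicit false

noncomputable section

open IsLocalRing

namespace GrothLib.HomIdeal27

universe u

section Generic

variable {R : Type u} [CommRing R]

theorem length_le_add_of_exact {A M C : Type u} [AddCommGroup A] [Module R A] [AddCommGroup M]
    [Module R M] [AddCommGroup C] [Module R C] (f : A →ₗ[R] M) (g : M →ₗ[R] C)
    (h : Function.Exact f g) : Module.length R M ≤ Module.length R A + Module.length R C := by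
  rw [Module.length_eq_add_of_exact (LinearMap.ker g).subtype g.rangeRestrict
    (Submodule.injective_subtype _) g.surjective_rangeRestrict
    (by intro z; simp [LinearMap.rangeRestrict, Subtype.ext_iff])]
  exact add_le_add (h.linearMap_ker_eq ▸ Module.length_le_of_surjective f.rangeRestrict
    f.surjective_rangeRestrict) (Module.length_le_of_injective _ (Submodule.injective_subtype _))

variable [IsLocalRing R] {B : Type u} [AddCommGroup B] [Module R B]

/-- If the socle of `B` is generated by `s`, then `len Hom(M, B) ≤ len M`. -/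
theorem length_hom_le (s : B) (hs : ∀ a ∈ maximalIdeal R, a • s = 0)
    (hsoc : ∀ b : B, (∀ a ∈ maximalIdeal R, a • b = 0) → b ∈ Submodule.span R {s})
    {M : Type u} [AddCommGroup M] [Module R M] (hM : IsFiniteLength R M) :
    Module.length R (M →ₗ[R] B) ≤ Module.length R M := by
  induction hM with
  | of_subsingleton => simp
  | @of_simple_quotient M _ _ N hsimple _ ih =>
    rw [Module.length_eq_add_of_exact N.subtype N.mkQ (Submodule.injective_subtype _)
      (Submodule.mkQ_surjective _) (LinearMap.exact_subtype_mkQ N), add_comm]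
    refine le_trans (length_le_add_of_exact _ _
      (LinearMap.exact_lcomp_of_exact_of_surjective B (LinearMap.exact_subtype_mkQ N)
        (Submodule.mkQ_surjective N))) (add_le_add ?_ ih)
    obtain ⟨I, hI, ⟨e⟩⟩ := isSimpleModule_iff_quot_maximal.1 hsimple
    rw [eq_maximalIdeal hI] at e
    rw [Module.length_eq_one (R := R) (M := M ⧸ N)]
    let Φ : ((M ⧸ N) →ₗ[R] B) →ₗ[R] B := LinearMap.applyₗ (e.symm (Submodule.Quotient.mk 1))
    have hΦ : Function.Injective Φ := by
      intro a b hab
      refine LinearMap.ext fun z => ?_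
      obtain ⟨c, hc⟩ := Submodule.Quotient.mk_surjective _ (e z)
      have hz : z = c • e.symm (Submodule.Quotient.mk 1) := by
        rw [← map_smul, ← Submodule.Quotient.mk_smul, smul_eq_mul, mul_one, hc, e.symm_apply_apply]
      rw [hz, map_smul, map_smul]
      exact congrArg (c • ·) hab
    have hsub : ∀ φ, Φ φ ∈ Submodule.span R {s} := by
      intro φ
      refine hsoc _ fun a ha => ?_
      change a • φ (e.symm _) = 0
      rw [← map_smul φ, ← map_smul e.symm, ← Submodule.Quotient.mk_smul,
        (Submodule.Quotient.mk_eq_zero _).2 (by simpa using ha), map_zero, map_zero]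
    refine (Module.length_le_of_injective (Φ.codRestrict _ hsub)
      (fun a b h => hΦ (congrArg Subtype.val h))).trans ?_
    let q : (R ⧸ maximalIdeal R) →ₗ[R] (Submodule.span R {s}) :=
      Submodule.liftQ _ (LinearMap.toSpanSingleton R (Submodule.span R {s})
        ⟨s, Submodule.mem_span_singleton_self s⟩) (fun a ha => Subtype.ext (hs a ha))
    have hq : Function.Surjective q := by
      rintro ⟨b, hb⟩
      obtain ⟨c, rfl⟩ := Submodule.mem_span_singleton.1 hb
      exact ⟨Submodule.Quotient.mk c, rfl⟩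
    refine (Module.length_le_of_surjective q hq).trans ?_
    rw [← LinearEquiv.length_eq e]
    exact le_of_eq (Module.length_eq_one (R := R) (M := M ⧸ N))

end Generic

section Duality

variable {R : Type u} [CommRing R] [IsLocalRing R] {A : Type u} [CommRing A] [Algebra R A]
variable {κ : Type} [Fintype κ] [DecidableEq κ]

/-- The standard pairing. -/
def pairing : (κ → A) →ₗ[R] (κ → A) →ₗ[R] A :=
  LinearMap.mk₂ R (fun v t => ∑ i, v i * t i)
    (fun a b t => by simp [add_mul, Finset.sum_add_distrib])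
    (fun c v t => by simp [Finset.smul_sum])
    (fun v a b => by simp [mul_add, Finset.sum_add_distrib])
    (fun c v t => by simp [Finset.smul_sum])

/-- The orthogonal of a submodule of `A^κ`. -/
def orth (X : Submodule R (κ → A)) : Submodule R (κ → A) :=
  LinearMap.ker (LinearMap.lcomp R A X.subtype ∘ₗ pairing)

theorem mem_orth {X : Submodule R (κ → A)} {v : κ → A} :
    v ∈ orth X ↔ ∀ t ∈ X, ∑ i, v i * t i = 0 :=
  ⟨fun h t ht => LinearMap.congr_fun (LinearMap.mem_ker.1 h) ⟨t, ht⟩,
    fun h => LinearMap.mem_ker.2 (LinearMap.ext fun t => h t t.2)⟩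

theorem length_orth (hA : IsFiniteLength R A) (s : A) (hs : ∀ a ∈ maximalIdeal R, a • s = 0)
    (hsoc : ∀ b : A, (∀ a ∈ maximalIdeal R, a • b = 0) → b ∈ Submodule.span R {s})
    (X : Submodule R (κ → A)) :
    Module.length R (orth X) = Module.length R ((κ → A) ⧸ X) := by
  obtain ⟨hn, ha⟩ := isFiniteLength_iff_isNoetherian_isArtinian.1 hA
  have hXf : IsFiniteLength R X := isFiniteLength_iff_isNoetherian_isArtinian.2 ⟨inferInstance, inferInstance⟩
  have hQf : IsFiniteLength R ((κ → A) ⧸ X) :=
    isFiniteLength_iff_isNoetherian_isArtinian.2 ⟨inferInstance, inferInstance⟩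
  apply le_antisymm
  · let F : orth X →ₗ[R] (((κ → A) ⧸ X) →ₗ[R] A) :=
      { toFun := fun v => X.liftQ (pairing (v : κ → A)) fun t ht => mem_orth.1 v.2 t ht
        map_add' := fun a b => Submodule.linearMap_qext _ (LinearMap.ext fun t => by simp)
        map_smul' := fun c a => Submodule.linearMap_qext _ (LinearMap.ext fun t => by simp) }
    have hF : Function.Injective F := by
      refine (injective_iff_map_eq_zero F).2 fun v hv => Subtype.ext (funext fun j => ?_)
      have := LinearMap.congr_fun hv (Submodule.Quotient.mk (Pi.single j 1))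
      simpa [F, pairing, Pi.single_apply] using this
    exact (Module.length_le_of_injective F hF).trans (length_hom_le s hs hsoc hQf)
  · have h1 : Module.length R (κ → A) ≤ Module.length R (orth X) + Module.length R X :=
      (length_le_add_of_exact (orth X).subtype (LinearMap.lcomp R A X.subtype ∘ₗ pairing)
        (LinearMap.exact_subtype_ker_map _)).trans
        (add_le_add le_rfl (length_hom_le s hs hsoc hXf))
    rw [Module.length_eq_add_of_exact X.subtype X.mkQ (Submodule.injective_subtype _)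
      (Submodule.mkQ_surjective _) (LinearMap.exact_subtype_mkQ X), add_comm] at h1
    exact (ENat.add_le_add_iff_right (Module.length_ne_top_iff.2 hXf)).1 h1

end Duality

section Regular

variable {R : Type u} [CommRing R] [IsRegularLocalRing R]

theorem prime_of_params (hdim : ringKrullDim R = 2) {x y : R}
    (h : Ideal.span {x, y} = maximalIdeal R) : Prime x ∧ ¬ x ∣ y := by
  have hd : (maximalIdeal R).spanFinrank = 2 := by
    rw [← IsRegularLocalRing.spanFinrank_maximalIdeal] at hdim
    exact_mod_cast hdim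
  have hx : x ∈ maximalIdeal R := h ▸ Ideal.subset_span (Set.mem_insert _ _)
  have hx2 : x ∉ maximalIdeal R ^ 2 :=
    RegLoc.not_mem_sq_of_span_cons (d := 1) (by omega) (z := ![y]) (by
      rw [← h, Fin.range_cons]; simp)
  have := (RegLoc.quotient_isRegularLocalRing hx hx2).1
  have hdom := CMFree.isDomain_of_isRegularLocalRing (R ⧸ Ideal.span {x})
  have hx0 : x ≠ 0 := fun e => hx2 (e ▸ Submodule.zero_mem _)
  refine ⟨(Ideal.span_singleton_prime hx0).1 ((Ideal.Quotient.isDomain_iff_prime _).1 hdom), ?_⟩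
  intro hd1
  have := RegLoc.spanFinrank_le_of_span (I := maximalIdeal R) (fun _ : Fin 1 => x) (by
    rw [← h, Set.range_const, Ideal.span_insert x {y}, eq_comm, sup_eq_left,
      Ideal.span_singleton_le_iff_mem, Ideal.mem_span_singleton]
    exact hd1)
  omega

theorem socle_mem [IsDomain R] {x y : R} (hx : Prime x) (hxy : ¬ x ∣ y) (k : ℕ) (b : R)
    (h1 : x * b ∈ Ideal.span {x ^ (k + 1), y ^ (k + 1)})
    (h2 : y * b ∈ Ideal.span {x ^ (k + 1), y ^ (k + 1)}) :
    ∃ c, b - c * (x ^ k * y ^ k) ∈ Ideal.span {x ^ (k + 1), y ^ (k + 1)} := by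
  obtain ⟨p, q, h1⟩ := Ideal.mem_span_pair.1 h1
  obtain ⟨q', rfl⟩ : x ∣ q :=
    (hx.dvd_or_dvd (show x ∣ q * y ^ (k + 1) from ⟨b - p * x ^ k, by linear_combination h1⟩)).resolve_right
      fun h => hxy (hx.dvd_of_dvd_pow h)
  have hb : b = p * x ^ k + q' * y ^ (k + 1) :=
    mul_left_cancel₀ hx.ne_zero (by linear_combination -h1)
  obtain ⟨r, t, h2⟩ := Ideal.mem_span_pair.1 h2
  obtain ⟨s', hs'⟩ : x ^ k ∣ t - q' * y :=
    hx.pow_dvd_of_dvd_mul_left k (fun h => hxy (hx.dvd_of_dvd_pow h))
      (show x ^ k ∣ y ^ (k + 1) * (t - q' * y) from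
        ⟨p * y - r * x, by linear_combination h2 + y * hb⟩)
  have hpy : p * y - r * x = s' * y ^ (k + 1) :=
    mul_left_cancel₀ (pow_ne_zero k hx.ne_zero)
      (by linear_combination -y * hb - h2 + y ^ (k + 1) * hs')
  obtain ⟨w, hw⟩ : x ∣ p - s' * y ^ k :=
    (hx.dvd_or_dvd (show x ∣ y * (p - s' * y ^ k) from
      ⟨r, by linear_combination hpy⟩)).resolve_left hxy
  exact ⟨s', Ideal.mem_span_pair.2 ⟨w, q', by linear_combination -hb - x ^ k * hw⟩⟩

theorem exists_presentation (hdim : ringKrullDim R = 2) (I : Ideal R) (hI0 : I ≠ ⊥) :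
    ∃ (n m : ℕ) (ε : (Fin n → R) →ₗ[R] I) (φ : (Fin m → R) →ₗ[R] (Fin n → R)),
      Function.Surjective ε ∧ Function.Injective φ ∧ Function.Exact φ ε ∧ n = m + 1 := by
  have := CMFree.isDomain_of_isRegularLocalRing R
  obtain ⟨n, ε, hε⟩ := Module.Finite.exists_fin' R I
  have h2 := Serre.pdLE_of_isRegularLocalRing R 2 (by exact_mod_cast hdim) (R ⧸ I)
  have h1 : Serre.PdLE R I 1 :=
    (Serre.pdLE_congr (LinearEquiv.ofEq _ _ (Submodule.ker_mkQ I)) 1).1
      ((Serre.pdLE_succ_iff (Submodule.mkQ I) (Submodule.mkQ_surjective _) 1).1 h2)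
  have : Module.Projective R (LinearMap.ker ε) :=
    Serre.pdLE_zero_iff.1 ((Serre.pdLE_succ_iff ε hε 0).1 h1)
  have : Module.Free R (LinearMap.ker ε) := Module.free_of_flat_of_isLocalRing
  let b := Module.finBasis R (LinearMap.ker ε)
  refine ⟨n, Module.finrank R (LinearMap.ker ε), ε,
    (LinearMap.ker ε).subtype ∘ₗ b.equivFun.symm.toLinearMap, hε,
    Subtype.val_injective.comp b.equivFun.symm.injective, ?_, ?_⟩
  · rw [LinearMap.exact_iff, LinearMap.range_comp, LinearEquiv.range, Submodule.map_top,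
      Submodule.range_subtype]
  · have h := Submodule.finrank_quotient_add_finrank (LinearMap.ker ε)
    rw [(ε.quotKerEquivOfSurjective hε).finrank_eq, Module.finrank_fin_fun] at h
    have hI1 : Module.finrank R I = 1 := by
      obtain ⟨a, ha, ha0⟩ := Submodule.exists_mem_ne_zero_of_ne_bot hI0
      have hle : Module.finrank R I ≤ Module.finrank R R :=
        LinearMap.finrank_le_finrank_of_injective (f := I.subtype) Subtype.val_injective
      have hge : Module.finrank R R ≤ Module.finrank R I :=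
        LinearMap.finrank_le_finrank_of_injective (f := LinearMap.toSpanSingleton R I ⟨a, ha⟩)
          (by intro c d hcd; exact mul_right_cancel₀ ha0 (congrArg Subtype.val hcd))
      rw [Module.finrank_self] at hle hge
      omega
    omega

set_option backward.isDefEq.respectTransparency false in
theorem length_hom_add_length_quot_colon (hdim : ringKrullDim R = 2) (I J : Ideal R)
    (hI : Module.length R (R ⧸ I) < ⊤) (hJ : Module.length R (R ⧸ J) < ⊤) :
    Module.length R (↥I →ₗ[R] (R ⧸ J)) + Module.length R (R ⧸ I.colon J) =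
      Module.length R (R ⧸ J) + Module.length R (R ⧸ I) := by
  classical
  have hdom := CMFree.isDomain_of_isRegularLocalRing R
  -- parameters
  obtain ⟨z, hz⟩ := RegLoc.exists_generators_fin (maximalIdeal R)
  have hd : (maximalIdeal R).spanFinrank = 2 := by
    have h := hdim
    rw [← IsRegularLocalRing.spanFinrank_maximalIdeal] at h
    exact_mod_cast h
  obtain ⟨x, y, hm⟩ : ∃ x y, Ideal.span {x, y} = maximalIdeal R := by
    refine ⟨z ⟨0, by omega⟩, z ⟨1, by omega⟩, ?_⟩
    conv_rhs => rw [← hz]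
    congr 1
    ext a
    constructor
    · rintro (rfl | rfl) <;> exact ⟨_, rfl⟩
    · rintro ⟨⟨i, hi⟩, rfl⟩
      obtain rfl | rfl : i = 0 ∨ i = 1 := by omega
      · exact Or.inl rfl
      · exact Or.inr rfl
  obtain ⟨hx, hxy⟩ := prime_of_params hdim hm
  obtain ⟨hy, hyx⟩ := prime_of_params hdim (x := y) (y := x) (by rw [Set.pair_comm]; exact hm)
  -- a power of the maximal ideal inside `I` and `J`
  obtain ⟨k, hkI, hkJ⟩ : ∃ k, maximalIdeal R ^ (k + 1) ≤ I ∧ maximalIdeal R ^ (k + 1) ≤ J := by
    have key : ∀ K : Ideal R, Module.length R (R ⧸ K) < ⊤ → ∃ j, maximalIdeal R ^ j ≤ K := by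
      intro K hK
      have := (isFiniteLength_iff_isNoetherian_isArtinian.1 (Module.length_ne_top_iff.1 hK.ne)).2
      have : IsArtinianRing (R ⧸ K) := isArtinian_of_tower R this
      exact exists_maximalIdeal_pow_le_of_isArtinianRing_quotient K
    obtain ⟨i, hi⟩ := key I hI
    obtain ⟨j, hj⟩ := key J hJ
    exact ⟨i + j, le_trans (Ideal.pow_le_pow_right (by omega)) hi,
      le_trans (Ideal.pow_le_pow_right (by omega)) hj⟩
  have hfm : x ^ (k + 1) ∈ maximalIdeal R ^ (k + 1) :=
    Ideal.pow_mem_pow (hm ▸ Ideal.subset_span (Set.mem_insert _ _)) _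
  have hgm : y ^ (k + 1) ∈ maximalIdeal R ^ (k + 1) :=
    Ideal.pow_mem_pow (hm ▸ Ideal.subset_span (Set.mem_insert_of_mem _ rfl)) _
  set f := x ^ (k + 1)
  set g := y ^ (k + 1)
  set F : Ideal R := Ideal.span {f, g}
  have hf0 : f ≠ 0 := pow_ne_zero _ hx.ne_zero
  have hg0 : g ≠ 0 := pow_ne_zero _ hy.ne_zero
  have hreg : ∀ u w : R, f * u + g * w = 0 → ∃ c, w = f * c ∧ u = -(g * c) := by
    intro u w h
    obtain ⟨c, hc⟩ : f ∣ w := hx.pow_dvd_of_dvd_mul_left _ (fun h => hxy (hx.dvd_of_dvd_pow h))
      (show f ∣ g * w from ⟨-u, by linear_combination h⟩)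
    exact ⟨c, hc, mul_left_cancel₀ hf0 (by linear_combination h - g * hc)⟩
  -- the ring `B`
  have hmem_m : ∀ a ∈ maximalIdeal R, ∃ p q, p * x + q * y = a := fun a ha =>
    Ideal.mem_span_pair.1 (hm ▸ ha)
  have hBfin : IsFiniteLength R (R ⧸ F) := by
    have hFm : F ≤ maximalIdeal R := Ideal.span_le.2 (Set.insert_subset_iff.2
      ⟨Ideal.pow_le_self (by omega) hfm, Set.singleton_subset_iff.2 (Ideal.pow_le_self (by omega) hgm)⟩)
    have := RegLoc.isLocalRing_quotient hFm
    have : IsArtinianRing (R ⧸ F) := by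
      rw [isArtinianRing_iff_isNilpotent_maximalIdeal]
      refine ⟨k + 1 + (k + 1), ?_⟩
      rw [← RegLoc.map_maximalIdeal_quotient F, ← Ideal.map_pow, Ideal.zero_eq_bot, eq_bot_iff,
        Ideal.map_le_iff_le_comap, ← RingHom.ker_eq_comap_bot, Ideal.mk_ker, ← hm, Ideal.span_insert]
      refine Ideal.sup_pow_add_le_pow_sup_pow.trans ?_
      rw [Ideal.span_singleton_pow, Ideal.span_singleton_pow, ← Ideal.span_insert]
    refine Module.length_ne_top_iff.1 ?_
    rw [Module.length_eq_of_surjective (S := R) (R := R ⧸ F) Ideal.Quotient.mk_surjective]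
    exact Module.length_ne_top
  let s : R ⧸ F := Ideal.Quotient.mk F (x ^ k * y ^ k)
  have hs : ∀ a ∈ maximalIdeal R, a • s = 0 := by
    intro a ha
    obtain ⟨p, q, rfl⟩ := hmem_m a ha
    rw [Algebra.smul_def, Ideal.Quotient.algebraMap_eq, ← map_mul, Ideal.Quotient.eq_zero_iff_mem]
    exact Ideal.mem_span_pair.2 ⟨p * y ^ k, q * x ^ k, by simp only [f, g]; ring⟩
  have hsoc : ∀ b : R ⧸ F, (∀ a ∈ maximalIdeal R, a • b = 0) → b ∈ Submodule.span R {s} := by
    intro b hb
    obtain ⟨b, rfl⟩ := Ideal.Quotient.mk_surjective b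
    have h' : ∀ a ∈ maximalIdeal R, a * b ∈ F := fun a ha => by
      rw [← Ideal.Quotient.eq_zero_iff_mem, map_mul]
      exact hb a ha
    obtain ⟨c, hc⟩ := socle_mem hx hxy k b (h' x (hm ▸ Ideal.subset_span (Set.mem_insert _ _)))
      (h' y (hm ▸ Ideal.subset_span (Set.mem_insert_of_mem _ rfl)))
    exact Submodule.mem_span_singleton.2 ⟨c, by
      rw [Algebra.smul_def, Ideal.Quotient.algebraMap_eq, ← map_mul]
      exact (Ideal.Quotient.eq.2 hc).symm⟩
  -- presentation
  obtain ⟨n, m, ε, φ, hε, hφ, hex, hnm⟩ :=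
    exists_presentation hdim I (fun e => hf0 (by simpa [e] using hkI hfm))
  let εR : (Fin n → R) →ₗ[R] R := I.subtype ∘ₗ ε
  have hker : ∀ a, εR a = 0 → ∃ p, φ p = a := fun a ha => (hex a).1 (Subtype.ext ha)
  have hεφ : ∀ p, εR (φ p) = 0 := fun p => congrArg Subtype.val (hex.apply_apply_eq_zero p)
  obtain ⟨a0, ha0⟩ := hε ⟨-g, I.neg_mem (hkI hgm)⟩
  obtain ⟨b0, hb0⟩ := hε ⟨f, hkI hfm⟩
  replace ha0 : εR a0 = -g := congrArg Subtype.val ha0
  replace hb0 : εR b0 = f := congrArg Subtype.val hb0
  obtain ⟨v0, hv0⟩ := hker (f • a0 + g • b0) (by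
    simp only [map_add, map_smul, ha0, hb0, smul_eq_mul]; ring)
  have hcomp : ∀ {l : ℕ} (v : Fin l → R), (∀ i, v i ∈ F) → ∃ a b, v = f • a + g • b := by
    intro l v hv
    choose a b hab using fun i => Ideal.mem_span_pair.1 (hv i)
    exact ⟨a, b, funext fun i => by simp [← hab i, mul_comm]⟩
  have hmemF : ∀ {l : ℕ} (a b : Fin l → R) i, (f • a + g • b) i ∈ F := fun a b i =>
    Ideal.mem_span_pair.2 ⟨a i, b i, by simp [mul_comm]⟩
  have hkerΨ : ∀ c : R, (∀ i, (c • v0) i ∈ F) ↔ c ∈ I := by
    intro c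
    constructor
    · intro h
      obtain ⟨p, q, hpq⟩ := hcomp _ h
      have h1 := congrArg φ hpq
      simp only [map_smul, map_add, hv0] at h1
      have h2 : ∀ i, f * (c * a0 i - φ p i) + g * (c * b0 i - φ q i) = 0 := fun i => by
        have := congrFun h1 i
        simp only [Pi.smul_apply, Pi.add_apply, smul_eq_mul] at this
        linear_combination this
      choose r hr1 hr2 using fun i => hreg _ _ (h2 i)
      have h3 : c • a0 - φ p = -(g • r) := funext fun i => by simpa using hr2 i
      have h4 := congrArg εR h3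
      simp only [map_sub, map_smul, map_neg, hεφ, ha0, smul_eq_mul] at h4
      have h5 : c = εR r := mul_left_cancel₀ hg0 (by linear_combination -h4)
      exact h5 ▸ (ε r).2
    · intro hc
      obtain ⟨r, hr⟩ := hε ⟨c, hc⟩
      replace hr : εR r = c := congrArg Subtype.val hr
      obtain ⟨p, hp⟩ := hker (c • a0 + g • r) (by
        simp only [map_add, map_smul, ha0, hr, smul_eq_mul]; ring)
      obtain ⟨q, hq⟩ := hker (c • b0 - f • r) (by
        simp only [map_sub, map_smul, hb0, hr, smul_eq_mul]; ring)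
      have h : c • v0 = f • p + g • q := hφ (by
        simp only [map_smul, map_add, hp, hq, hv0, smul_add, smul_sub]
        rw [smul_comm f c a0, smul_comm g c b0, smul_comm f g r]
        abel)
      exact h ▸ hmemF p q
  -- the cokernel
  let H1 := LinearMap.lcomp R (R ⧸ J) ε
  let H2 := LinearMap.lcomp R (R ⧸ J) φ
  have hH1 : Function.Injective H1 := fun a b hab => LinearMap.ext fun v => by
    obtain ⟨w, rfl⟩ := hε v
    exact LinearMap.congr_fun hab w
  have hex2 : Function.Exact H1 H2 :=
    LinearMap.exact_lcomp_of_exact_of_surjective (R ⧸ J) hex hε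
  let C := ((Fin m → R) →ₗ[R] (R ⧸ J)) ⧸ LinearMap.range H2
  let π : (Fin m → R) →ₗ[R] (Fin m → R ⧸ F) := (Submodule.mkQ F).compLeft (Fin m)
  have hπ : Function.Surjective π := fun v => by
    choose w hw using fun i => Ideal.Quotient.mk_surjective (v i)
    exact ⟨w, funext hw⟩
  have hπ0 : ∀ u, π u = 0 ↔ ∀ i, u i ∈ F := fun u => by
    simp [π, funext_iff, Ideal.Quotient.eq_zero_iff_mem]
  let θ : (Fin m → R) →ₗ[R] C :=
    (LinearMap.range H2).mkQ ∘ₗ ((Pi.basisFun R (Fin m)).constr R).toLinearMap ∘ₗ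
      (Submodule.mkQ J).compLeft (Fin m)
  have hθ : Function.Surjective θ :=
    (Submodule.mkQ_surjective _).comp (((Pi.basisFun R (Fin m)).constr R).surjective.comp
      fun v => by
        choose w hw using fun i => Ideal.Quotient.mk_surjective (v i)
        exact ⟨w, funext hw⟩)
  have hM : ∀ (v : Fin m → R) (i : Fin n), φ v i = ∑ l, v l * φ (Pi.single l 1) i := by
    intro v i
    conv_lhs => rw [pi_eq_sum_univ' v]
    simp
  have hθ0 : ∀ u, θ u = 0 ↔
      ∃ a : Fin n → R, ∀ l, u l - ∑ i, φ (Pi.single l 1) i * a i ∈ J := by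
    intro u
    refine (Submodule.Quotient.mk_eq_zero (LinearMap.range H2)
      (x := (Pi.basisFun R (Fin m)).constr R ((Submodule.mkQ J).compLeft (Fin m) u))).trans ?_
    rw [LinearMap.mem_range]
    constructor
    · rintro ⟨h, hh⟩
      choose a ha using fun i => Ideal.Quotient.mk_surjective (h (Pi.single i 1))
      refine ⟨a, fun l => Ideal.Quotient.eq.1 ?_⟩
      have h1 := LinearMap.congr_fun hh (Pi.single l 1)
      rw [show Pi.single l (1 : R) = Pi.basisFun R (Fin m) l from (Pi.basisFun_apply _ _ _).symm,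
        Module.Basis.constr_basis] at h1
      refine h1.symm.trans ?_
      rw [Pi.basisFun_apply, map_sum]
      simp only [H2, LinearMap.lcomp_apply]
      conv_lhs => rw [pi_eq_sum_univ' (φ (Pi.single l 1)), map_sum]
      refine Finset.sum_congr rfl fun i _ => ?_
      rw [map_smul, ← ha, Algebra.smul_def, Ideal.Quotient.algebraMap_eq, map_mul]
    · rintro ⟨a, ha⟩
      refine ⟨(Pi.basisFun R (Fin n)).constr R fun i => Ideal.Quotient.mk J (a i),
        (Pi.basisFun R (Fin m)).ext fun l => ?_⟩
      rw [Module.Basis.constr_basis, Pi.basisFun_apply]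
      simp only [H2, LinearMap.lcomp_apply, Module.Basis.constr_apply_fintype]
      simp only [LinearMap.compLeft_apply, Function.comp_apply, Submodule.mkQ_apply,
        Pi.basisFun_equivFun, LinearEquiv.refl_apply, Algebra.smul_def,
        Ideal.Quotient.algebraMap_eq, ← map_mul, ← map_sum]
      exact (Ideal.Quotient.eq.2 (ha l)).symm
  let T : Submodule R (Fin m → R ⧸ F) := Submodule.map π (LinearMap.ker θ)
  have hFJ : F ≤ J := Ideal.span_le.2 (Set.insert_subset_iff.2
    ⟨hkJ hfm, Set.singleton_subset_iff.2 (hkJ hgm)⟩)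
  have hkerπ : LinearMap.ker π ≤ LinearMap.ker θ := fun u hu =>
    (hθ0 u).2 ⟨0, fun l => by simpa using hFJ ((hπ0 u).1 hu l)⟩
  have hC : Module.length R C = Module.length R ((Fin m → R ⧸ F) ⧸ T) := by
    refine LinearEquiv.length_eq ?_
    refine (LinearMap.quotKerEquivOfSurjective θ hθ).symm.trans ((Submodule.quotEquivOfEq _ _ ?_).trans
      (LinearMap.quotKerEquivOfSurjective (T.mkQ ∘ₗ π) ((Submodule.mkQ_surjective _).comp hπ)))
    have : LinearMap.ker (T.mkQ ∘ₗ π) = Submodule.comap π T := by
      ext u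
      simp
    rw [this, Submodule.comap_map_eq, sup_eq_left.2 hkerπ]
  -- the orthogonal of `T`
  let K : Ideal R := I.colon J
  have hIK : I ≤ K := Ideal.le_colon
  let Ψ : (R ⧸ I) →ₗ[R] (Fin m → R ⧸ F) :=
    Submodule.liftQ I (π ∘ₗ LinearMap.toSpanSingleton R _ v0) fun c hc =>
      (hπ0 _).2 ((hkerΨ c).2 hc)
  have hΨ : Function.Injective Ψ := by
    refine (injective_iff_map_eq_zero Ψ).2 fun c hc => ?_
    obtain ⟨c, rfl⟩ := Submodule.Quotient.mk_surjective _ c
    exact (Submodule.Quotient.mk_eq_zero _).2 ((hkerΨ c).1 ((hπ0 _).1 hc))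
  have hpair : ∀ w u, ∑ l, π w l * π u l = Ideal.Quotient.mk F (∑ l, w l * u l) := fun w u => by
    simp [π]
  have horth : orth T = Submodule.map Ψ (Submodule.map (Submodule.mkQ I) K) := by
    ext v
    obtain ⟨w, rfl⟩ := hπ v
    rw [mem_orth]
    constructor
    · intro h
      have hall : ∀ u, θ u = 0 → ∑ l, w l * u l ∈ F := fun u hu =>
        Ideal.Quotient.eq_zero_iff_mem.1 ((hpair w u).symm.trans (h _ ⟨u, hu, rfl⟩))
      obtain ⟨a, b, hab⟩ := hcomp (φ w) fun i => by
        have := hall (fun l => φ (Pi.single l 1) i)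
          ((hθ0 _).2 ⟨Pi.single i 1, fun l => by simp [Pi.single_apply]⟩)
        rwa [hM]
      have h0 := congrArg εR hab
      simp only [hεφ, map_add, map_smul, smul_eq_mul] at h0
      obtain ⟨c, hc1, hc2⟩ := hreg _ _ h0.symm
      obtain ⟨p, hp⟩ := hker (a - c • a0) (by
        simp only [map_sub, map_smul, ha0, smul_eq_mul, hc2]; ring)
      obtain ⟨q, hq⟩ := hker (b - c • b0) (by
        simp only [map_sub, map_smul, hb0, smul_eq_mul, hc1]; ring)
      have hw : w - c • v0 = f • p + g • q := hφ (by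
        simp only [map_smul, map_add, map_sub, hp, hq, hv0, hab, smul_add, smul_sub]
        rw [smul_comm f c a0, smul_comm g c b0]
        abel)
      have hcv : π w = π (c • v0) := sub_eq_zero.1 <| by
        rw [← map_sub]; exact (hπ0 _).2 (hw ▸ hmemF p q)
      refine ⟨Submodule.Quotient.mk c, ⟨c, Submodule.mem_colon.2 fun j hj => ?_, rfl⟩, hcv.symm⟩
      rw [smul_eq_mul]
      refine (hkerΨ _).1 fun l => ?_
      have h1 : w l * j ∈ F := by
        simpa [Pi.single_apply] using hall (Pi.single l j)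
          ((hθ0 _).2 ⟨0, fun l' => by by_cases h : l' = l <;> simp [h, (show j ∈ J from hj)]⟩)
      have h2 : (w - c • v0) l ∈ F := hw ▸ hmemF p q l
      have := F.sub_mem h1 (F.mul_mem_left j h2)
      convert this using 1
      simp
      ring
    · rintro ⟨_, ⟨c, hc, rfl⟩, hcw⟩ _ ⟨u, hu, rfl⟩
      rw [← hcw, show Ψ (Submodule.mkQ I c) = π (c • v0) from rfl, hpair,
        Ideal.Quotient.eq_zero_iff_mem]
      obtain ⟨a, ha⟩ := (hθ0 u).1 hu
      have h1 : ∀ l, c * v0 l * (u l - ∑ i, φ (Pi.single l 1) i * a i) ∈ F := fun l => by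
        have := (hkerΨ _).2 (Submodule.mem_colon.1 hc _ (ha l)) l
        simp only [Pi.smul_apply, smul_eq_mul] at this
        convert this using 1
        ring
      have h2 : ∑ i, a i * (c * φ v0 i) ∈ F := F.sum_mem fun i _ => F.mul_mem_left _
        (F.mul_mem_left _ (hv0 ▸ hmemF a0 b0 i))
      convert F.add_mem (F.sum_mem fun l (_ : l ∈ Finset.univ) => h1 l) h2 using 1
      simp only [Pi.smul_apply, smul_eq_mul, mul_sub, Finset.sum_sub_distrib, hM v0, Finset.mul_sum]
      rw [Finset.sum_comm (f := fun i l => a i * (c * (v0 l * φ (Pi.single l 1) i)))]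
      rw [← sub_eq_zero]
      ring_nf
      rw [← Finset.sum_sub_distrib]
      refine Finset.sum_eq_zero fun l _ => ?_
      rw [← Finset.sum_sub_distrib]
      exact Finset.sum_eq_zero fun i _ => by ring
  have hKbar : Module.length R (orth T) + Module.length R (R ⧸ K) = Module.length R (R ⧸ I) := by
    rw [horth, ← (Submodule.equivMapOfInjective Ψ hΨ _).length_eq,
      ← (Submodule.quotientQuotientEquivQuotient I K hIK).length_eq]
    exact (Module.length_eq_add_of_exact _ _ (Submodule.injective_subtype _)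
      (Submodule.mkQ_surjective _) (LinearMap.exact_subtype_mkQ _)).symm
  rw [length_orth hBfin s hs hsoc T, ← hC] at hKbar
  -- counting
  have hn' : Module.length R ((Fin n → R) →ₗ[R] (R ⧸ J)) = n * Module.length R (R ⧸ J) := by
    rw [← ((Pi.basisFun R (Fin n)).constr (M' := R ⧸ J) R).length_eq, Module.length_pi,
      ENat.card_eq_coe_fintype_card, Fintype.card_fin]
  have hm' : Module.length R ((Fin m → R) →ₗ[R] (R ⧸ J)) = m * Module.length R (R ⧸ J) := by
    rw [← ((Pi.basisFun R (Fin m)).constr (M' := R ⧸ J) R).length_eq, Module.length_pi,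
      ENat.card_eq_coe_fintype_card, Fintype.card_fin]
  let H2' : _ →ₗ[R] LinearMap.range H2 := H2.rangeRestrict
  have hex2' : Function.Exact H1 H2' := fun v => by
    rw [← hex2 v]; simp [H2', LinearMap.rangeRestrict, Subtype.ext_iff]
  have e1 := Module.length_eq_add_of_exact (M := (Fin n → R) →ₗ[R] (R ⧸ J)) (P := LinearMap.range H2) (g := H2') H1 hH1 H2.surjective_rangeRestrict hex2'
  have e2 := Module.length_eq_add_of_exact (M := (Fin m → R) →ₗ[R] (R ⧸ J)) (N := LinearMap.range H2) (P := C) (LinearMap.range H2).subtype (LinearMap.range H2).mkQ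
    (Submodule.injective_subtype _) (Submodule.mkQ_surjective _) (LinearMap.exact_subtype_mkQ _)
  rw [hn'] at e1
  rw [hm'] at e2
  rw [← hKbar]
  change _ + Module.length R (R ⧸ K) = _
  change _ = _ + Module.length R C at e2
  obtain ⟨L, hL⟩ := ENat.ne_top_iff_exists.1 hJ.ne
  rw [← hL] at e1 e2 ⊢
  subst hnm
  generalize Module.length R (↥I →ₗ[R] (R ⧸ J)) = h at *
  generalize Module.length R (LinearMap.range H2) = r at *
  generalize Module.length R C = c at *
  generalize Module.length R (R ⧸ K) = q at *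
  have e1' : (((m + 1) * L : ℕ) : ℕ∞) = h + r := by rw [← e1]; push_cast; rfl
  have e2' : ((m * L : ℕ) : ℕ∞) = r + c := by rw [← e2]; push_cast; rfl
  obtain ⟨h, rfl⟩ := ENat.ne_top_iff_exists.1 (show h ≠ ⊤ by rintro rfl; exact ENat.natCast_ne_top _ (e1'.trans (top_add _)))
  obtain ⟨r, rfl⟩ := ENat.ne_top_iff_exists.1 (show r ≠ ⊤ by rintro rfl; exact ENat.natCast_ne_top _ (e2'.trans (top_add _)))
  obtain ⟨c, rfl⟩ := ENat.ne_top_iff_exists.1 (show c ≠ ⊤ by rintro rfl; exact ENat.natCast_ne_top _ (e2'.trans (add_top _)))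
  norm_cast at e1' e2'
  rw [show h = L + c by nlinarith]
  push_cast
  rw [add_assoc]

end Regular

end GrothLib.HomIdeal27
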