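import Mathlib.RingTheory.Nullstellensatz
import Mathlib.Algebra.MvPolynomial.Division
import Mathlib.RingTheory.Ideal.KrullsHeightTheorem
import Mathlib.RingTheory.Polynomial.Basic
import Mathlib.LinearAlgebra.TensorProduct.Basis
import Mathlib.LinearAlgebra.Dimension.Free

/-!
# The Hopf lemma for bilinear maps

Over an algebraically closed field, a bilinear map without zero products has image of dimension at
least `dim A + dim B - 1`: otherwise the vertex of the Segre cone would have height at most the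
number of linear sections cutting it out.
-/

namespace GrothLib.HopfLemma

open MvPolynomial

variable {k : Type*} [Field k] (a b : ℕ)

/-- `z (i, j) ↦ x i * y j`. -/
noncomputable def segre : MvPolynomial (Fin a × Fin b) k →ₐ[k] MvPolynomial (Fin a ⊕ Fin b) k :=
  aeval fun ij => X (.inl ij.1) * X (.inr ij.2)

/-- The variables killed at step `s` of the chain. -/
def Killed (s : ℕ) : Fin a ⊕ Fin b → Prop
  | .inl i => a + b - 1 ≤ s ∨ ((i : ℕ) ≠ 0 ∧ a - i ≤ s)
  | .inr j => a + b - 1 ≤ s ∨ ((j : ℕ) ≠ 0 ∧ a - 1 + (b - j) ≤ s)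

open Classical in
/-- Setting the killed variables to zero. -/
noncomputable def kill (s : ℕ) : MvPolynomial (Fin a ⊕ Fin b) k →ₐ[k] MvPolynomial (Fin a ⊕ Fin b) k :=
  aeval fun v => if Killed a b s v then 0 else X v

theorem killed_mono {s t : ℕ} (h : s ≤ t) {v} (hv : Killed a b s v) : Killed a b t v := by
  cases v <;> simp only [Killed] at hv ⊢ <;> omega

theorem kill_comp_kill {s t : ℕ} (h : s ≤ t) :
    (kill a b t).comp (kill (k := k) a b s) = kill a b t := by
  refine algHom_ext fun v => ?_
  by_cases hv : Killed a b s v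
  · simp [kill, hv, killed_mono a b h hv]
  · simp [kill, hv]

theorem exists_witness {s : ℕ} (hs : s < a + b - 1) (ha : 0 < a) (hb : 0 < b) :
    ∃ i j, ¬ Killed a b s (.inl i) ∧ ¬ Killed a b s (.inr j) ∧
      (Killed a b (s + 1) (.inl i) ∨ Killed a b (s + 1) (.inr j)) := by
  rcases Nat.lt_or_ge (s + 1) a with h | h
  · exact ⟨⟨a - (s + 1), by omega⟩, ⟨0, hb⟩, by simp [Killed]; omega, by simp [Killed]; omega,
      Or.inl (by simp [Killed]; omega)⟩
  · rcases Nat.lt_or_ge (s + 1) (a + b - 1) with h' | h'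
    · exact ⟨⟨0, ha⟩, ⟨a - 1 + b - (s + 1), by omega⟩, by simp [Killed]; omega,
        by simp [Killed]; omega, Or.inr (by simp [Killed]; omega)⟩
    · exact ⟨⟨0, ha⟩, ⟨0, hb⟩, by simp [Killed]; omega, by simp [Killed]; omega,
        Or.inl (by simp [Killed]; omega)⟩

theorem le_height_vertex (ha : 0 < a) (hb : 0 < b)
    (m : Ideal (MvPolynomial (Fin a × Fin b) k ⧸ RingHom.ker (segre (k := k) a b))) [m.IsPrime]
    (hm : ∀ i j, Ideal.Quotient.mk _ (X (i, j)) ∈ m) :
    ((a + b - 1 : ℕ) : ℕ∞) ≤ m.height := by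
  classical
  let Φ : (MvPolynomial (Fin a × Fin b) k ⧸ RingHom.ker (segre (k := k) a b)) →+*
      MvPolynomial (Fin a ⊕ Fin b) k :=
    RingHom.kerLift (segre (k := k) a b).toRingHom
  let J : ℕ → Ideal (MvPolynomial (Fin a × Fin b) k ⧸ RingHom.ker (segre (k := k) a b)) := fun s =>
    (RingHom.ker (kill (k := k) a b s)).comap Φ
  have hJ : ∀ s, (J s).IsPrime := fun s =>
    Ideal.IsPrime.comap (hK := RingHom.ker_isPrime _) Φ
  have hΦ : ∀ p, Φ (Ideal.Quotient.mk _ p) = segre a b p := fun p => rfl
  have hlast : ∀ v, Killed a b (a + b - 1) v := fun v => by cases v <;> simp [Killed]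
  have hstep : ∀ s, s < a + b - 1 → J s < J (s + 1) := by
    intro s hs
    refine lt_of_le_of_ne ?_ ?_
    · intro q hq
      simp only [J, Ideal.mem_comap, RingHom.mem_ker] at hq ⊢
      rw [← kill_comp_kill a b (Nat.le_succ s), AlgHom.comp_apply, hq, map_zero]
    · intro heq
      obtain ⟨i, j, hi, hj, hij⟩ := exists_witness a b hs ha hb
      have h1 : Ideal.Quotient.mk _ (X (i, j)) ∈ J (s + 1) := by
        simp only [J]
        rw [Ideal.mem_comap, hΦ, RingHom.mem_ker]
        rcases hij with h | h <;> simp [kill, segre, h]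
      rw [← heq] at h1
      simp only [J] at h1
      rw [Ideal.mem_comap, hΦ, RingHom.mem_ker] at h1
      simp [kill, segre, hi, hj, X_ne_zero] at h1
  have hJm : J (a + b - 1) ≤ m := by
    intro q hq
    obtain ⟨p, rfl⟩ := Ideal.Quotient.mk_surjective q
    simp only [J, Ideal.mem_comap, RingHom.mem_ker, hΦ] at hq
    have hc : (kill (k := k) a b (a + b - 1)).comp (segre a b) =
        ((IsScalarTower.toAlgHom k k (MvPolynomial (Fin a ⊕ Fin b) k)).comp
          (aeval (0 : Fin a × Fin b → k))) := by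
      refine algHom_ext fun ij => ?_
      simp [kill, segre, hlast]
    have h0 : eval (0 : Fin a × Fin b → k) p = 0 := by
      have h1 := AlgHom.congr_fun hc p
      simp only [AlgHom.comp_apply, hq, IsScalarTower.coe_toAlgHom', algebraMap_eq] at h1
      rw [← aeval_eq_eval]
      exact C_injective _ _ (h1.symm.trans (map_zero C).symm)
    rw [p.as_sum, map_sum]
    refine sum_mem fun d hd => ?_
    have hd0 : d ≠ 0 := by
      rintro rfl
      exact mem_support_iff.mp hd (by rw [eval_zero] at h0; exact h0)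
    obtain ⟨⟨i, j⟩, hij⟩ := Finsupp.ne_iff.mp hd0
    have hdvd : X (i, j) ∣ monomial d (coeff d p) :=
      X_dvd_monomial.mpr (Or.inr hij)
    exact Ideal.mem_of_dvd _ (map_dvd _ hdvd) (hm i j)
  have hh : ∀ s ≤ a + b - 1, (s : ℕ∞) ≤ (J s).height := by
    intro s hs
    induction s with
    | zero => simp
    | succ s ih =>
      have := hJ s
      have := hJ (s + 1)
      calc ((s + 1 : ℕ) : ℕ∞) ≤ (J s).height + 1 := by
            push_cast; exact add_le_add (ih (by omega)) le_rfl
        _ ≤ (J (s + 1)).height := Order.add_one_le_of_lt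
            (Ideal.height_strict_mono_of_isPrime_of_isPrime (hstep s (by omega)))
  exact (hh _ le_rfl).trans (Ideal.height_mono hJm)

variable {a b}

theorem exists_zero_of_lt [IsAlgClosed k] {r : ℕ} (c : Fin r → Fin a → Fin b → k)
    (h : r + 1 < a + b) (ha : 0 < a) (hb : 0 < b) :
    ∃ (x : Fin a → k) (y : Fin b → k), x ≠ 0 ∧ y ≠ 0 ∧
      ∀ l, ∑ i, ∑ j, c l i j * (x i * y j) = 0 := by
  classical
  by_contra hcon
  push Not at hcon
  let K := RingHom.ker (segre (k := k) a b)
  let L : Fin r → MvPolynomial (Fin a × Fin b) k := fun l => ∑ i, ∑ j, C (c l i j) * X (i, j)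
  let m₀ := RingHom.ker (eval (0 : Fin a × Fin b → k))
  have hL : ∀ l z, eval z (L l) = ∑ i, ∑ j, c l i j * z (i, j) := fun l z => by simp [L]
  set I := K ⊔ Ideal.span (Set.range L)
  have hIm : I ≤ m₀ := by
    refine sup_le ?_ (Ideal.span_le.mpr ?_)
    · intro p hp
      have h1 : eval (0 : Fin a ⊕ Fin b → k) (segre a b p) = eval (0 : Fin a × Fin b → k) p := by
        have : (aeval (0 : Fin a ⊕ Fin b → k)).comp (segre (k := k) a b) =
            aeval (0 : Fin a × Fin b → k) := algHom_ext fun ij => by simp [segre]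
        simpa [aeval_eq_eval] using AlgHom.congr_fun this p
      rw [RingHom.mem_ker] at hp ⊢
      rw [← h1, hp, map_zero]
    · rintro _ ⟨l, rfl⟩
      rw [SetLike.mem_coe, RingHom.mem_ker, hL]
      simp
  have hm : m₀ ≤ I.radical := by
    rw [← MvPolynomial.vanishingIdeal_zeroLocus_eq_radical (K := k)]
    intro p hp z hz
    have hz' : ∀ q ∈ I, eval z q = 0 := fun q hq => by simpa [aeval_eq_eval] using hz q hq
    have : z = 0 := by
      by_contra hz0
      obtain ⟨⟨p', q'⟩, hpq⟩ := Function.ne_iff.mp hz0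
      simp only [Pi.zero_apply] at hpq
      have hminor : ∀ i j, z (i, j) * z (p', q') = z (i, q') * z (p', j) := by
        intro i j
        have hmem : X (i, j) * X (p', q') - X (i, q') * X (p', j) ∈ I := by
          refine Ideal.mem_sup_left ?_
          simp [K, segre]
          ring
        simpa [sub_eq_zero] using hz' _ hmem
      obtain ⟨l, hl⟩ := hcon (fun i => z (i, q')) (fun j => z (p', j) / z (p', q'))
        (fun h0 => hpq (congrFun h0 p'))
        (fun h0 => by simpa [hpq] using congrFun h0 q')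
      refine hl ?_
      rw [← hz' (L l) (Ideal.mem_sup_right (Ideal.subset_span ⟨l, rfl⟩)), hL]
      refine Finset.sum_congr rfl fun i _ => Finset.sum_congr rfl fun j _ => ?_
      rw [← mul_div_assoc, ← hminor, mul_div_assoc, div_self hpq, mul_one]
    subst this
    simpa [aeval_eq_eval, m₀] using hp
  have hm₀ : m₀.IsPrime := RingHom.ker_isPrime _
  let q : MvPolynomial (Fin a × Fin b) k →+* _ := Ideal.Quotient.mk K
  have hKm : RingHom.ker q ≤ m₀ := (Ideal.mk_ker (I := K)).le.trans (le_sup_left.trans hIm)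
  have : (m₀.map q).IsPrime := Ideal.map_isPrime_of_surjective Ideal.Quotient.mk_surjective hKm
  have hmin : m₀.map q ∈ (Ideal.span (Set.range fun l => q (L l))).minimalPrimes := by
    refine ⟨⟨this, Ideal.span_le.mpr ?_⟩, fun P ⟨hP, hPle⟩ _ => ?_⟩
    · rintro _ ⟨l, rfl⟩
      exact Ideal.mem_map_of_mem q (hIm (Ideal.mem_sup_right (Ideal.subset_span ⟨l, rfl⟩)))
    · rw [Ideal.map_le_iff_le_comap]
      refine hm.trans ((Ideal.IsPrime.comap q).radical_le_iff.mpr (sup_le ?_ (Ideal.span_le.mpr ?_)))
      · intro p hp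
        rw [Ideal.mem_comap, show q p = 0 from Ideal.Quotient.eq_zero_iff_mem.mpr hp]
        exact zero_mem _
      · rintro _ ⟨l, rfl⟩
        exact hPle (Ideal.subset_span ⟨l, rfl⟩)
  have hub : (m₀.map q).height ≤ (r : ℕ∞) := by
    refine (Ideal.height_le_spanRank_toENat_of_mem_minimalPrimes _ _ hmin).trans ?_
    rw [← map_natCast Cardinal.toENat r]
    refine Cardinal.toENat.monotone' ?_
    refine (Submodule.spanRank_span_le_card _).trans ?_
    simpa using Cardinal.mk_range_le_lift (f := fun l => q (L l))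
  have hlb := le_height_vertex (k := k) a b ha hb (m₀.map q)
    (fun i j => Ideal.mem_map_of_mem q (by simp [m₀]))
  have : a + b - 1 ≤ r := by exact_mod_cast hlb.trans hub
  omega

open TensorProduct in
theorem finrank_add_finrank_le [IsAlgClosed k] {A B C : Type*} [AddCommGroup A] [Module k A]
    [AddCommGroup B] [Module k B] [AddCommGroup C] [Module k C] [FiniteDimensional k A]
    [FiniteDimensional k B] [Nontrivial A] [Nontrivial B] (ν : A ⊗[k] B →ₗ[k] C)
    (hA : ∀ x : A, x ≠ 0 → Function.Injective (fun y : B => ν (x ⊗ₜ[k] y))) :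
    Module.finrank k A + Module.finrank k B ≤ Module.finrank k (LinearMap.range ν) + 1 := by
  by_contra hlt
  push Not at hlt
  let e := Module.finBasis k A
  let f := Module.finBasis k B
  let g := Module.finBasis k (LinearMap.range ν)
  let c : Fin (Module.finrank k (LinearMap.range ν)) → Fin (Module.finrank k A) →
      Fin (Module.finrank k B) → k := fun l i j => g.repr (ν.rangeRestrict (e i ⊗ₜ f j)) l
  obtain ⟨x, y, hx, hy, h⟩ := exists_zero_of_lt c hlt Module.finrank_pos Module.finrank_pos
  let a₀ : A := e.equivFun.symm x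
  let b₀ : B := f.equivFun.symm y
  have ha₀ : a₀ ≠ 0 := fun h0 => hx (e.equivFun.symm.map_eq_zero_iff.mp h0)
  have hexp : a₀ ⊗ₜ[k] b₀ = ∑ i, ∑ j, (x i * y j) • (e i ⊗ₜ[k] f j) := by
    simp only [a₀, b₀, Module.Basis.equivFun_symm_apply, TensorProduct.sum_tmul]
    refine Finset.sum_congr rfl fun i _ => ?_
    rw [TensorProduct.tmul_sum]
    refine Finset.sum_congr rfl fun j _ => ?_
    rw [TensorProduct.tmul_smul, TensorProduct.smul_tmul', smul_smul, TensorProduct.smul_tmul',
      mul_comm]
  have hzero : ν.rangeRestrict (a₀ ⊗ₜ b₀) = 0 := by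
    refine g.ext_elem fun l => ?_
    rw [hexp]
    simp only [map_zero, Finsupp.zero_apply, map_sum, map_smul, Finsupp.finsetSum_apply,
      Finsupp.smul_apply, smul_eq_mul]
    rw [← h l]
    refine Finset.sum_congr rfl fun i _ => Finset.sum_congr rfl fun j _ => ?_
    simp only [c]; ring
  have : b₀ = 0 := hA a₀ ha₀ (by
    show ν (a₀ ⊗ₜ b₀) = ν (a₀ ⊗ₜ 0)
    rw [TensorProduct.tmul_zero, map_zero]
    exact congrArg Subtype.val hzero)
  exact hy (f.equivFun.symm.map_eq_zero_iff.mp this)

end GrothLib.HopfLemma
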