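import Mathlib

/-!
The Jacobian criterion for smoothness of a quotient of a smooth algebra at a prime.
-/

set_option autoImplicit false
set_option maxHeartbeats 400000
universe u

open TensorProduct IsLocalRing KaehlerDifferential

namespace Groth.Agent.Lib.JacQuot4

section Local

variable {B : Type u} [CommRing B] [IsLocalRing B] {J : Ideal B}
variable {V : Type u} [AddCommGroup V] [Module (ResidueField B) V]

/-- A linear map out of `k ⊗ J` is injective iff `J` is generated by finitely many members of a
given generating family whose images are linearly independent. -/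
theorem injective_iff_exists_finset (hJ : J.FG) {ι : Type u} (a : ι → B) (ha : ∀ i, a i ∈ J)
    (hspan : Ideal.span (Set.range a) = J)
    (φ : ResidueField B ⊗[B] J →ₗ[ResidueField B] V) :
    Function.Injective φ ↔ ∃ t : Finset ι, J = Ideal.span (a '' ↑t) ∧
      LinearIndependent (ResidueField B)
        (fun i : ↥t => φ (1 ⊗ₜ ⟨a i, ha i⟩)) := by
  haveI : Module.Finite B J := Module.Finite.of_fg hJ
  let f : ι → ResidueField B ⊗[B] J := fun i => 1 ⊗ₜ ⟨a i, ha i⟩
  have key : ∀ t : Set ι, J = Ideal.span (a '' t) ↔
      Submodule.span (ResidueField B) (f '' t) = ⊤ := by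
    intro t
    let g : ι → J := fun i => ⟨a i, ha i⟩
    have h1 : Submodule.span B (g '' t) = ⊤ ↔ J = Ideal.span (a '' t) := by
      have h2 : (Submodule.span B (g '' t)).map J.subtype = Ideal.span (a '' t) := by
        rw [Submodule.map_span, ← Set.image_comp]
        rfl
      constructor
      · intro h
        rw [← h2, h, Submodule.map_top, Submodule.range_subtype]
      · intro h
        refine Submodule.map_injective_of_injective J.injective_subtype ?_
        rw [h2, Submodule.map_top, Submodule.range_subtype]
        exact h.symm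
    rw [← h1, ← IsLocalRing.map_tensorProduct_mk_eq_top, Submodule.map_span, ← Set.image_comp,
      ← Submodule.restrictScalars_span B (ResidueField B) IsLocalRing.residue_surjective,
      Submodule.restrictScalars_eq_top_iff]
    simp only [Function.comp_def, f, g, TensorProduct.mk_apply]
  constructor
  · intro hφ
    obtain ⟨b, -, -, hb, hli⟩ := exists_linearIndepOn_extension
      (linearIndepOn_empty (ResidueField B) f) (Set.empty_subset (Set.univ : Set ι))
    haveI : Finite b := LinearIndependent.finite hli
    have hbfin : b.Finite := Set.toFinite b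
    refine ⟨hbfin.toFinset, ?_, ?_⟩
    · rw [hbfin.coe_toFinset, key]
      refine top_le_iff.mp ?_
      refine le_trans ?_ (Submodule.span_le.mpr hb)
      refine le_of_eq ((key Set.univ).mp ?_).symm
      rw [Set.image_univ, hspan]
    · let j : ↥hbfin.toFinset → ↥b := fun i => ⟨i.1, hbfin.mem_toFinset.mp i.2⟩
      have h3 : LinearIndependent (ResidueField B) ((fun i : ↥b => f i) ∘ j) :=
        LinearIndependent.comp hli j fun i k hik =>
          Subtype.ext (congrArg (fun z : ↥b => (z : ι)) hik)
      exact h3.map' φ (LinearMap.ker_eq_bot.mpr hφ)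
  · rintro ⟨t, ht, hli⟩
    rw [← LinearMap.ker_eq_bot, eq_bot_iff]
    intro x hx
    have hx' : x ∈ Submodule.span (ResidueField B) (Set.range (fun i : ↥t => f i)) := by
      have : Set.range (fun i : ↥t => f i) = f '' ↑t := by
        ext y; simp
      rw [this, (key ↑t).mp ht]
      trivial
    obtain ⟨c, hc⟩ := Finsupp.mem_span_range_iff_exists_finsupp.mp hx'
    have h0 : Finsupp.linearCombination (ResidueField B) (fun i : ↥t => φ (f i)) c = 0 := by
      rw [LinearMap.mem_ker, ← hc] at hx
      rw [← hx, Finsupp.linearCombination_apply, map_finsuppSum]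
      simp
    rw [linearIndependent_iff.mp hli c h0] at hc
    simp [← hc]

end Local

section Global

variable (R A : Type u) [CommRing R] [CommRing A] [IsNoetherianRing R] [Algebra R A]
  [Algebra.Smooth R A] (I : Ideal A) (P : Ideal (A ⧸ I)) [P.IsPrime]

/-- The Jacobian criterion for the smoothness of `A/I` at `P`. -/
theorem isSmoothAt_quotient_iff (q : Ideal A) [q.IsPrime]
    (hq : q = P.comap (Ideal.Quotient.mk I)) :
    Algebra.IsSmoothAt R P ↔ ∃ s : Finset A, (↑s : Set A) ⊆ (I : Set A) ∧
      Ideal.map (algebraMap A (Localization.AtPrime q)) I =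
        Ideal.span ((algebraMap A (Localization.AtPrime q)) '' (↑s : Set A)) ∧
      LinearIndependent q.ResidueField
        (fun g : ↥s => (1 : q.ResidueField) ⊗ₜ[A] KaehlerDifferential.D R A (g : A)) := by
  classical
  have hIq : I ≤ q := fun x hx => by
    rw [hq, Ideal.mem_comap, Ideal.Quotient.eq_zero_iff_mem.mpr hx]
    exact P.zero_mem
  set φ : Localization.AtPrime q →+* Localization.AtPrime P :=
    Localization.localRingHom q P (Ideal.Quotient.mk I) hq with hφdef
  have hφsurj : Function.Surjective φ := by
    intro x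
    obtain ⟨y, ⟨t, ht⟩, rfl⟩ := IsLocalization.exists_mk'_eq P.primeCompl x
    obtain ⟨y, rfl⟩ := Ideal.Quotient.mk_surjective y
    obtain ⟨t, rfl⟩ := Ideal.Quotient.mk_surjective t
    have ht' : t ∈ q.primeCompl := fun h => ht (by rw [hq] at h; exact h)
    exact ⟨IsLocalization.mk' _ y ⟨t, ht'⟩, Localization.localRingHom_mk' q P _ hq y ⟨t, ht'⟩⟩
  have hker : RingHom.ker φ = I.map (algebraMap A (Localization.AtPrime q)) := by
    refine le_antisymm (fun x hx => ?_) (Ideal.map_le_iff_le_comap.mpr fun a ha => ?_)
    · obtain ⟨y, t, rfl⟩ := IsLocalization.exists_mk'_eq q.primeCompl x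
      rw [RingHom.mem_ker, hφdef, Localization.localRingHom_mk', IsLocalization.mk'_eq_zero_iff]
        at hx
      obtain ⟨⟨m, hm⟩, hm0⟩ := hx
      obtain ⟨m, rfl⟩ := Ideal.Quotient.mk_surjective m
      rw [← map_mul, Ideal.Quotient.eq_zero_iff_mem] at hm0
      rw [IsLocalization.mk'_mem_map_algebraMap_iff]
      exact ⟨m, fun h => hm (by rw [hq] at h; exact h), hm0⟩
    · simp [hφdef, Ideal.Quotient.eq_zero_iff_mem.mpr ha]
  have hkerle : RingHom.ker φ ≤ RingHom.ker (algebraMap (Localization.AtPrime q) q.ResidueField) := by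
    intro x hx
    rw [RingHom.mem_ker] at hx ⊢
    refine (IsLocalRing.residue_eq_zero_iff x).mpr fun hu => ?_
    exact (hu.map φ).ne_zero hx
  let ψ : Localization.AtPrime P →+* q.ResidueField :=
    φ.liftOfSurjective hφsurj ⟨algebraMap (Localization.AtPrime q) q.ResidueField, hkerle⟩
  letI := φ.toAlgebra
  letI := ψ.toAlgebra
  haveI : IsScalarTower R (Localization.AtPrime q) (Localization.AtPrime P) :=
    IsScalarTower.of_algebraMap_eq fun r => by
      show _ = φ _
      rw [IsScalarTower.algebraMap_apply R A (Localization.AtPrime q), hφdef,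
        Localization.localRingHom_to_map,
        IsScalarTower.algebraMap_apply R (A ⧸ I) (Localization.AtPrime P)]
      rfl
  haveI : IsScalarTower (Localization.AtPrime q) (Localization.AtPrime P) q.ResidueField :=
    IsScalarTower.of_algebraMap_eq fun x =>
      show _ = ψ (φ x) from
        (RingHom.liftOfSurjective_comp_apply φ hφsurj
          ⟨algebraMap (Localization.AtPrime q) q.ResidueField, hkerle⟩ x).symm
  haveI : Algebra.FormallyEtale A (Localization.AtPrime q) := .of_isLocalization q.primeCompl
  haveI : Algebra.FormallySmooth R (Localization.AtPrime q) := .comp R A _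
  haveI : Module.Finite (Localization.AtPrime q) Ω[Localization.AtPrime q⁄R] :=
    Module.Finite.equiv (tensorKaehlerEquivOfFormallyEtale R A (Localization.AtPrime q))
  haveI : Module.Free (Localization.AtPrime q) Ω[Localization.AtPrime q⁄R] :=
    Module.free_of_flat_of_isLocalRing
  haveI : IsNoetherianRing A := Algebra.FiniteType.isNoetherianRing R A
  haveI : IsNoetherianRing (Localization.AtPrime q) :=
    IsLocalization.isNoetherianRing q.primeCompl _ inferInstance
  have h₂ : (RingHom.ker (algebraMap (Localization.AtPrime q) (Localization.AtPrime P))).FG :=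
    IsNoetherian.noetherian _
  have h₃ : maximalIdeal (Localization.AtPrime P) ≤
      RingHom.ker (algebraMap (Localization.AtPrime P) q.ResidueField) := by
    intro x hx
    obtain ⟨y, rfl⟩ := hφsurj x
    rw [RingHom.mem_ker]
    show ψ (φ y) = 0
    rw [RingHom.liftOfSurjective_comp_apply φ hφsurj]
    exact (IsLocalRing.residue_eq_zero_iff y).mpr fun hu => hx (hu.map φ)
  rw [show Algebra.IsSmoothAt R P ↔
    Algebra.FormallySmooth R (Localization.AtPrime P) from Iff.rfl,
    Algebra.FormallySmooth.iff_injective_cotangentComplexBaseChange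
      (Localization.AtPrime q) q.ResidueField hφsurj h₂ h₃]
  let e : q.ResidueField ⊗[Localization.AtPrime q] Ω[Localization.AtPrime q⁄R] ≃ₗ[q.ResidueField]
      q.ResidueField ⊗[A] Ω[A⁄R] :=
    AlgebraTensorModule.congr (LinearEquiv.refl q.ResidueField q.ResidueField)
      (tensorKaehlerEquivOfFormallyEtale R A (Localization.AtPrime q)).symm ≪≫ₗ
      AlgebraTensorModule.cancelBaseChange A (Localization.AtPrime q) q.ResidueField
        q.ResidueField Ω[A⁄R]
  have he : ∀ g : A, e (1 ⊗ₜ D R _ (algebraMap A (Localization.AtPrime q) g)) = 1 ⊗ₜ D R A g := by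
    intro g
    simp [e, tensorKaehlerEquivOfFormallyEtale_symm_D_algebraMap]
  set cc := cotangentComplexBaseChange R (Localization.AtPrime P) (Localization.AtPrime q)
    q.ResidueField with hcc
  have hmem : ∀ g : I, algebraMap A (Localization.AtPrime q) g ∈
      RingHom.ker (algebraMap (Localization.AtPrime q) (Localization.AtPrime P)) := fun g =>
    hker.ge (Ideal.mem_map_of_mem _ g.2)
  have hspan : Ideal.span (Set.range fun g : I => algebraMap A (Localization.AtPrime q) g) =
      RingHom.ker (algebraMap (Localization.AtPrime q) (Localization.AtPrime P)) := by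
    rw [show RingHom.ker (algebraMap (Localization.AtPrime q) (Localization.AtPrime P)) =
      I.map (algebraMap A (Localization.AtPrime q)) from hker, Ideal.map]
    congr 1
    ext x
    simp
  have hval : ∀ g : I, (e.toLinearMap ∘ₗ cc) (1 ⊗ₜ ⟨_, hmem g⟩) = 1 ⊗ₜ D R A g := by
    intro g
    rw [LinearMap.comp_apply, hcc, cotangentComplexBaseChange_tmul, one_smul, kerToTensor_apply]
    exact he g
  have := injective_iff_exists_finset (B := Localization.AtPrime q) h₂ _ hmem hspan
    (e.toLinearMap ∘ₗ cc)
  rw [LinearMap.coe_comp, LinearEquiv.coe_coe, e.injective.of_comp_iff] at this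
  refine this.trans ?_
  constructor
  · rintro ⟨t, ht, hli⟩
    refine ⟨t.map (Function.Embedding.subtype _), ?_, ?_, ?_⟩
    · intro x hx
      simp only [Finset.coe_map, Function.Embedding.subtype_apply, Set.mem_image] at hx
      obtain ⟨g, -, rfl⟩ := hx
      exact g.2
    · rw [← hker]
      refine ht.trans ?_
      congr 1
      ext x
      simp
    · let j : ↥(t.map (Function.Embedding.subtype _)) → ↥t := fun x =>
        ⟨⟨x.1, by obtain ⟨g, -, hg⟩ := Finset.mem_map.mp x.2; exact (congrArg (· ∈ I) hg).mp g.2⟩,
         by obtain ⟨g, hg', hg⟩ := Finset.mem_map.mp x.2; convert hg' using 1; exact Subtype.ext hg.symm⟩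
      have := hli.comp j fun x y hxy => Subtype.ext (congrArg (fun z : ↥t => (z.1 : A)) hxy)
      convert this using 1
      all_goals first | rfl | (funext x; exact (hval (j x).1).symm)
  · rintro ⟨s, hs, hsp, hli⟩
    refine ⟨s.subtype (· ∈ I), ?_, ?_⟩
    · refine hker.trans (hsp.trans ?_)
      congr 1
      ext x
      simp only [Set.mem_image, Finset.mem_coe, Finset.mem_subtype]
      exact ⟨fun ⟨g, hg, hx⟩ => ⟨⟨g, hs hg⟩, hg, hx⟩, fun ⟨g, hg, hx⟩ => ⟨g, hg, hx⟩⟩
    · let j : ↥(s.subtype (· ∈ I)) → ↥s := fun x => ⟨x.1.1, Finset.mem_subtype.mp x.2⟩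
      have := hli.comp j fun x y hxy =>
        Subtype.ext (Subtype.ext (congrArg (fun z : ↥s => (z : A)) hxy))
      convert this using 1
      all_goals first | rfl | (funext x; exact hval x.1) | (funext x; exact (hval x.1).symm)

end Global

end Groth.Agent.Lib.JacQuot4
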