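import Mathlib

/-!
The Kummer–Artin–Schreier polynomial `((1 + w z) ^ p - 1) / w ^ p`, `w = 1 - ζ`.
-/

set_option autoImplicit false
universe u

open Polynomial

namespace Groth.Agent.Lib.KASPoly4

variable {R : Type*} [CommRing R] [IsDomain R] {ζ : R} {p : ℕ}

theorem exists_p_eq (hp : p.Prime) (hζ : IsPrimitiveRoot ζ p) :
    ∃ e : R, (p : R) = (1 - ζ) ^ (p - 1) * (-1 + (1 - ζ) * e) := by
  set w := 1 - ζ with hw
  have h1 : (p : R) = w ^ (p - 1) *
      ∏ k ∈ Finset.range (p - 1), ∑ j ∈ Finset.range (k + 1), ζ ^ j := by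
    obtain ⟨n, rfl⟩ : ∃ n, p = n + 1 := ⟨p - 1, by have := hp.two_le; omega⟩
    rw [Nat.add_sub_cancel, Nat.cast_succ, ← hζ.prod_one_sub_pow_eq_order]
    calc ∏ k ∈ Finset.range n, (1 - ζ ^ (k + 1))
        = ∏ k ∈ Finset.range n, (w * ∑ j ∈ Finset.range (k + 1), ζ ^ j) :=
          Finset.prod_congr rfl fun k _ => (mul_neg_geom_sum ζ (k + 1)).symm
      _ = _ := by rw [Finset.prod_mul_distrib, Finset.prod_const, Finset.card_range]
  set c := ∏ k ∈ Finset.range (p - 1), ∑ j ∈ Finset.range (k + 1), ζ ^ j with hc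
  have hpw : (p : R) ∈ Ideal.span {w} := by
    rw [h1, Ideal.mem_span_singleton]
    exact Dvd.dvd.mul_right (dvd_pow_self w (by have := hp.two_le; omega)) _
  have h2 : c - ((p - 1).factorial : ℕ) ∈ Ideal.span {w} := by
    rw [← Ideal.Quotient.eq]
    have hz : Ideal.Quotient.mk (Ideal.span {w}) ζ = 1 := by
      rw [← map_one (Ideal.Quotient.mk (Ideal.span {w})), eq_comm, Ideal.Quotient.eq]
      exact Ideal.mem_span_singleton_self w
    simp [hc, map_prod, hz, ← Finset.prod_range_add_one_eq_factorial]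
  have h3 : (((p - 1).factorial + 1 : ℕ) : R) ∈ Ideal.span {w} := by
    haveI := Fact.mk hp
    have h4 : p ∣ (p - 1).factorial + 1 := by
      rw [← ZMod.natCast_eq_zero_iff]
      push_cast
      rw [ZMod.wilsons_lemma p]
      ring
    obtain ⟨d, hd⟩ := h4
    rw [hd, Nat.cast_mul]
    exact Ideal.mul_mem_right _ _ hpw
  obtain ⟨e, he⟩ := Ideal.mem_span_singleton'.mp (add_mem h2 h3)
  refine ⟨e, ?_⟩
  rw [h1]
  congr 1
  push_cast at he
  linear_combination -he

theorem exists_poly (hp : p.Prime) (hζ : IsPrimitiveRoot ζ p) :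
    ∃ (P : R[X]) (a : ℕ → R), C ((1 - ζ) ^ p) * P = (1 + C (1 - ζ) * X) ^ p - 1 ∧
      (∀ i, a i ∈ Ideal.span {1 - ζ}) ∧
      P = X ^ p - X + (Finset.Ioo 0 p).sum (fun i => C (a i) * X ^ i) := by
  obtain ⟨e, he⟩ := exists_p_eq hp hζ
  set w := 1 - ζ with hw
  let d : ℕ → R := fun i => ((p.choose i / p : ℕ) : R)
  let a : ℕ → R := fun i =>
    if i = 1 then w * e else if 2 ≤ i then d i * w ^ (i - 1) * (-1 + w * e) else 0
  refine ⟨_, a, ?_, fun i => ?_, rfl⟩
  · have hterm : ∀ i ∈ Finset.Ioo 0 p, C (w ^ p) * (C (a i) * X ^ i) =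
        (C w * X) ^ i * ((p.choose i : ℕ) : R[X]) + if i = 1 then C (w ^ p) * X else 0 := by
      intro i hi
      rw [Finset.mem_Ioo] at hi
      have hd : (p.choose i : R) = (p : R) * d i := by
        rw [← Nat.cast_mul, Nat.mul_div_cancel' (hp.dvd_choose_self hi.1.ne' hi.2)]
      obtain ⟨m, rfl⟩ : ∃ m, p = m + 1 := ⟨p - 1, by omega⟩
      rw [← C_eq_natCast, hd, he, Nat.add_sub_cancel]
      by_cases h1 : i = 1
      · subst h1
        have hd1 : d 1 = 1 := by
          simp only [d, Nat.choose_one_right, Nat.div_self (Nat.succ_pos m), Nat.cast_one]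
        simp only [a, if_pos, hd1, mul_one, map_mul, map_pow, map_add, map_neg, map_one, pow_one]
        ring
      · obtain ⟨j, rfl⟩ : ∃ j, i = j + 2 := ⟨i - 2, by omega⟩
        simp only [a, if_neg h1, if_pos (show 2 ≤ j + 2 by omega), add_zero, map_mul, map_pow,
          map_add, map_neg, map_one, show j + 2 - 1 = j + 1 from rfl]
        ring
    rw [mul_add, Finset.mul_sum, Finset.sum_congr rfl hterm, Finset.sum_add_distrib,
      Finset.sum_ite_eq' (Finset.Ioo 0 p) 1 (fun _ => C (w ^ p) * X),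
      if_pos (Finset.mem_Ioo.mpr ⟨one_pos, hp.one_lt⟩), add_comm (1 : R[X]), add_pow]
    rw [Finset.sum_range_succ, Finset.range_eq_Ico,
      Finset.sum_eq_sum_Ico_succ_bot hp.pos, show Finset.Ico (0 + 1) p = Finset.Ioo 0 p from rfl]
    simp only [one_pow, mul_one, pow_zero, Nat.choose_zero_right, Nat.cast_one, Nat.choose_self,
      Nat.sub_self, Nat.sub_zero, mul_pow, map_pow, one_mul]
    ring
  · simp only [a]
    split_ifs with h1 h2
    · exact Ideal.mul_mem_right _ _ (Ideal.mem_span_singleton_self _)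
    · obtain ⟨j, rfl⟩ : ∃ j, i = j + 2 := ⟨i - 2, by omega⟩
      refine Ideal.mul_mem_right _ _ (Ideal.mul_mem_left _ _ ?_)
      exact Ideal.pow_mem_of_mem _ (Ideal.mem_span_singleton_self _) _ (by omega)
    · exact zero_mem _

theorem addLaw (hp : p.Prime) (hw0 : (1 - ζ) ^ p ≠ 0) (P : R[X])
    (hP : C ((1 - ζ) ^ p) * P = (1 + C (1 - ζ) * X) ^ p - 1) {S : Type*} [CommRing S]
    (f : R →+* S) (z₁ z₂ : S) :
    P.eval₂ f (z₁ + z₂ + f (1 - ζ) * z₁ * z₂) =
      P.eval₂ f z₁ + P.eval₂ f z₂ + f ((1 - ζ) ^ p) * P.eval₂ f z₁ * P.eval₂ f z₂ := by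
  let M := MvPolynomial (Fin 2) R
  let c : R →+* M := MvPolynomial.C
  let x : M := MvPolynomial.X 0
  let y : M := MvPolynomial.X 1
  have hP' : ∀ t : M, c ((1 - ζ) ^ p) * P.eval₂ c t = (1 + c (1 - ζ) * t) ^ p - 1 := by
    intro t
    have := congrArg (fun q : R[X] => q.eval₂ c t) hP
    simpa [Polynomial.eval₂_mul, Polynomial.eval₂_pow, Polynomial.eval₂_sub,
      Polynomial.eval₂_add] using this
  have key : P.eval₂ c (x + y + c (1 - ζ) * x * y) =
      P.eval₂ c x + P.eval₂ c y + c ((1 - ζ) ^ p) * P.eval₂ c x * P.eval₂ c y := by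
    refine mul_left_cancel₀ ((map_ne_zero_iff c (MvPolynomial.C_injective _ _)).mpr hw0) ?_
    rw [hP', show (1 : M) + c (1 - ζ) * (x + y + c (1 - ζ) * x * y) =
      (1 + c (1 - ζ) * x) * (1 + c (1 - ζ) * y) by ring, mul_pow]
    have hx := hP' x
    have hy := hP' y
    linear_combination -hx - hy - (c ((1 - ζ) ^ p) * P.eval₂ c y) * hx -
      ((1 + c (1 - ζ) * x) ^ p - 1) * hy
  have h2 := congrArg (MvPolynomial.eval₂Hom f ![z₁, z₂]) key
  have hcomp : (MvPolynomial.eval₂Hom f ![z₁, z₂]).comp c = f :=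
    RingHom.ext fun r => MvPolynomial.eval₂Hom_C f _ r
  simp only [map_add, map_mul, Polynomial.hom_eval₂, hcomp] at h2
  have hc : ∀ r : R, MvPolynomial.eval₂Hom f ![z₁, z₂] (c r) = f r :=
    fun r => MvPolynomial.eval₂Hom_C f _ r
  simp only [hc, x, y, MvPolynomial.eval₂Hom_X'] at h2
  simpa using h2

end Groth.Agent.Lib.KASPoly4
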