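import Groth.Prelude.Def_DualLC
import Mathlib.RingTheory.Length
import Mathlib.Tactic.LinearCombination

/-!
# Independent families in the sense of Lech
-/

universe u

open Dual2

namespace GrothLib.LechIndep

variable {A : Type u} [CommRing A] {r : ℕ}

lemma sum_update (f a : Fin r → A) (i : Fin r) (v : A) :
    ∑ j, a j * Function.update f i v j = (∑ j ∈ Finset.univ.erase i, a j * f j) + a i * v := by
  rw [← Finset.sum_erase_add _ _ (Finset.mem_univ i), Function.update_self]
  congr 1
  exact Finset.sum_congr rfl fun j hj => by rw [Function.update_of_ne (Finset.ne_of_mem_erase hj)]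

lemma mul_mem_left_update (f : Fin r → A) (i : Fin r) (u v : A) :
    Ideal.span (Set.range (Function.update f i (u * v))) ≤
      Ideal.span (Set.range (Function.update f i u)) := by
  refine Ideal.span_le.2 ?_
  rintro _ ⟨j, rfl⟩
  by_cases h : j = i
  · subst h
    rw [Function.update_self]
    exact Ideal.mul_mem_right v _ (Ideal.subset_span ⟨j, by simp⟩)
  · rw [Function.update_of_ne h]
    exact Ideal.subset_span ⟨j, by simp [Function.update_of_ne h]⟩

lemma le_span_left (f : Fin r → A) (i : Fin r) (g : A) :
    Ideal.span (Set.range (Function.update f i (f i * g))) ≤ Ideal.span (Set.range f) := by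
  simpa using mul_mem_left_update f i (f i) g

lemma le_span_right (f : Fin r → A) (i : Fin r) (g : A) :
    Ideal.span (Set.range (Function.update f i (f i * g))) ≤
      Ideal.span (Set.range (Function.update f i g)) := by
  rw [mul_comm]
  exact mul_mem_left_update f i g (f i)

/-- Cancelling a factor of one member keeps a family independent. -/
theorem independent_of_mul {f : Fin r → A} {i : Fin r} {g : A}
    (h : Independent (Function.update f i (f i * g))) : Independent f := by
  classical
  intro a ha
  set f' := Function.update f i (f i * g)
  have hrel : ∑ j, (Function.update (fun j => a j * g) i (a i)) j * f' j = 0 := by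
    rw [sum_update, Function.update_self]
    rw [← Finset.sum_erase_add _ _ (Finset.mem_univ i)] at ha
    calc _ = g * ((∑ j ∈ Finset.univ.erase i, a j * f j) + a i * f i) := by
            rw [mul_add, Finset.mul_sum]
            congr 1
            · exact Finset.sum_congr rfl fun j hj => by
                rw [Function.update_of_ne (Finset.ne_of_mem_erase hj)]; ring
            · ring
      _ = 0 := by rw [ha, mul_zero]
  have hai := h _ hrel i
  rw [Function.update_self] at hai
  obtain ⟨c, hc⟩ := Ideal.mem_span_range_iff_exists_fun.1 hai
  rw [sum_update] at hc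
  have hrel2 : ∑ j, (Function.update (fun j => a j + c j * f i) i (c i * f i)) j * f' j = 0 := by
    rw [sum_update, Function.update_self]
    rw [← Finset.sum_erase_add _ _ (Finset.mem_univ i)] at ha
    rw [← hc] at ha
    refine Eq.trans ?_ ha
    rw [add_mul, Finset.sum_mul, ← add_assoc, ← Finset.sum_add_distrib]
    congr 1
    · exact Finset.sum_congr rfl fun j hj => by
        rw [Function.update_of_ne (Finset.ne_of_mem_erase hj)]; ring
    · ring
  intro j
  by_cases hj : j = i
  · subst hj
    exact le_span_left f j g (h _ hrel j |> fun t => by simpa using t)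
  · have := le_span_left f i g (h _ hrel2 j)
    rw [Function.update_of_ne hj] at this
    have h2 : c j * f i ∈ Ideal.span (Set.range f) :=
      Ideal.mul_mem_left _ _ (Ideal.subset_span ⟨i, rfl⟩)
    simpa using sub_mem this h2

/-- Additivity of colengths. -/
theorem length_mul {f : Fin r → A} {i : Fin r} {g : A}
    (h : Independent (Function.update f i (f i * g))) :
    Module.length A (A ⧸ Ideal.span (Set.range (Function.update f i (f i * g)))) =
      Module.length A (A ⧸ Ideal.span (Set.range f)) +
        Module.length A (A ⧸ Ideal.span (Set.range (Function.update f i g))) := by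
  classical
  set J' := Ideal.span (Set.range (Function.update f i (f i * g))) with hJ'
  set J := Ideal.span (Set.range f) with hJ
  set K := Ideal.span (Set.range (Function.update f i g)) with hK
  have hfK : K ≤ Submodule.comap (LinearMap.toSpanSingleton A A (f i)) J' := by
    refine Ideal.span_le.2 ?_
    rintro _ ⟨j, rfl⟩
    show Function.update f i g j * f i ∈ J'
    by_cases hj : j = i
    · subst hj
      rw [Function.update_self, mul_comm]
      exact Ideal.subset_span ⟨j, by simp⟩
    · rw [Function.update_of_ne hj]
      exact Ideal.mul_mem_right _ _ (Ideal.subset_span ⟨j, by simp [Function.update_of_ne hj]⟩)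
  let φ : (A ⧸ K) →ₗ[A] (A ⧸ J') := Submodule.mapQ K J' (LinearMap.toSpanSingleton A A (f i)) hfK
  let ψ : (A ⧸ J') →ₗ[A] (A ⧸ J) := Submodule.factor (le_span_left f i g)
  have hinj : Function.Injective φ := by
    rw [← LinearMap.ker_eq_bot, eq_bot_iff]
    intro z hz
    obtain ⟨x, rfl⟩ := Submodule.Quotient.mk_surjective _ z
    have hx : x * f i ∈ J' := (Submodule.Quotient.mk_eq_zero _).1 hz
    obtain ⟨c, hc⟩ := Ideal.mem_span_range_iff_exists_fun.1 hx
    rw [sum_update] at hc
    have hrel : ∑ j, (Function.update (fun j => -(c j * g)) i (x - c i * g)) j *
        Function.update f i (f i * g) j = 0 := by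
      rw [sum_update, Function.update_self]
      have e1 : ∑ j ∈ Finset.univ.erase i,
          Function.update (fun j => -(c j * g)) i (x - c i * g) j * f j =
            -(g * ∑ j ∈ Finset.univ.erase i, c j * f j) := by
        rw [Finset.mul_sum, ← Finset.sum_neg_distrib]
        exact Finset.sum_congr rfl fun j hj => by
          rw [Function.update_of_ne (Finset.ne_of_mem_erase hj)]; ring
      rw [e1]
      linear_combination (-g) * hc
    have h1 := le_span_right f i g (h _ hrel i)
    rw [Function.update_self] at h1
    have h2 : c i * g ∈ K := Ideal.mul_mem_left _ _ (Ideal.subset_span ⟨i, by simp⟩)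
    have h3 : x ∈ K := by
      have := add_mem h1 h2
      rwa [sub_add_cancel] at this
    exact (Submodule.mem_bot A).2 ((Submodule.Quotient.mk_eq_zero _).2 h3)
  have hex : Function.Exact φ ψ := by
    intro z
    constructor
    · intro hz
      obtain ⟨x, rfl⟩ := Submodule.Quotient.mk_surjective _ z
      have hx : x ∈ J := (Submodule.Quotient.mk_eq_zero _).1 hz
      obtain ⟨c, hc⟩ := Ideal.mem_span_range_iff_exists_fun.1 hx
      rw [← Finset.sum_erase_add _ _ (Finset.mem_univ i)] at hc
      refine ⟨Submodule.Quotient.mk (c i), (Submodule.Quotient.eq _).2 ?_⟩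
      rw [← hc, show (LinearMap.toSpanSingleton A A (f i)) (c i) = c i * f i from rfl,
        sub_add_cancel_right]
      refine neg_mem (Ideal.sum_mem _ fun j hj => Ideal.mul_mem_left _ _ (Ideal.subset_span ⟨j, ?_⟩))
      rw [Function.update_of_ne (Finset.ne_of_mem_erase hj)]
    · rintro ⟨w, rfl⟩
      obtain ⟨y, rfl⟩ := Submodule.Quotient.mk_surjective _ w
      exact (Submodule.Quotient.mk_eq_zero _).2 (Ideal.mul_mem_left _ _ (Ideal.subset_span ⟨i, rfl⟩))
  rw [Module.length_eq_add_of_exact φ ψ hinj (Submodule.factor_surjective _) hex, add_comm]

/-- The colength of an independent family of powers of generators of the maximal ideal. -/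
theorem length_powers [IsLocalRing A] (x : Fin r → A)
    (hx : Ideal.span (Set.range x) = IsLocalRing.maximalIdeal A) :
    ∀ (n : ℕ) (e : Fin r → ℕ), ∑ i, e i = n → (∀ i, 0 < e i) →
      Independent (fun i => x i ^ e i) →
      Module.length A (A ⧸ Ideal.span (Set.range fun i => x i ^ e i)) = ∏ i, (e i : ℕ∞) := by
  classical
  intro n
  induction n using Nat.strong_induction_on with
  | _ n ih =>
    intro e hn he hind
    by_cases hone : ∀ i, e i = 1
    · simp only [hone, Nat.cast_one, Finset.prod_const_one]
      rw [show (fun i => x i ^ e i) = x from funext fun i => by rw [hone i, pow_one], hx,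
        Module.length_eq_one_iff]
      exact isSimpleModule_iff_isCoatom.2 (IsLocalRing.maximalIdeal.isMaximal A).out
    · push Not at hone
      obtain ⟨i, hi⟩ := hone
      let e₁ := Function.update e i (e i - 1)
      let e₂ := Function.update e i 1
      have hi2 : 2 ≤ e i := by have := he i; omega
      have hlt : ∀ v, v < e i → ∑ j, Function.update e i v j < n := by
        intro v hv
        rw [← hn]
        refine Finset.sum_lt_sum (fun j _ => ?_) ⟨i, Finset.mem_univ _, by simpa using hv⟩
        by_cases hj : j = i
        · subst hj; simpa using hv.le
        · simp [Function.update_of_ne hj]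
      have hpow : ∀ v, (fun j => x j ^ Function.update e i v j) =
          Function.update (fun j => x j ^ e j) i (x i ^ v) := by
        intro v; funext j
        by_cases hj : j = i
        · subst hj; simp
        · simp [Function.update_of_ne hj]
      have hpos : ∀ v, 0 < v → ∀ j, 0 < Function.update e i v j := by
        intro v hv j
        by_cases hj : j = i
        · subst hj; simpa using hv
        · simpa [Function.update_of_ne hj] using he j
      let f := Function.update (fun j => x j ^ e j) i (x i ^ (e i - 1))
      have hf : Function.update f i (f i * x i) = fun j => x j ^ e j := by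
        simp only [f, Function.update_self, Function.update_idem, ← pow_succ,
          Nat.sub_add_cancel (he i)]
        exact Function.update_eq_self i _
      let f' := Function.update (fun j => x j ^ e j) i (x i)
      have hf' : Function.update f' i (f' i * x i ^ (e i - 1)) = fun j => x j ^ e j := by
        simp only [f', Function.update_self, Function.update_idem, ← pow_succ',
          Nat.sub_add_cancel (he i)]
        exact Function.update_eq_self i _
      have hfi : Function.update f i (x i) = f' := by simp [f, f']
      have hind1 : Independent f := independent_of_mul (i := i) (g := x i) (by rwa [hf])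
      have hind2 : Independent f' :=
        independent_of_mul (i := i) (g := x i ^ (e i - 1)) (by rwa [hf'])
      have h1 := ih _ (hlt (e i - 1) (by omega)) _ rfl (hpos _ (by omega)) (by rw [hpow]; exact hind1)
      have h2 := ih _ (hlt 1 (by omega)) _ rfl (hpos 1 one_pos)
        (by rw [hpow, pow_one]; exact hind2)
      rw [hpow] at h1 h2
      rw [pow_one] at h2
      have := length_mul (f := f) (i := i) (g := x i) (by rwa [hf])
      rw [hf, hfi] at this
      rw [this, h1, h2]
      have hprod : ∀ v : ℕ, ∏ j, ((Function.update e i v j : ℕ) : ℕ∞) =
          (v : ℕ∞) * ∏ j ∈ Finset.univ.erase i, (e j : ℕ∞) := by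
        intro v
        rw [← Finset.mul_prod_erase _ _ (Finset.mem_univ i), Function.update_self]
        congr 1
        exact Finset.prod_congr rfl fun j hj => by
          rw [Function.update_of_ne (Finset.ne_of_mem_erase hj)]
      rw [hprod, hprod, ← add_mul, ← Nat.cast_add, Nat.sub_add_cancel (he i),
        ← Finset.mul_prod_erase _ (fun j => (e j : ℕ∞)) (Finset.mem_univ i)]

end GrothLib.LechIndep
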