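import Groth.Agent.Lib.LengthQuotX
import Mathlib.LinearAlgebra.Matrix.Nondegenerate
import Mathlib.LinearAlgebra.Matrix.ToLin
import Mathlib.LinearAlgebra.Matrix.Transvection
import Mathlib.LinearAlgebra.Determinant
import Mathlib.RingTheory.OrderOfVanishing.Noetherian

/-!
# The length of the cokernel of a square matrix is the order of its determinant
-/

universe u v

open Matrix

namespace GrothLib.LengthDet

variable {A : Type u} [CommRing A]

/-- Length of the localisation at `p`. -/
noncomputable abbrev locLen (p : PrimeSpectrum A) (M : Type v) [AddCommGroup M] [Module A M] : ℕ∞ :=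
  Module.length (Localization.AtPrime p.asIdeal) (LocalizedModule p.asIdeal.primeCompl M)

section LocLen

variable (p : PrimeSpectrum A) {M N P : Type v} [AddCommGroup M] [Module A M] [AddCommGroup N] [Module A N]
  [AddCommGroup P] [Module A P]

lemma locLen_add (f : M →ₗ[A] N) (g : N →ₗ[A] P) (hf : Function.Injective f) (hg : Function.Surjective g)
    (hfg : Function.Exact f g) : locLen p N = locLen p M + locLen p P :=
  Module.length_eq_add_of_exact (LocalizedModule.map p.asIdeal.primeCompl f)
    (LocalizedModule.map p.asIdeal.primeCompl g) (LocalizedModule.map_injective _ f hf)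
    (LocalizedModule.map_surjective _ g hg) (LocalizedModule.map_exact _ f g hfg)

lemma locLen_zero [Subsingleton M] : locLen p M = 0 := by
  have : Subsingleton (LocalizedModule p.asIdeal.primeCompl M) :=
    Module.notMem_support_iff.mp (by rw [Module.support_eq_empty]; exact Set.notMem_empty p)
  exact Module.length_eq_zero

lemma locLen_congr {N' : Type*} [AddCommGroup N'] [Module A N'] (e : M ≃ₗ[A] N') : locLen p M = locLen p N' :=
  (LinearEquiv.ofBijective (LocalizedModule.map p.asIdeal.primeCompl e.toLinearMap)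
    ⟨LocalizedModule.map_injective _ _ e.injective, LocalizedModule.map_surjective _ _ e.surjective⟩).length_eq

lemma locLen_quot_self :
    locLen p (A ⧸ p.asIdeal) = 1 := by
  rw [locLen, Module.length_eq_one_iff]
  have : Nontrivial (LocalizedModule p.asIdeal.primeCompl (A ⧸ p.asIdeal)) := by
    refine (Module.mem_support_iff (R := A) (M := A ⧸ p.asIdeal)).mp ?_
    rw [Module.support_eq_zeroLocus, Ideal.annihilator_quotient]
    exact le_refl p.asIdeal
  refine isSimpleModule_iff_toSpanSingleton_surjective.mpr ⟨this, fun y hy z => ?_⟩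
  induction y using LocalizedModule.induction_on with
  | _ n s =>
    induction z using LocalizedModule.induction_on with
    | _ n' t =>
      obtain ⟨r, rfl⟩ := Ideal.Quotient.mk_surjective n
      obtain ⟨r', rfl⟩ := Ideal.Quotient.mk_surjective n'
      have hrp : r ∈ p.asIdeal.primeCompl := fun h => hy (by
        rw [Ideal.Quotient.eq_zero_iff_mem.mpr h, LocalizedModule.zero_mk])
      refine ⟨Localization.mk (r' * (s : A)) (⟨r, hrp⟩ * t), ?_⟩
      rw [LinearMap.toSpanSingleton_apply, LocalizedModule.mk_smul_mk, LocalizedModule.mk_eq]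
      refine ⟨1, ?_⟩
      simp only [one_smul, Submonoid.smul_def, Submonoid.coe_mul, Algebra.smul_def, Ideal.Quotient.algebraMap_eq,
        ← map_mul]
      congr 1
      ring

variable [IsNoetherianRing A] [Module.Finite A M]

lemma isMaximal_of_mem_support (h : Module.length A M < ⊤) (q : PrimeSpectrum A) (hq : q ∈ Module.support A M) :
    q.asIdeal.IsMaximal := by
  obtain ⟨m, hm⟩ := Module.mem_support_iff_exists_annihilator.mp hq
  let I : Ideal A := LinearMap.ker (LinearMap.toSpanSingleton A M m)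
  have hI : I ≤ q.asIdeal := by
    intro r hr
    exact hm ((Submodule.mem_annihilator_span_singleton _ _).mpr hr)
  have hfl : IsFiniteLength A (A ⧸ I) := Module.length_ne_top_iff.mp
    (lt_of_le_of_lt (Module.length_le_of_injective (I.liftQ (LinearMap.toSpanSingleton A M m) le_rfl)
      (LinearMap.ker_eq_bot.mp (Submodule.ker_liftQ_eq_bot _ _ _ le_rfl))) h).ne
  have : IsArtinian A (A ⧸ I) := (isFiniteLength_iff_isNoetherian_isArtinian.mp hfl).2
  have : IsArtinianRing (A ⧸ I) := isArtinian_of_tower A inferInstance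
  have hker : RingHom.ker (Ideal.Quotient.mk I) ≤ q.asIdeal := by rwa [Ideal.mk_ker]
  have : (q.asIdeal.map (Ideal.Quotient.mk I)).IsPrime :=
    Ideal.map_isPrime_of_surjective Ideal.Quotient.mk_surjective hker
  have hmax : (q.asIdeal.map (Ideal.Quotient.mk I)).IsMaximal := IsArtinianRing.isMaximal_of_isPrime _
  have := Ideal.comap_isMaximal_of_surjective (Ideal.Quotient.mk I) Ideal.Quotient.mk_surjective (K := q.asIdeal.map (Ideal.Quotient.mk I))
  rwa [Ideal.comap_map_of_surjective _ Ideal.Quotient.mk_surjective, ← RingHom.ker_eq_comap_bot, sup_eq_left.mpr hker] at this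

/-- Length is the sum of the local lengths. -/
theorem length_eq_sum (T : Finset (PrimeSpectrum A)) (hmax : ∀ q ∈ T, q.asIdeal.IsMaximal)
    (hsupp : ∀ q ∈ Module.support A M, q ∈ T) : Module.length A M = ∑ q ∈ T, locLen q M := by
  classical
  induction ‹Module.Finite A M› using IsNoetherianRing.induction_on_isQuotientEquivQuotientPrime A with
  | subsingleton N => rw [Module.length_eq_zero, Finset.sum_eq_zero fun q _ => locLen_zero q]
  | quotient N q e =>
    have hs : ∀ r, r ∈ Module.support A N ↔ q ≤ r := fun r => by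
      rw [e.support_eq, Module.support_eq_zeroLocus, Ideal.annihilator_quotient]
      rfl
    have hqT : q ∈ T := hsupp q ((hs q).mpr le_rfl)
    have hqm := hmax q hqT
    rw [Finset.sum_eq_single q]
    · have : IsSimpleModule A (A ⧸ q.asIdeal) := isSimpleModule_iff_isCoatom.mpr hqm.out
      rw [e.length_eq, Module.length_eq_one, locLen_congr q e]
      exact (locLen_quot_self q).symm
    · intro r _ hr
      have hn : r ∉ Module.support A N := fun h => hr (PrimeSpectrum.ext (hqm.eq_of_le r.isPrime.ne_top ((hs r).mp h))).symm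
      have := Module.notMem_support_iff.mp hn
      exact Module.length_eq_zero
    · exact fun h => absurd hqT h
  | exact B₁ B₂ B₃ f g hf hg hfg ih₁ ih₃ =>
    have hsup := Module.support_of_exact hfg hf hg
    rw [Module.length_eq_add_of_exact f g hf hg hfg, ih₁ fun q hq => hsupp q (hsup ▸ Set.mem_union_left _ hq),
      ih₃ fun q hq => hsupp q (hsup ▸ Set.mem_union_right _ hq), ← Finset.sum_add_distrib]
    exact Finset.sum_congr rfl fun q _ => (locLen_add q f g hf hg hfg).symm

end LocLen

section Coker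

/-- The cokernel of a square matrix. -/
abbrev Coker {n : ℕ} (M : Matrix (Fin n) (Fin n) A) : Type u := (Fin n → A) ⧸ LinearMap.range M.mulVecLin

variable (p : PrimeSpectrum A)

lemma locLen_coker_unit {n : ℕ} (M : Matrix (Fin n) (Fin n) A) (h : IsUnit M.det) : locLen p (Coker M) = 0 := by
  have : Subsingleton (Coker M) := by
    rw [Submodule.Quotient.subsingleton_iff, LinearMap.range_eq_top]
    exact fun y => ⟨M⁻¹ *ᵥ y, by rw [mulVecLin_apply, mulVec_mulVec, mul_nonsing_inv _ h, one_mulVec]⟩
  exact locLen_zero p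

lemma locLen_coker_mul {n : ℕ} (M N : Matrix (Fin n) (Fin n) A) (hM : M.det ∈ nonZeroDivisors A) :
    locLen p (Coker (M * N)) = locLen p (Coker N) + locLen p (Coker M) := by
  have h1 : LinearMap.range (M * N).mulVecLin ≤ LinearMap.range M.mulVecLin := by
    rw [mulVecLin_mul]
    exact LinearMap.range_comp_le_range _ _
  let f : Coker N →ₗ[A] Coker (M * N) := Submodule.mapQ _ _ M.mulVecLin (by
    rintro _ ⟨y, rfl⟩
    exact ⟨y, by rw [mulVecLin_mul, LinearMap.comp_apply]⟩)
  refine locLen_add p f (Submodule.factor h1) ?_ (Submodule.factor_surjective h1) ?_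
  · rw [injective_iff_map_eq_zero]
    intro q hq
    obtain ⟨x, rfl⟩ := Submodule.mkQ_surjective _ q
    obtain ⟨y, hy⟩ := (Submodule.Quotient.mk_eq_zero _).mp hq
    refine (Submodule.Quotient.mk_eq_zero _).mpr ⟨y, ?_⟩
    apply mulVec_injective_of_det_mem_nonZeroDivisors hM
    rw [mulVecLin_mul, LinearMap.comp_apply] at hy
    exact hy
  · intro q
    obtain ⟨x, rfl⟩ := Submodule.mkQ_surjective _ q
    constructor
    · intro hq
      obtain ⟨y, hy⟩ := (Submodule.Quotient.mk_eq_zero _).mp hq
      exact ⟨Submodule.Quotient.mk y, congrArg Submodule.Quotient.mk hy⟩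
    · rintro ⟨r, hr⟩
      obtain ⟨y, rfl⟩ := Submodule.mkQ_surjective _ r
      rw [← hr]
      exact (Submodule.Quotient.mk_eq_zero _).mpr ⟨y, rfl⟩

lemma locLen_coker_block {n : ℕ} (M : Matrix (Fin (n + 1)) (Fin (n + 1)) A) (h0 : ∀ i : Fin n, M i.succ 0 = 0)
    (hD : (M.submatrix Fin.succ Fin.succ).det ∈ nonZeroDivisors A) :
    locLen p (Coker M) = locLen p (A ⧸ Ideal.span {M 0 0}) + locLen p (Coker (M.submatrix Fin.succ Fin.succ)) := by
  have hs : ∀ (v : Fin (n + 1) → A) (i : Fin n),
      (M *ᵥ v) i.succ = (M.submatrix Fin.succ Fin.succ *ᵥ fun j => v j.succ) i := fun v i => by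
    simp only [mulVec, dotProduct, Fin.sum_univ_succ, h0, zero_mul, zero_add, submatrix_apply]
  have hz : ∀ (v : Fin (n + 1) → A), (M *ᵥ v) 0 = M 0 0 * v 0 + ∑ j : Fin n, M 0 j.succ * v j.succ := fun v => by
    simp only [mulVec, dotProduct, Fin.sum_univ_succ]
  let ι : A →ₗ[A] (Fin (n + 1) → A) := LinearMap.single A (fun _ => A) 0
  let f : (A ⧸ Ideal.span {M 0 0}) →ₗ[A] Coker M := Submodule.mapQ _ _ ι (by
    intro a ha
    obtain ⟨c, rfl⟩ := Ideal.mem_span_singleton'.mp ha
    refine ⟨Pi.single 0 c, funext fun i => ?_⟩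
    refine Fin.cases ?_ (fun i => ?_) i
    · simp [ι, hz, Fin.succ_ne_zero, mul_comm]
    · simp [ι, hs, Fin.succ_ne_zero, mulVec, dotProduct, Pi.single_apply, h0])
  let g : Coker M →ₗ[A] Coker (M.submatrix Fin.succ Fin.succ) := Submodule.mapQ _ _
    (LinearMap.funLeft A A Fin.succ) (by
    rintro _ ⟨v, rfl⟩
    exact ⟨fun j => v j.succ, funext fun i => (hs v i).symm⟩)
  refine locLen_add p f g ?_ ?_ ?_
  · rw [injective_iff_map_eq_zero]
    intro q hq
    obtain ⟨a, rfl⟩ := Submodule.mkQ_surjective _ q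
    obtain ⟨v, hv⟩ := (Submodule.Quotient.mk_eq_zero _).mp hq
    have hv' : (fun j : Fin n => v j.succ) = 0 := by
      apply mulVec_injective_of_det_mem_nonZeroDivisors hD
      funext i
      rw [← hs, mulVec_zero]
      have := congrFun hv i.succ
      simpa [ι, Fin.succ_ne_zero] using this
    refine (Submodule.Quotient.mk_eq_zero _).mpr (Ideal.mem_span_singleton'.mpr ⟨v 0, ?_⟩)
    have := congrFun hv 0
    rw [mulVecLin_apply, hz] at this
    simpa [ι, fun j => congrFun hv' j, mul_comm] using this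
  · intro q
    obtain ⟨w, rfl⟩ := Submodule.mkQ_surjective _ q
    exact ⟨Submodule.Quotient.mk (Fin.cons 0 w), congrArg Submodule.Quotient.mk (funext fun i => by
      simp [LinearMap.funLeft])⟩
  · intro q
    obtain ⟨w, rfl⟩ := Submodule.mkQ_surjective _ q
    constructor
    · intro hq
      obtain ⟨v, hv⟩ := (Submodule.Quotient.mk_eq_zero _).mp hq
      refine ⟨Submodule.Quotient.mk (w 0 - (M *ᵥ Fin.cons 0 v) 0), ?_⟩
      refine (Submodule.Quotient.eq _).mpr ⟨-Fin.cons 0 v, funext fun i => ?_⟩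
      refine Fin.cases ?_ (fun i => ?_) i
      · simp [ι, mulVec_neg]
      · have hi : (M.submatrix Fin.succ Fin.succ *ᵥ v) i = w i.succ := congrFun hv i
        simp [ι, mulVec_neg, hs, hi, Fin.succ_ne_zero, show (fun j => -v j) = -v from rfl]
    · rintro ⟨r, hr⟩
      obtain ⟨a, rfl⟩ := Submodule.mkQ_surjective _ r
      rw [← hr]
      refine (Submodule.Quotient.mk_eq_zero _).mpr ⟨0, funext fun i => ?_⟩
      simp [ι, LinearMap.funLeft, Fin.succ_ne_zero]

lemma locLen_mul {a b : A} (ha : a ∈ nonZeroDivisors A) :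
    locLen p (A ⧸ Ideal.span {a * b}) = locLen p (A ⧸ Ideal.span {b}) + locLen p (A ⧸ Ideal.span {a}) := by
  have e : ∀ c : A, locLen p (Coker (Matrix.scalar (Fin 1) c)) = locLen p (A ⧸ Ideal.span {c}) := fun c => by
    rw [locLen_coker_block p (Matrix.scalar (Fin 1) c) (fun i => i.elim0) (by simp [det_fin_zero])]
    rw [locLen_zero p (M := Coker ((Matrix.scalar (Fin 1) c).submatrix Fin.succ Fin.succ)), add_zero]
    rw [show (Matrix.scalar (Fin 1) c) 0 0 = c by simp]
  rw [← e, ← e, ← e, map_mul, locLen_coker_mul p _ _ (by simpa using ha)]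

lemma locLen_coker_diag {n : ℕ} {a : A} (ha : a ∈ nonZeroDivisors A) :
    locLen p (Coker (Matrix.scalar (Fin n) a)) = n • locLen p (A ⧸ Ideal.span {a}) := by
  induction n with
  | zero => rw [locLen_zero, zero_smul]
  | succ n ih =>
    have h : (Matrix.scalar (Fin (n + 1)) a).submatrix Fin.succ Fin.succ = Matrix.scalar (Fin n) a := by
      ext i j; simp [diagonal, Fin.succ_inj]
    rw [locLen_coker_block p _ (fun i => by simp [Fin.succ_ne_zero]) (by rw [h]; simpa using pow_mem ha n), h, ih,
      succ_nsmul, add_comm]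
    rw [show (Matrix.scalar (Fin (n + 1)) a) 0 0 = a by simp]

variable [IsNoetherianRing A]

lemma exists_add_mem_nonZeroDivisors (a₀ : A) (J : Ideal A)
    (h : ∀ P ∈ associatedPrimes A A, ¬ (a₀ ∈ P ∧ J ≤ P)) : ∃ y ∈ J, a₀ + y ∈ nonZeroDivisors A := by
  classical
  obtain ⟨S, hS⟩ : ∃ S : Finset (Ideal A), ∀ P, P ∈ S ↔ P ∈ associatedPrimes A A :=
    ⟨(associatedPrimes.finite A A).toFinset, fun P => Set.Finite.mem_toFinset _⟩
  obtain ⟨T, hT⟩ : ∃ T : Finset (Ideal A), ∀ P, P ∈ T ↔ Maximal (· ∈ S) P :=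
    ⟨S.filter (fun P => Maximal (· ∈ S) P), fun P => by rw [Finset.mem_filter]; exact and_iff_right_of_imp (·.1)⟩
  have hass : ∀ P ∈ T, P.IsPrime := fun P hP => ((hS P).mp ((hT P).mp hP).1).isPrime
  obtain ⟨T₁, hT₁⟩ : ∃ T₁ : Finset (Ideal A), ∀ P, P ∈ T₁ ↔ P ∈ T ∧ a₀ ∈ P :=
    ⟨T.filter (fun P => a₀ ∈ P), fun P => Finset.mem_filter⟩
  obtain ⟨T₂, hT₂⟩ : ∃ T₂ : Finset (Ideal A), ∀ P, P ∈ T₂ ↔ P ∈ T ∧ a₀ ∉ P :=
    ⟨T.filter (fun P => a₀ ∉ P), fun P => Finset.mem_filter⟩
  obtain ⟨y, hyJ, hyK, hy⟩ : ∃ y, y ∈ J ∧ (∀ P ∈ T₂, y ∈ P) ∧ ∀ P ∈ T₁, y ∉ P := by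
    by_contra hc
    push Not at hc
    have hsub : (↑(J ⊓ T₂.inf id) : Set A) ⊆ ⋃ P ∈ (↑T₁ : Set (Ideal A)), (P : Set A) := by
      intro y hy
      obtain ⟨hyJ, hyT⟩ := Submodule.mem_inf.mp hy
      obtain ⟨P, hP, hyP⟩ := hc y hyJ fun P hP => Finset.inf_le (f := id) hP hyT
      exact Set.mem_iUnion₂.mpr ⟨P, hP, hyP⟩
    obtain ⟨P, hP, hKP⟩ := (Ideal.subset_union_prime (f := fun P : Ideal A => P) ⊥ ⊥
      (fun P hP _ _ => hass P ((hT₁ P).mp hP).1)).mp hsub
    obtain ⟨hPT, haP⟩ := (hT₁ P).mp hP
    have hprime := hass P hPT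
    rcases hprime.inf_le.mp hKP with hJ | hprod
    · exact h P ((hS P).mp ((hT P).mp hPT).1) ⟨haP, hJ⟩
    · obtain ⟨Q, hQ, hQP⟩ := (Ideal.IsPrime.inf_le' hprime).mp hprod
      obtain ⟨hQT, haQ⟩ := (hT₂ Q).mp hQ
      exact haQ ((((hT Q).mp hQT).eq_of_le ((hT P).mp hPT).1 hQP).symm ▸ haP)
  refine ⟨y, hyJ, ?_⟩
  by_contra hne
  have : a₀ + y ∈ ⋃ P ∈ associatedPrimes A A, (P : Set A) := by
    rw [biUnion_associatedPrimes_eq_compl_nonZeroDivisors]; exact hne
  obtain ⟨P, hP, hmem⟩ := Set.mem_iUnion₂.mp this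
  obtain ⟨Q, hPQ, hQ⟩ := S.finite_toSet.exists_le_maximal ((hS P).mpr hP)
  have hQT : Q ∈ T := (hT Q).mpr hQ
  have hQmem : a₀ + y ∈ Q := hPQ hmem
  by_cases ha : a₀ ∈ Q
  · exact hy Q ((hT₁ Q).mpr ⟨hQT, ha⟩) ((Q.add_mem_iff_right ha).mp hQmem)
  · exact ha ((Q.add_mem_iff_left (hyK Q ((hT₂ Q).mpr ⟨hQT, ha⟩))).mp hQmem)

/-- The local version. -/
theorem locLen_coker_eq (hfin : ∀ a ∈ nonZeroDivisors A, locLen p (A ⧸ Ideal.span {a}) ≠ ⊤) :
    ∀ {n : ℕ} (M : Matrix (Fin n) (Fin n) A), M.det ∈ nonZeroDivisors A →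
      locLen p (Coker M) = locLen p (A ⧸ Ideal.span {M.det}) := by
  intro n
  induction n with
  | zero =>
    intro M _
    have : Subsingleton (A ⧸ Ideal.span {M.det}) := by
      rw [Submodule.Quotient.subsingleton_iff, Ideal.span_singleton_eq_top, det_fin_zero]
      exact isUnit_one
    rw [locLen_zero, locLen_zero]
  | succ n ih =>
    intro M hM
    have hcol : ∀ P ∈ associatedPrimes A A, ¬ (M 0 0 ∈ P ∧ Ideal.span (Set.range fun i : Fin n => M i.succ 0) ≤ P) := by
      rintro P hP ⟨h0, h1⟩
      have hd : M.det ∈ P := by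
        rw [det_succ_column_zero]
        refine P.sum_mem fun i _ => P.mul_mem_right _ (P.mul_mem_left _ ?_)
        exact Fin.cases h0 (fun i => h1 (Ideal.subset_span ⟨i, rfl⟩)) i
      have : M.det ∈ ((nonZeroDivisors A : Set A))ᶜ := by
        rw [← biUnion_associatedPrimes_eq_compl_nonZeroDivisors]
        exact Set.mem_iUnion₂.mpr ⟨P, hP, hd⟩
      exact this hM
    obtain ⟨y, hyJ, hy⟩ := exists_add_mem_nonZeroDivisors (M 0 0) _ hcol
    obtain ⟨c, hc⟩ := (Ideal.mem_span_range_iff_exists_fun).mp hyJ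
    let T : Matrix (Fin (n + 1)) (Fin (n + 1)) A := Matrix.of fun i j => if i = 0 then (Fin.cons 1 c : Fin (n + 1) → A) j else if i = j then 1 else 0
    have hT : T.det = 1 := by
      rw [det_of_upperTriangular]
      · refine Finset.prod_eq_one fun i _ => ?_
        refine Fin.cases ?_ (fun i => ?_) i <;> simp [T, Fin.succ_ne_zero]
      · intro i j (hij : j < i)
        have hi : i ≠ 0 := fun h => by rw [h] at hij; exact absurd hij (by simp)
        simp [T, hi, hij.ne']
    have hN : ∀ j, (T * M) 0 j = M 0 j + ∑ i : Fin n, c i * M i.succ j := fun j => by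
      simp [mul_apply, T, Fin.sum_univ_succ]
    set N := T * M with hNdef
    have hNdet : N.det = M.det := by rw [hNdef, det_mul, hT, one_mul]
    set a := N 0 0 with hadef
    have ha : a ∈ nonZeroDivisors A := by rw [hadef, hN, hc]; exact hy
    let L : Matrix (Fin (n + 1)) (Fin (n + 1)) A := Matrix.of fun i j =>
      if i = 0 then (if j = 0 then 1 else 0) else (if i = j then 1 else if j = 0 then -N i 0 else 0)
    have hL : L.det = 1 := by
      rw [det_of_lowerTriangular]
      · refine Finset.prod_eq_one fun i _ => ?_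
        refine Fin.cases ?_ (fun i => ?_) i <;> simp [L, Fin.succ_ne_zero]
      · intro i j hij
        have hij' : i < j := hij
        have hj : j ≠ 0 := fun h => by rw [h] at hij'; exact absurd hij' (by simp)
        simp [L, hj, hij'.ne]
    let D : Matrix (Fin (n + 1)) (Fin (n + 1)) A := Matrix.diagonal (Fin.cons 1 fun _ => a)
    have hDdet : D.det = a ^ n := by simp [D, det_diagonal, Fin.prod_univ_succ]
    have hDlen : locLen p (Coker D) = n • locLen p (A ⧸ Ideal.span {a}) := by
      have hs : D.submatrix Fin.succ Fin.succ = Matrix.scalar (Fin n) a := by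
        ext i j; by_cases h : i = j <;> simp [D, diagonal, h, Fin.succ_inj]
      rw [locLen_coker_block p D (fun i => by simp [D, Fin.succ_ne_zero]) (by rw [hs]; simpa using pow_mem ha n), hs,
        locLen_coker_diag p ha]
      have : Subsingleton (A ⧸ Ideal.span {D 0 0}) := by
        rw [Submodule.Quotient.subsingleton_iff, Ideal.span_singleton_eq_top]
        simp [D]
      rw [locLen_zero, zero_add]
    set P := L * D * N with hPdef
    have hP00 : P 0 0 = a := by
      simp [hPdef, mul_apply, L, D, diagonal, Fin.sum_univ_succ, hadef, Fin.succ_ne_zero]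
    have hP0 : ∀ i : Fin n, P i.succ 0 = 0 := fun i => by
      simp [hPdef, mul_apply, L, D, diagonal, Fin.sum_univ_succ, Fin.succ_ne_zero, Fin.succ_inj, ← hadef, mul_comm]
    have hdet : a * (P.submatrix Fin.succ Fin.succ).det = a ^ n * M.det := by
      rw [← hNdet]
      calc a * (P.submatrix Fin.succ Fin.succ).det = P.det := by
            rw [det_succ_column_zero P, Fin.sum_univ_succ]
            simp [hP0, hP00]
        _ = _ := by rw [hPdef, det_mul, det_mul, hL, hDdet, one_mul]
    have hsub : (P.submatrix Fin.succ Fin.succ).det ∈ nonZeroDivisors A := by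
      have : a * (P.submatrix Fin.succ Fin.succ).det ∈ nonZeroDivisors A := hdet ▸ mul_mem (pow_mem ha n) hM
      exact (mul_mem_nonZeroDivisors.mp this).2
    have hpow : ∀ k : ℕ, ∀ b, locLen p (A ⧸ Ideal.span {a ^ k * b}) =
        locLen p (A ⧸ Ideal.span {b}) + k • locLen p (A ⧸ Ideal.span {a}) := by
      intro k
      induction k with
      | zero => intro b; rw [pow_zero, one_mul, zero_smul, add_zero]
      | succ k ihk => intro b; rw [pow_succ', mul_assoc, locLen_mul p ha, ihk, succ_nsmul, add_assoc]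
    have e1 : locLen p (Coker P) = locLen p (Coker M) + n • locLen p (A ⧸ Ideal.span {a}) := by
      rw [hPdef, locLen_coker_mul p (L * D) N (by rw [det_mul, hL, hDdet, one_mul]; exact pow_mem ha n), hNdef,
        locLen_coker_mul p T M (by rw [hT]; exact one_mem _), locLen_coker_mul p L D (by rw [hL]; exact one_mem _),
        locLen_coker_unit p T (by simp [hT]), locLen_coker_unit p L (by simp [hL]), hDlen, add_zero, add_zero]
    have e2 : locLen p (Coker P) = locLen p (A ⧸ Ideal.span {M.det}) + n • locLen p (A ⧸ Ideal.span {a}) := by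
      rw [locLen_coker_block p P hP0 hsub, ih _ hsub, hP00, add_comm, ← hpow, ← hdet, locLen_mul p ha]
    refine ENat.add_left_injective_of_ne_top ?_ (e1.symm.trans e2)
    rw [nsmul_eq_mul]
    exact WithTop.mul_ne_top (ENat.natCast_ne_top n) (hfin a ha)

omit [IsNoetherianRing A] in
lemma mem_support_coker_iff {n : ℕ} (M : Matrix (Fin n) (Fin n) A) (q : PrimeSpectrum A) :
    q ∈ Module.support A (Coker M) ↔ M.det ∈ q.asIdeal := by
  rw [← not_iff_not, Module.notMem_support_iff']
  constructor
  · intro h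
    choose r hr hr' using fun i : Fin n => h (Submodule.Quotient.mk (Pi.single i 1))
    choose x hx using fun i => (Submodule.Quotient.mk_eq_zero _).mp ((Submodule.Quotient.mk_smul _ _ _).trans (hr' i))
    have : M * Matrix.of (fun j i => x i j) = Matrix.diagonal r := by
      ext i j
      have := congrFun (hx j) i
      rw [mulVecLin_apply] at this
      simp only [mul_apply, of_apply]
      rw [mulVec, dotProduct] at this
      rw [this]
      by_cases hij : i = j
      · subst hij; simp
      · simp [hij]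
    intro hd
    have hp : ∏ i, r i ∈ q.asIdeal := by
      rw [← det_diagonal, ← this, det_mul]
      exact q.asIdeal.mul_mem_right _ hd
    have := q.isPrime
    obtain ⟨i, -, hi⟩ := Ideal.IsPrime.prod_mem_iff.mp hp
    exact hr i hi
  · intro hd m
    obtain ⟨v, rfl⟩ := Submodule.mkQ_surjective _ m
    refine ⟨M.det, hd, ?_⟩
    rw [Submodule.mkQ_apply, ← Submodule.Quotient.mk_smul, Submodule.Quotient.mk_eq_zero]
    exact ⟨M.adjugate *ᵥ v, by rw [mulVecLin_apply, mulVec_mulVec, mul_adjugate, smul_mulVec, one_mulVec]⟩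

/-- `length coker M = length A/(det M)`. -/
theorem length_coker_eq {n : ℕ} (M : Matrix (Fin n) (Fin n) A) (hM : M.det ∈ nonZeroDivisors A) :
    Module.length A (Coker M) = Module.length A (A ⧸ Ideal.span {M.det}) := by
  classical
  have hsA : ∀ q : PrimeSpectrum A, q ∈ Module.support A (A ⧸ Ideal.span {M.det}) ↔ M.det ∈ q.asIdeal := fun q => by
    rw [Module.support_eq_zeroLocus, Ideal.annihilator_quotient]
    exact (Ideal.span_singleton_le_iff_mem _)
  by_cases hall : ∀ q : PrimeSpectrum A, M.det ∈ q.asIdeal → q.asIdeal.IsMaximal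
  · have hT : {q : PrimeSpectrum A | M.det ∈ q.asIdeal}.Finite := by
      refine Set.Finite.of_finite_image (f := PrimeSpectrum.asIdeal) ?_ (fun a _ b _ h => PrimeSpectrum.ext h)
      refine (Ideal.finite_minimalPrimes_of_isNoetherianRing A (Ideal.span {M.det})).subset ?_
      rintro _ ⟨q, hq, rfl⟩
      refine ⟨⟨q.isPrime, (Ideal.span_singleton_le_iff_mem _).mpr hq⟩, fun J hJ hJq => ?_⟩
      exact ((hall ⟨J, hJ.1⟩ ((Ideal.span_singleton_le_iff_mem _).mp hJ.2)).eq_of_le q.isPrime.ne_top hJq).ge
    rw [length_eq_sum hT.toFinset (fun q hq => hall q (hT.mem_toFinset.mp hq))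
        (fun q hq => hT.mem_toFinset.mpr ((mem_support_coker_iff M q).mp hq)),
      length_eq_sum hT.toFinset (fun q hq => hall q (hT.mem_toFinset.mp hq))
        (fun q hq => hT.mem_toFinset.mpr ((hsA q).mp hq))]
    refine Finset.sum_congr rfl fun q hq => locLen_coker_eq q (fun a ha => ?_) M hM
    have hdq := hT.mem_toFinset.mp hq
    have hht : q.asIdeal.height ≤ 1 := Ideal.height_le_one_of_isPrincipal_of_mem_minimalPrimes (Ideal.span {M.det}) q.asIdeal
      ⟨⟨q.isPrime, (Ideal.span_singleton_le_iff_mem _).mpr hdq⟩, fun J hJ hJq =>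
        ((hall ⟨J, hJ.1⟩ ((Ideal.span_singleton_le_iff_mem _).mp hJ.2)).eq_of_le q.isPrime.ne_top hJq).ge⟩
    have hmin : ∀ r ∈ Module.support A (A ⧸ Ideal.span {a}), r ≤ q → r = q := by
      intro r hr hrq
      rw [Module.support_eq_zeroLocus, Ideal.annihilator_quotient] at hr
      by_contra hne
      have hlt : r.asIdeal < q.asIdeal := lt_of_le_of_ne hrq fun h => hne (PrimeSpectrum.ext h)
      have h1 := Ideal.height_strict_mono_of_isPrime hlt
      have h0 : r.asIdeal.height = 0 := Order.lt_one_iff.mp (lt_of_lt_of_le (h1) hht)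
      have hmp : r.asIdeal ∈ minimalPrimes A := Ideal.height_eq_zero_iff.mp h0
      exact Set.disjoint_left.mp (Ideal.disjoint_nonZeroDivisors_of_mem_minimalPrimes hmp)
        ((Ideal.span_singleton_le_iff_mem _).mp hr) ha
    have := GrothLib.LengthQuotX.isArtinian_localized_of_minimal q hmin
    have : IsNoetherianRing (Localization q.asIdeal.primeCompl) :=
      IsLocalization.isNoetherianRing q.asIdeal.primeCompl _ inferInstance
    exact Module.length_ne_top
  · push Not at hall
    obtain ⟨q, hq, hqm⟩ := hall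
    rw [eq_top_iff.mpr (le_of_not_gt fun h => hqm (isMaximal_of_mem_support h q ((mem_support_coker_iff M q).mpr hq))),
      eq_top_iff.mpr (le_of_not_gt fun h => hqm (isMaximal_of_mem_support h q ((hsA q).mpr hq)))]

end Coker

end GrothLib.LengthDet
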