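import Groth.Agent.Lib.KoszulH1
import Mathlib.RingTheory.MvPolynomial.Homogeneous
import Mathlib.RingTheory.MvPolynomial.Ideal
import Mathlib.Tactic.LinearCombination

/-!
# Ideals generated by weakly regular sequences are of linear type
-/

open RingTheory.Sequence MvPolynomial

universe u

namespace GrothLib.LinearType

variable {A : Type u} [CommRing A] {n : ℕ}

/-- The linear relations. -/
noncomputable abbrev rel (a : Fin n → A) : Ideal (MvPolynomial (Fin n) A) :=
  Ideal.span {q : MvPolynomial (Fin n) A | ∃ i j : Fin n, q = C (a i) * X j - C (a j) * X i}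

lemma induction_homogeneous {σ : Type*} {d : ℕ} {p : MvPolynomial σ A → Prop} (h0 : p 0)
    (hadd : ∀ x y, p x → p y → p (x + y)) (hmon : ∀ s : σ →₀ ℕ, s.degree = d → ∀ c, p (monomial s c))
    {F : MvPolynomial σ A} (hF : F.IsHomogeneous d) : p F := by
  rw [F.as_sum]
  refine Finset.sum_induction _ p hadd h0 fun s hs => hmon s ?_ _
  rw [Finsupp.degree_eq_weight_one]
  exact hF (mem_support_iff.mp hs)

lemma exists_split_last {d : ℕ} {F : MvPolynomial (Fin (n + 1)) A} (hF : F.IsHomogeneous (d + 1)) :
    ∃ G : MvPolynomial (Fin n) A, ∃ H : MvPolynomial (Fin (n + 1)) A,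
      G.IsHomogeneous (d + 1) ∧ H.IsHomogeneous d ∧ F = rename Fin.castSucc G + X (Fin.last n) * H := by
  refine induction_homogeneous (p := fun F => ∃ G : MvPolynomial (Fin n) A, ∃ H : MvPolynomial (Fin (n + 1)) A,
    G.IsHomogeneous (d + 1) ∧ H.IsHomogeneous d ∧ F = rename Fin.castSucc G + X (Fin.last n) * H)
    ⟨0, 0, isHomogeneous_zero _ _ _, isHomogeneous_zero _ _ _, by simp⟩ ?_ ?_ hF
  · rintro x y ⟨G, H, hG, hH, rfl⟩ ⟨G', H', hG', hH', rfl⟩
    exact ⟨G + G', H + H', hG.add hG', hH.add hH', by simp only [map_add]; ring⟩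
  · intro s hs c
    by_cases hl : s (Fin.last n) = 0
    · refine ⟨monomial (s.comapDomain Fin.castSucc (Fin.castSucc_injective n).injOn) c, 0, ?_,
        isHomogeneous_zero _ _ _, ?_⟩
      · refine isHomogeneous_monomial _ ?_
        rw [← hs, Finsupp.degree_eq_sum, Finsupp.degree_eq_sum, Fin.sum_univ_castSucc, hl, add_zero]
        simp
      · rw [rename_monomial, mul_zero, add_zero]
        congr
        refine Finsupp.ext fun i => Fin.lastCases ?_ (fun j => ?_) i
        · rw [Finsupp.mapDomain_of_notMem_range, hl]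
          rintro ⟨j, hj⟩
          exact Fin.castSucc_ne_last j hj
        · rw [Finsupp.mapDomain_apply (Fin.castSucc_injective n)]
          simp
    · have hle : Finsupp.single (Fin.last n) 1 ≤ s := by
        intro i
        by_cases hi : i = Fin.last n
        · subst hi; simp; omega
        · rw [Finsupp.single_eq_of_ne hi]; exact Nat.zero_le _
      refine ⟨0, monomial (s - Finsupp.single (Fin.last n) 1) c, isHomogeneous_zero _ _ _, ?_, ?_⟩
      · refine isHomogeneous_monomial _ ?_
        have := congrArg Finsupp.degree (add_tsub_cancel_of_le hle)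
        rw [map_add, Finsupp.degree_single, hs] at this
        omega
      · rw [map_zero, zero_add, X, monomial_mul, one_mul, add_tsub_cancel_of_le hle]

lemma exists_euler {σ : Type*} [Fintype σ] [DecidableEq σ] {d : ℕ} {F : MvPolynomial σ A}
    (hF : F.IsHomogeneous (d + 1)) :
    ∃ Q : σ → MvPolynomial σ A, (∀ i, (Q i).IsHomogeneous d) ∧ F = ∑ i, X i * Q i := by
  refine induction_homogeneous (p := fun F => ∃ Q : σ → MvPolynomial σ A, (∀ i, (Q i).IsHomogeneous d) ∧
    F = ∑ i, X i * Q i) ⟨0, fun _ => isHomogeneous_zero _ _ _, by simp⟩ ?_ ?_ hF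
  · rintro x y ⟨Q, hQ, rfl⟩ ⟨Q', hQ', rfl⟩
    exact ⟨Q + Q', fun i => (hQ i).add (hQ' i), by simp [mul_add, Finset.sum_add_distrib]⟩
  · intro s hs c
    obtain ⟨i, hi⟩ : ∃ i, s i ≠ 0 := by
      by_contra h
      push Not at h
      rw [show s = 0 from Finsupp.ext h] at hs
      simp at hs
    have hle : Finsupp.single i 1 ≤ s := by
      intro j
      by_cases hj : j = i
      · subst hj; simp; omega
      · rw [Finsupp.single_eq_of_ne hj]; exact Nat.zero_le _
    refine ⟨Pi.single i (monomial (s - Finsupp.single i 1) c), fun j => ?_, ?_⟩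
    · by_cases hj : j = i
      · subst hj
        rw [Pi.single_eq_same]
        refine isHomogeneous_monomial _ ?_
        have := congrArg Finsupp.degree (add_tsub_cancel_of_le hle)
        rw [map_add, Finsupp.degree_single, hs] at this
        omega
      · rw [Pi.single_eq_of_ne hj]
        exact isHomogeneous_zero _ _ _
    · rw [Finset.sum_eq_single i (fun j _ hj => by rw [Pi.single_eq_of_ne hj, mul_zero])
        (fun h => absurd (Finset.mem_univ i) h), Pi.single_eq_same, X, monomial_mul, one_mul,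
        add_tsub_cancel_of_le hle]

lemma rename_rel (a : Fin (n + 1) → A) :
    (rel (a ∘ Fin.castSucc)).map (rename Fin.castSucc) ≤ rel a := by
  rw [Ideal.map_span, Ideal.span_le]
  rintro _ ⟨_, ⟨i, j, rfl⟩, rfl⟩
  exact Ideal.subset_span ⟨i.castSucc, j.castSucc, by simp⟩

lemma rel_le_map (a : Fin n → A) :
    rel a ≤ (Ideal.span (Set.range a)).map (C : A →+* MvPolynomial (Fin n) A) := by
  refine Ideal.span_le.mpr ?_
  rintro _ ⟨i, j, rfl⟩
  exact sub_mem (Ideal.mul_mem_right _ _ (Ideal.mem_map_of_mem _ (Ideal.subset_span ⟨i, rfl⟩)))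
    (Ideal.mul_mem_right _ _ (Ideal.mem_map_of_mem _ (Ideal.subset_span ⟨j, rfl⟩)))

/-- A value of a form with coefficients in the ideal is a value of a form of one higher degree. -/
lemma exists_form_succ (g : Fin n → A) {d : ℕ} {P : MvPolynomial (Fin n) A} (hP : P.IsHomogeneous d)
    (hmem : ∀ s, coeff s P ∈ Ideal.span (Set.range g)) :
    ∃ P' : MvPolynomial (Fin n) A, P'.IsHomogeneous (d + 1) ∧ aeval g P = aeval g P' := by
  let S : AddSubmonoid A :=
    { carrier := {z | ∃ P' : MvPolynomial (Fin n) A, P'.IsHomogeneous (d + 1) ∧ z = aeval g P'}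
      zero_mem' := ⟨0, isHomogeneous_zero _ _ _, by simp⟩
      add_mem' := by
        rintro x y ⟨P₁, h₁, rfl⟩ ⟨P₂, h₂, rfl⟩
        exact ⟨P₁ + P₂, h₁.add h₂, (map_add _ _ _).symm⟩ }
  show aeval g P ∈ S
  rw [P.as_sum, map_sum]
  refine sum_mem fun s hs => ?_
  have hdeg : (monomial s (1 : A)).IsHomogeneous d := by
    refine isHomogeneous_monomial _ ?_
    rw [Finsupp.degree_eq_weight_one]
    exact hP (mem_support_iff.mp hs)
  rw [show monomial s (coeff s P) = C (coeff s P) * monomial s 1 by rw [C_mul_monomial, mul_one], map_mul, aeval_C]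
  obtain ⟨y, hy⟩ := Ideal.mem_span_range_iff_exists_fun.mp (hmem s)
  rw [← hy, map_sum, Finset.sum_mul]
  refine sum_mem fun i _ => ⟨C (y i) * (X i * monomial s 1), ?_, by simp [mul_assoc]⟩
  rw [add_comm]
  exact ((isHomogeneous_X A i).mul hdeg).C_mul _

/-- The value of a multiple by a regular element modulo the ideal. -/
lemma exists_form_of_mul_eq (g : Fin n → A) (c : A)
    (hc : ∀ x, c * x ∈ Ideal.span (Set.range g) → x ∈ Ideal.span (Set.range g))
    (hlin : ∀ d, ∀ F : MvPolynomial (Fin n) A, F.IsHomogeneous d → aeval g F = 0 → F ∈ rel g) :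
    ∀ d, ∀ z : A, ∀ Q : MvPolynomial (Fin n) A, Q.IsHomogeneous d → c * z = aeval g Q →
      ∃ P : MvPolynomial (Fin n) A, P.IsHomogeneous d ∧ z = aeval g P := by
  intro d
  induction d with
  | zero => exact fun z _ _ _ => ⟨C z, isHomogeneous_C _ _, by simp⟩
  | succ d ih =>
    intro z Q hQ hz
    obtain ⟨Qi, hQi, rfl⟩ := exists_euler hQ
    obtain ⟨P, hP, rfl⟩ := ih z (∑ i, C (g i) * Qi i)
      ((IsHomogeneous.sum _ _ _ fun i _ => (hQi i).C_mul _)) (by rw [hz]; simp)
    have hD : C c * P - ∑ i, C (g i) * Qi i ∈ rel g := by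
      refine hlin d _ ((hP.C_mul _).sub (IsHomogeneous.sum _ _ _ fun i _ => (hQi i).C_mul _)) ?_
      rw [map_sub, map_mul, aeval_C, Algebra.algebraMap_self, RingHom.id_apply, hz]
      simp
    have hcP : C c * P ∈ (Ideal.span (Set.range g)).map (C : A →+* MvPolynomial (Fin n) A) := by
      rw [← sub_add_cancel (C c * P) (∑ i, C (g i) * Qi i)]
      exact add_mem (rel_le_map g hD)
        (sum_mem fun i _ => Ideal.mul_mem_right _ _ (Ideal.mem_map_of_mem _ (Ideal.subset_span ⟨i, rfl⟩)))
    refine exists_form_succ g hP fun s => hc _ ?_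
    rw [← coeff_C_mul]
    exact mem_map_C_iff.mp hcP s

/-- Linear type. -/
theorem mem_rel : ∀ {n : ℕ} (a : Fin n → A), IsWeaklyRegular A (List.ofFn a) → ∀ d,
    ∀ F : MvPolynomial (Fin n) A, F.IsHomogeneous d → aeval a F = 0 → F ∈ rel a := by
  intro n
  induction n with
  | zero =>
    intro a _ d F _ h
    obtain ⟨c, rfl⟩ := C_surjective (Fin 0) F
    rw [aeval_C] at h
    rw [show c = 0 by simpa using h, map_zero]
    exact zero_mem _
  | succ n ih =>
    intro a ha
    obtain ⟨hg, hlast⟩ := (GrothLib.KoszulH1.isWeaklyRegular_snoc_iff a).mp ha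
    set g : Fin n → A := a ∘ Fin.castSucc with hgdef
    intro d
    induction d with
    | zero =>
      intro F hF h
      rw [← totalDegree_zero_iff_isHomogeneous, totalDegree_eq_zero_iff_eq_C] at hF
      rw [hF, aeval_C] at h
      rw [hF, show coeff 0 F = 0 by simpa using h, map_zero]
      exact zero_mem _
    | succ d ihd =>
      intro F hF h
      obtain ⟨G, H, hG, hH, rfl⟩ := exists_split_last hF
      have e : aeval g G + a (Fin.last n) * aeval a H = 0 := by
        rw [map_add, map_mul, aeval_rename, aeval_X, ← hgdef] at h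
        exact h
      obtain ⟨Q, hQ, hQH⟩ := exists_form_of_mul_eq g (a (Fin.last n))
        (fun x hx => by
          simpa [Ideal.smul_eq_mul] using hlast x (by simpa [Ideal.smul_eq_mul] using hx))
        (ih g hg) (d + 1) (aeval a H) (-G) hG.neg (by rw [map_neg]; linear_combination e)
      obtain ⟨Qi, hQi, rfl⟩ := exists_euler hQ
      set S := ∑ i, C (g i) * rename Fin.castSucc (Qi i) with hS
      have hSd : S.IsHomogeneous d :=
        IsHomogeneous.sum _ _ _ fun i _ => ((IsHomogeneous.rename_isHomogeneous (f := Fin.castSucc) (hQi i))).C_mul _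
      have h1 : H - S ∈ rel a := by
        refine ihd _ (hH.sub hSd) ?_
        rw [map_sub, hQH, sub_eq_zero, hS, map_sum, map_sum]
        refine Finset.sum_congr rfl fun i _ => ?_
        rw [map_mul, map_mul, aeval_X, aeval_C, aeval_rename, ← hgdef]
        simp
      have h2 : rename Fin.castSucc (G + C (a (Fin.last n)) * ∑ i, X i * Qi i) ∈ rel a := by
        refine rename_rel a (Ideal.mem_map_of_mem _ (ih g hg (d + 1) _ (hG.add (hQ.C_mul _)) ?_))
        rw [map_add, map_mul, aeval_C, Algebra.algebraMap_self, RingHom.id_apply, ← hQH, e]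
      have key : rename Fin.castSucc G + X (Fin.last n) * H =
          X (Fin.last n) * (H - S) + rename Fin.castSucc (G + C (a (Fin.last n)) * ∑ i, X i * Qi i) +
            ∑ i, (C (g i) * X (Fin.last n) - C (a (Fin.last n)) * X i.castSucc) * rename Fin.castSucc (Qi i) := by
        simp only [hS, map_add, map_mul, map_sum, rename_C, rename_X, sub_mul, Finset.sum_sub_distrib, mul_sub,
          Finset.mul_sum]
        simp only [mul_assoc, mul_comm (X (Fin.last n)) _, mul_left_comm (X (Fin.last n)) _]
        abel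
      rw [key]
      exact add_mem (add_mem (Ideal.mul_mem_left _ _ h1) h2)
        (sum_mem fun i _ => Ideal.mul_mem_right _ _ (Ideal.subset_span ⟨i.castSucc, Fin.last n, rfl⟩))

end GrothLib.LinearType
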