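import Mathlib.NumberTheory.Bernoulli
import Mathlib.NumberTheory.ZetaValues
import Mathlib.RingTheory.PowerSeries.Inverse
import Mathlib.RingTheory.PowerSeries.Exp
import Mathlib.Algebra.Polynomial.Eval.Degree

/-!
# The Todd product of Moret-Bailly
-/

open PowerSeries Finset

namespace GrothLib.MoretBailly

local notation "B" => bernoulli'PowerSeries ℚ

lemma exp_sub_one_ne_zero : exp ℚ - 1 ≠ 0 := by
  intro h
  have := congrArg (coeff 1) h
  simp [coeff_exp, coeff_one] at this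

lemma bernoulliPowerSeries_mul_exp : bernoulliPowerSeries ℚ * exp ℚ = B := by
  refine mul_right_cancel₀ exp_sub_one_ne_zero ?_
  rw [bernoulli'PowerSeries_mul_exp_sub_one, mul_right_comm, bernoulliPowerSeries_mul_exp_sub_one]

lemma rescale_neg_one : rescale (-1 : ℚ) B = bernoulliPowerSeries ℚ := by
  ext n
  rw [coeff_rescale]
  simp only [bernoulli'PowerSeries, bernoulliPowerSeries, coeff_mk, Algebra.algebraMap_self, RingHom.id_apply,
    bernoulli]
  ring

/-- `B(-q x) e^{q x} = B(q x)`. -/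
lemma rescale_neg_mul_exp (q : ℚ) : rescale (-q) B * rescale q (exp ℚ) = rescale q B := by
  rw [show -q = (-1 : ℚ) * q by ring, ← rescale_rescale, rescale_neg_one, ← map_mul, bernoulliPowerSeries_mul_exp]

lemma product_eq (A P : PowerSeries ℚ) (q c : ℚ) :
    A * rescale (-q) B * P * rescale (q + c) (exp ℚ) = A * P * rescale c (exp ℚ) * rescale q B := by
  rw [← exp_mul_exp_eq_exp_add, ← rescale_neg_mul_exp q]
  ring

/-- The part not depending on `p`. -/
noncomputable def F (n : ℕ) (d c : ℚ) : PowerSeries ℚ :=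
  (rescale (-d) B)⁻¹ * B ^ (n + 1) * rescale c (exp ℚ)

lemma product_eq_F (n : ℕ) (d q c : ℚ) :
    (rescale (-d) B)⁻¹ * rescale (-q) B * B ^ (n + 1) * rescale (q + c) (exp ℚ) =
      F n d c * rescale q B :=
  product_eq _ _ q c

lemma coeff_B (j : ℕ) : coeff j B = bernoulli' j / (j.factorial : ℚ) := by
  simp [bernoulli'PowerSeries]

lemma coeff_F_mul (n : ℕ) (f : PowerSeries ℚ) (q : ℚ) :
    coeff n (f * rescale q B) = ∑ i ∈ range (n + 1), coeff i f * (q ^ (n - i) * (bernoulli' (n - i) / ((n - i).factorial : ℚ))) := by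
  rw [coeff_mul, Finset.Nat.sum_antidiagonal_eq_sum_range_succ_mk]
  exact Finset.sum_congr rfl fun i _ => by rw [coeff_rescale, coeff_B]

section LowDegree

variable (f g : PowerSeries ℚ)

lemma c0 : coeff 0 (f * g) = coeff 0 f * coeff 0 g := by
  simp [coeff_mul]

lemma c1 : coeff 1 (f * g) = coeff 0 f * coeff 1 g + coeff 1 f * coeff 0 g := by
  rw [coeff_mul, Finset.Nat.sum_antidiagonal_eq_sum_range_succ_mk, sum_range_succ, sum_range_one]

lemma c2 : coeff 2 (f * g) = coeff 0 f * coeff 2 g + coeff 1 f * coeff 1 g + coeff 2 f * coeff 0 g := by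
  rw [coeff_mul, Finset.Nat.sum_antidiagonal_eq_sum_range_succ_mk, sum_range_succ, sum_range_succ, sum_range_one]

lemma c3 : coeff 3 (f * g) =
    coeff 0 f * coeff 3 g + coeff 1 f * coeff 2 g + coeff 2 f * coeff 1 g + coeff 3 f * coeff 0 g := by
  rw [coeff_mul, Finset.Nat.sum_antidiagonal_eq_sum_range_succ_mk, sum_range_succ, sum_range_succ, sum_range_succ,
    sum_range_one]

end LowDegree

lemma coeff_zero_B_pow (m : ℕ) : coeff 0 (B ^ m) = 1 := by
  induction m with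
  | zero => simp
  | succ m ih => rw [pow_succ, c0, ih, coeff_B]; simp [bernoulli'_zero]

lemma coeff_one_B_pow (m : ℕ) : coeff 1 (B ^ m) = (m : ℚ) / 2 := by
  induction m with
  | zero => simp
  | succ m ih =>
    rw [pow_succ, c1, ih, coeff_zero_B_pow, coeff_B, coeff_B]
    simp [bernoulli'_zero, bernoulli'_one]
    ring

lemma inv_mul (d : ℚ) : (rescale (-d) B)⁻¹ * rescale (-d) B = 1 := by
  refine PowerSeries.inv_mul_cancel _ ?_
  rw [← coeff_zero_eq_constantCoeff_apply, coeff_rescale, coeff_B]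
  simp [bernoulli'_zero]

lemma coeff_zero_inv (d : ℚ) : coeff 0 (rescale (-d) B)⁻¹ = 1 := by
  have h := congrArg (coeff 0) (inv_mul d)
  rw [c0, coeff_rescale, coeff_B, coeff_one] at h
  simpa [bernoulli'_zero] using h

lemma coeff_one_inv (d : ℚ) : coeff 1 (rescale (-d) B)⁻¹ = d / 2 := by
  have h := congrArg (coeff 1) (inv_mul d)
  rw [c1, coeff_rescale, coeff_rescale, coeff_B, coeff_B, coeff_one, coeff_zero_inv] at h
  simp [bernoulli'_zero, bernoulli'_one] at h
  linarith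

lemma coeff_zero_F (n : ℕ) (d c : ℚ) : coeff 0 (F n d c) = 1 := by
  rw [F, c0, c0, coeff_zero_inv, coeff_zero_B_pow, coeff_rescale, coeff_exp]
  simp

lemma coeff_one_F (n : ℕ) (d c : ℚ) : coeff 1 (F n d c) = d / 2 + ((n : ℚ) + 1) / 2 + c := by
  rw [F, c1, c1, c0, coeff_zero_inv, coeff_one_inv, coeff_zero_B_pow, coeff_one_B_pow, coeff_rescale, coeff_rescale,
    coeff_exp, coeff_exp]
  simp
  ring

/-- The sign of the Bernoulli numbers. -/
lemma bernoulli'_two_mul_sign {k : ℕ} (hk : k ≠ 0) : 0 < (-1 : ℚ) ^ (k + 1) * bernoulli' (2 * k) := by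
  have h := hasSum_zeta_nat hk
  have hpos : 0 < ∑' n : ℕ, (1 : ℝ) / (n : ℝ) ^ (2 * k) :=
    h.summable.tsum_pos (fun n => by positivity) 1 (by simp)
  rw [h.tsum_eq, bernoulli_eq_bernoulli'_of_ne_one (by omega)] at hpos
  have e : ((-1) ^ (k + 1) * (2 : ℝ) ^ (2 * k - 1) * Real.pi ^ (2 * k) * (bernoulli' (2 * k) : ℝ) / ((2 * k).factorial : ℝ)) =
      (((-1 : ℚ) ^ (k + 1) * bernoulli' (2 * k) : ℚ) : ℝ) *
        ((2 : ℝ) ^ (2 * k - 1) * Real.pi ^ (2 * k) / ((2 * k).factorial : ℝ)) := by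
    push_cast; ring
  rw [e] at hpos
  have h2 : (0 : ℝ) < (2 : ℝ) ^ (2 * k - 1) * Real.pi ^ (2 * k) / ((2 * k).factorial : ℝ) := by positivity
  exact_mod_cast (pos_iff_pos_of_mul_pos hpos).mpr h2

lemma bernoulli'_neg_of_mod_four {m : ℕ} (h : m % 4 = 0) (hm : m ≠ 0) : bernoulli' m < 0 := by
  obtain ⟨l, rfl⟩ : ∃ l, m = 2 * (2 * l) := ⟨m / 4, by omega⟩
  have := bernoulli'_two_mul_sign (k := 2 * l) (by omega)
  rw [pow_succ, pow_mul] at this
  simp at this
  linarith

lemma bernoulli'_pos_of_mod_four {m : ℕ} (h : m % 4 = 2) : 0 < bernoulli' m := by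
  obtain ⟨l, rfl⟩ : ∃ l, m = 2 * (2 * l + 1) := ⟨m / 4, by omega⟩
  have := bernoulli'_two_mul_sign (k := 2 * l + 1) (by omega)
  rw [pow_succ, pow_succ, pow_mul] at this
  simpa using this

/-- A negative monomial eventually dominates lower-degree terms. -/
lemma eventually_neg {c : ℚ} (hc : c < 0) {m : ℕ} {Q : Polynomial ℚ} (hQ : Q.natDegree < m) :
    ∃ P₀ : ℕ, ∀ p : ℕ, P₀ ≤ p → c * (p : ℚ) ^ m + Q.eval (p : ℚ) < 0 := by
  set C := ∑ i ∈ range m, |Q.coeff i|
  obtain ⟨P₀, hP₀⟩ := exists_nat_gt (C / (-c))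
  refine ⟨P₀ + 1, fun p hp => ?_⟩
  have hp1 : (1 : ℚ) ≤ p := by exact_mod_cast (by omega : 1 ≤ p)
  have hb : Q.eval (p : ℚ) ≤ C * (p : ℚ) ^ (m - 1) := by
    rw [Polynomial.eval_eq_sum_range' hQ, Finset.sum_mul]
    refine Finset.sum_le_sum fun i hi => ?_
    calc Q.coeff i * (p : ℚ) ^ i ≤ |Q.coeff i| * (p : ℚ) ^ i := by gcongr; exact le_abs_self _
      _ ≤ |Q.coeff i| * (p : ℚ) ^ (m - 1) := by
          gcongr
          have := Finset.mem_range.mp hi
          omega
  have hC : C < -c * p := by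
    have h1 : C / (-c) < p := hP₀.trans_le (by exact_mod_cast (by omega : P₀ ≤ p))
    rw [div_lt_iff₀ (by linarith)] at h1
    linarith
  have hpm : (p : ℚ) ^ m = (p : ℚ) ^ (m - 1) * p := by rw [← pow_succ, show m - 1 + 1 = m by omega]
  have hpos : (0 : ℚ) < (p : ℚ) ^ (m - 1) := by positivity
  rw [hpm]
  nlinarith [mul_lt_mul_of_pos_left hC hpos]

end GrothLib.MoretBailly
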