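import Groth.Agent.Lib.EtTrace21.Basic
import Groth.Agent.Lib.EtTrace21.Killed
import Groth.Agent.Lib.EtDer.AcyclicComp
import Groth.Agent.Lib.EtLimit.Torsion
import Groth.Prelude.Def_EtAcyc
import Groth.Agent.S0646
import Groth.Agent.S14451

/-!
# Cohomology along limits of finite étale covers of degree prime to `ℓ`
-/

set_option autoImplicit false
set_option backward.isDefEq.respectTransparency false
set_option backward.isDefEq.respectTransparency.types false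
set_option linter.style.haveILetI false
set_option linter.all false

universe u

open CategoryTheory CategoryTheory.Limits CategoryTheory.Abelian AlgebraicGeometry Opposite

noncomputable section

namespace GrothLib.ProFet18

variable {X : Scheme.{u}}

/-- Multiplication by an integer prime to the torsion is an isomorphism. -/
theorem isIso_nsmul (d : ℕ) (L : Set ℕ) (F : EtCoh.Ab X) (hF : EtAcyc.IsLTorsion L F)
    (hcop : ∀ m, EtAcyc.PrimesIn L m → Nat.Coprime m d) : IsIso (d • 𝟙 F) := by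
  haveI : Mono (d • 𝟙 F) := by
    refine Preadditive.mono_of_cancel_zero _ fun {G} a ha => ?_
    refine ObjectProperty.hom_ext _ (NatTrans.ext (funext fun V => ?_))
    ext t
    let s : EtCoh.sect F V.unop := a.hom.app V t
    have hds : d • s = 0 := by
      rw [Preadditive.comp_nsmul, Category.comp_id] at ha
      have e := map_nsmul (AddMonoidHom.mk' (fun q : G ⟶ F => q.hom.app V t) (fun _ _ => rfl)) d a
      exact e.symm.trans (congrArg (fun q : G ⟶ F => q.hom.app V t) ha)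
    change s = 0
    let R : Sieve V.unop :=
      { arrows := fun W g => F.obj.map g.op s = 0
        downward_closed := fun {W W' g} hg k => by
          show F.obj.map (k ≫ g).op s = 0
          rw [op_comp, Functor.map_comp_apply, hg, map_zero] }
    refine ((isSheaf_iff_isSheaf_of_type _ _).1
      ((sheafCompose X.smallEtaleTopology (forget AddCommGrpCat.{u + 1})).obj F).property
      R ?_).isSeparatedFor.ext fun W g (hg : F.obj.map g.op s = 0) => ?_
    · rw [GrothLib.EtSite.mem_topology_iff]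
      intro x
      obtain ⟨W, g, m, ⟨w, hw⟩, hm, hms⟩ := hF V.unop s x
      refine ⟨W, g, w, ?_, hw⟩
      have h1 : d • F.obj.map g.op s = 0 := (map_nsmul _ d s).symm.trans ((congrArg _ hds).trans (map_zero _))
      refine AddMonoid.addOrderOf_eq_one_iff.1 (Nat.dvd_one.1 ?_)
      rw [← Nat.coprime_iff_gcd_eq_one.1 (hcop m hm)]
      exact Nat.dvd_gcd (addOrderOf_dvd_of_nsmul_eq_zero hms) (addOrderOf_dvd_of_nsmul_eq_zero h1)
    · change F.obj.map g.op s = F.obj.map g.op 0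
      rw [hg, map_zero]
  haveI : Epi (d • 𝟙 F) := by
    haveI : Sheaf.IsLocallySurjective (d • 𝟙 F) := ⟨fun {V} s => by
      rw [GrothLib.EtSite.mem_topology_iff]
      intro x
      obtain ⟨W, g, m, ⟨w, hw⟩, hm, hms⟩ := hF V s x
      refine ⟨W, g, w, ⟨(Nat.gcdB m d) • F.obj.map g.op s, ?_⟩, hw⟩
      have hbez : ((m : ℤ) * Nat.gcdA m d + d * Nat.gcdB m d) = 1 := by
        rw [← Nat.gcd_eq_gcd_ab, Nat.coprime_iff_gcd_eq_one.1 (hcop m hm), Nat.cast_one]
      have e := map_nsmul (AddMonoidHom.mk' (fun q : F ⟶ F => q.hom.app (op W) ((Nat.gcdB m d) • F.obj.map g.op s))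
        (fun _ _ => rfl)) d (𝟙 F)
      refine e.trans ?_
      show d • (Nat.gcdB m d • F.obj.map g.op s) = F.obj.map g.op s
      conv_rhs => rw [← one_zsmul (F.obj.map g.op s), ← hbez, add_zsmul, mul_comm (m : ℤ), mul_zsmul,
        natCast_zsmul, hms, zsmul_zero, zero_add, mul_zsmul, natCast_zsmul]⟩
    exact Sheaf.epi_of_isLocallySurjective _
  exact isIso_of_mono_of_epi _

theorem isLTorsion_iff (ℓ : ℕ) [Fact ℓ.Prime] (F : EtCoh.Ab X) :
    EtAcyc.IsLTorsion {ℓ} F ↔ ∀ (U : X.Etale) (s : EtCoh.sect F U) (y : ↥U.left), ∃ (V : X.Etale) (φ : V ⟶ U),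
      (∃ v : ↥V.left, φ.left.base v = y) ∧ ∃ m : ℕ, (ℓ ^ m) • F.obj.map φ.op s = 0 := by
  have hℓ := (Fact.out : ℓ.Prime)
  constructor
  · intro h U s y
    obtain ⟨V, g, m, hv, ⟨hm0, hm⟩, hs⟩ := h U s y
    refine ⟨V, g, hv, m.primeFactorsList.length, ?_⟩
    rwa [← Nat.eq_prime_pow_of_unique_prime_dvd hm0.ne' fun {d} hd hdm => hm d hd hdm]
  · intro h U s y
    obtain ⟨V, g, hv, m, hs⟩ := h U s y
    exact ⟨V, g, ℓ ^ m, hv, ⟨pow_pos hℓ.pos m, fun p hp hd =>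
      (Nat.prime_dvd_prime_iff_eq hp hℓ).1 (hp.dvd_of_dvd_pow hd)⟩, hs⟩

theorem isLTorsion_push {Y : Scheme.{u}} (f : X ⟶ Y) [IsAffineHom f] (L : Set ℕ) {F : EtCoh.Ab X}
    (hF : EtAcyc.IsLTorsion L F) : EtAcyc.IsLTorsion L ((EtCoh.push f).obj F) := by
  intro U s x
  obtain ⟨_, ⟨A, hA, rfl⟩, hxA, -⟩ := U.left.isBasis_affineOpens.exists_subset_of_mem_open
    (Set.mem_univ x) isOpen_univ
  let A₀ : U.left.Opens := A
  haveI : IsAffine A₀.toScheme := hA
  haveI : CompactSpace ((EtCoh.bc f).obj (GrothLib.EtSite.opensObj U A₀)).left :=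
    (GrothLib.EtLimit.qcqs_bc f (V := GrothLib.EtSite.opensObj U A₀) ⟨isCompact_iff_compactSpace.1 hA.isCompact,
      (inferInstance : QuasiSeparatedSpace ↥A₀.toScheme)⟩).1
  obtain ⟨m, hm, hs⟩ := GrothLib.EtBasicB.exists_primesIn_smul_eq_zero L F hF
    ((EtCoh.bc f).obj (GrothLib.EtSite.opensObj U A₀))
    (((EtCoh.push f).obj F).obj.map (GrothLib.EtSite.opensHom U A₀).op s)
  exact ⟨GrothLib.EtSite.opensObj U A₀, GrothLib.EtSite.opensHom U A₀, m, ⟨(⟨x, hxA⟩ : A₀), rfl⟩, hm, hs⟩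

theorem isIntegralHom_limit {I : Type u} [Category.{u} I] [IsCofiltered I] (D : I ⥤ Scheme.{u}) (c : Cone D)
    (hc : IsLimit c) [∀ {i j} (f : i ⟶ j), IsAffineHom (D.map f)] {S : Scheme.{u}} (h : ∀ i, D.obj i ⟶ S)
    (hh : ∀ i, IsIntegralHom (h i)) (hw : ∀ {i j} (f : i ⟶ j), D.map f ≫ h j = h i) (i₀ : I) :
    IsIntegralHom (c.π.app i₀ ≫ h i₀) := by
  haveI := isAffineHom_π_app D c hc i₀
  haveI := hh i₀
  refine IsZariskiLocalAtTarget.of_iSup_eq_top (P := @IsIntegralHom) (fun U : S.affineOpens => U.1)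
    (iSup_affineOpens_eq_top S) fun U => ?_
  let W : (D.obj i₀).Opens := h i₀ ⁻¹ᵁ U.1
  have hWaff : IsAffineOpen W := U.2.preimage (h i₀)
  let E := opensDiagram D i₀ W
  haveI : ∀ j : Over i₀, IsAffine (E.obj j) := fun j => (hWaff.preimage (D.map j.hom) :)
  haveI : IsAffine ((U.1 : S.Opens) : Scheme.{u}) := U.2
  have hcE : IsLimit (opensCone D c i₀ W) := isLimitOpensCone D c hc i₀ W
  haveI : IsAffine (((c.π.app i₀ ≫ h i₀) ⁻¹ᵁ U.1 : c.pt.Opens) : Scheme.{u}) := (U.2.preimage (c.π.app i₀ ≫ h i₀) :)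
  rw [HasAffineProperty.iff_of_isAffine (P := @IsIntegralHom)]
  refine ⟨inferInstance, fun s => ?_⟩
  obtain ⟨j, t, rfl⟩ := exists_appTop_π_eq_of_isAffine_of_isLimit E (opensCone D c i₀ W) hcE s
  have hle : D.map j.hom ⁻¹ᵁ W ≤ h j.left ⁻¹ᵁ U.1 := by
    rw [← Scheme.Hom.comp_preimage, hw]
  let g : E.obj j ⟶ (U.1 : Scheme.{u}) := (h j.left).resLE U.1 (D.map j.hom ⁻¹ᵁ W) hle
  haveI := hh j.left
  haveI : IsAffine (((D.map j.hom ⁻¹ᵁ W : (D.obj j.left).Opens)) : Scheme.{u}) := (inferInstance : IsAffine (E.obj j))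
  have hg : IsIntegralHom g := by
    have e : g = (D.obj j.left).homOfLE hle ≫ (h j.left ∣_ U.1) := by
      rw [← cancel_mono U.1.ι]; simp [g]
    rw [e]
    haveI : IsIso ((D.obj j.left).homOfLE hle) := by
      have heq : D.map j.hom ⁻¹ᵁ W = h j.left ⁻¹ᵁ U.1 := by
        rw [← hw j.hom]; exact (Scheme.Hom.comp_preimage _ _ _).symm
      exact ⟨(D.obj j.left).homOfLE heq.ge, by simp, by simp⟩
    infer_instance
  have hfac : (opensCone D c i₀ W).π.app j ≫ g = (c.π.app i₀ ≫ h i₀) ∣_ U.1 := by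
    rw [← cancel_mono U.1.ι, Category.assoc, morphismRestrict_ι]
    simp only [g, Scheme.Hom.resLE_comp_ι, opensCone_π_app, Scheme.Hom.resLE_comp_ι_assoc]
    refine congrArg (fun q => (c.π.app i₀ ⁻¹ᵁ W).ι ≫ q) ?_
    exact (congrArg (c.π.app j.left ≫ ·) (hw j.hom)).symm.trans
      ((Category.assoc _ _ _).symm.trans (congrArg (· ≫ h i₀) (c.w j.hom)))
  obtain ⟨-, hgi⟩ := (HasAffineProperty.iff_of_isAffine (P := @IsIntegralHom) (f := g)).1 hg
  rw [← hfac]
  show ((g.appTop ≫ ((opensCone D c i₀ W).π.app j).appTop).hom).IsIntegralElem _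
  obtain ⟨P, hP, hPt⟩ := hgi t
  refine ⟨P, hP, ?_⟩
  rw [CommRingCat.hom_comp, ← Polynomial.hom_eval₂, hPt, map_zero]

theorem Hpull_fst_eq_zero {A B C : Scheme.{u}} (f : A ⟶ B) (t : B ⟶ C) (f₀ : A ⟶ C) (w : f ≫ t = f₀)
    [PreservesFiniteLimits (EtCoh.pull f)] [PreservesFiniteLimits (EtCoh.pull t)]
    {i₀ : PreservesFiniteLimits (EtCoh.pull f₀)} (G : EtCoh.Ab C) (n : ℕ) (x : EtCoh.H C G n)
    (h : @EtCore.Hpull A C f₀ i₀ G n x = 0) :
    EtCore.Hpull f ((EtCoh.pull t).obj G) n (EtCore.Hpull t G n x) = 0 := by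
  have h1 := GrothLib.EtDer.HpullVia_Hpull f t f₀ w G n x
  rw [h, GrothLib.EtDer.MV.HpullVia_apply] at h1
  exact (GrothLib.EtDer.bijective_comp_mk₀ (((EtCore.pullComp f t).symm ≪≫ EtCore.pullCongr w).app G) n).1
    (h1.trans (Ext.zero_comp _ _ _ _ (add_zero n)).symm)

theorem main (ℓ : ℕ) [Fact ℓ.Prime] (n : ℕ)
    (S : Scheme.{u}) [CompactSpace ↥S] [QuasiSeparatedSpace ↥S]
    {ι : Type u} [Preorder ι] [IsDirected ι (· ≤ ·)] [Nonempty ι] (Xs : ιᵒᵖ ⥤ Over S)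
    (hfin : ∀ i, IsFinite (Xs.obj i).hom) (het : ∀ i, AlgebraicGeometry.Etale (Xs.obj i).hom)
    (d : ιᵒᵖ → ℕ) (hd : ∀ i, ℓ.Coprime (d i))
    (hdeg : ∀ (i : ιᵒᵖ) (Ω : Type u) [Field Ω] [IsAlgClosed Ω] (η : Spec (CommRingCat.of Ω) ⟶ S),
      Nat.card {t : Spec (CommRingCat.of Ω) ⟶ (Xs.obj i).left // t ≫ (Xs.obj i).hom = η} = d i)
    (c : Cone Xs) (hc : IsLimit c) :
    (∀ G : EtCoh.Ab S, EtAcyc.IsLTorsion {ℓ} G → Nontrivial (EtCoh.H S G n) →
      EtAcyc.IsLTorsion {ℓ} ((EtCoh.pull c.pt.hom).obj G) ∧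
        Nontrivial (EtCoh.H c.pt.left ((EtCoh.pull c.pt.hom).obj G) n)) ∧
    (∀ F : EtCoh.Ab c.pt.left, EtAcyc.IsLTorsion {ℓ} F → Nontrivial (EtCoh.H c.pt.left F n) →
      EtAcyc.IsLTorsion {ℓ} ((EtCoh.push c.pt.hom).obj F) ∧
        Nontrivial (EtCoh.H S ((EtCoh.push c.pt.hom).obj F) n)) := by
  haveI : IsCofiltered ιᵒᵖ := inferInstance
  haveI : CategoryTheory.IsConnected ιᵒᵖ := IsCofiltered.isConnected _
  let D : ιᵒᵖ ⥤ Scheme.{u} := Xs ⋙ Over.forget S
  let cD : Cone D := (Over.forget S).mapCone c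
  have hcD : IsLimit cD := isLimitOfPreserves (Over.forget S) hc
  haveI : ∀ i, IsFinite (Xs.obj i).hom := hfin
  haveI : ∀ i, Etale (Xs.obj i).hom := het
  haveI haff : ∀ ⦃a b : ιᵒᵖ⦄ (h : a ⟶ b), IsAffineHom (D.map h) := fun a b h => by
    let hb : D.obj b ⟶ S := (Xs.obj b).hom
    haveI : IsSeparated hb := (inferInstance : IsSeparated (Xs.obj b).hom)
    haveI : IsAffineHom (D.map h ≫ hb) := by
      rw [show D.map h ≫ hb = (Xs.obj a).hom from Over.w (Xs.map h)]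
      exact (inferInstance : IsAffineHom (Xs.obj a).hom)
    exact IsAffineHom.of_comp _ hb
  haveI hqc : ∀ a, CompactSpace ↥(D.obj a) := fun a =>
    QuasiCompact.compactSpace_of_compactSpace (Xs.obj a).hom
  haveI hqs : ∀ a, QuasiSeparatedSpace ↥(D.obj a) := fun a =>
    (quasiSeparatedSpace_of_quasiSeparated (Xs.obj a).hom)
  haveI hflC : ∀ a, PreservesFiniteLimits (EtCoh.pull (cD.π.app a)) := fun a => GrothLib.EtDer.pullFL _
  haveI hflD : ∀ ⦃a b : ιᵒᵖ⦄ (h : a ⟶ b), PreservesFiniteLimits (EtCoh.pull (D.map h)) :=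
    fun a b h => GrothLib.EtDer.pullFL _
  haveI := GrothLib.EtDer.pullFL c.pt.hom
  haveI : IsIntegralHom c.pt.hom := by
    haveI : ∀ {a b : ιᵒᵖ} (h : a ⟶ b), IsAffineHom (D.map h) := fun h => haff h
    have := isIntegralHom_limit D cD hcD (fun i => (Xs.obj i).hom) (fun i => inferInstance)
      (fun f => Over.w (Xs.map f)) (op (Classical.arbitrary ι))
    rwa [show cD.π.app (op (Classical.arbitrary ι)) ≫ (Xs.obj (op (Classical.arbitrary ι))).hom = c.pt.hom from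
      Over.w (c.π.app (op (Classical.arbitrary ι)))] at this
  refine ⟨fun G hG hne => ⟨GrothLib.EtDer.isLTorsion_pull c.pt.hom _ hG, ?_⟩,
    fun F hF hne => ⟨isLTorsion_push c.pt.hom _ hF, ?_⟩⟩
  · obtain ⟨α, hα⟩ := exists_ne (0 : EtCoh.H S G n)
    refine ⟨EtCore.Hpull c.pt.hom G n α, 0, fun h0 => hα ?_⟩
    let i₀ : ι := Classical.arbitrary ι
    let h₀ : D.obj (op i₀) ⟶ S := (Xs.obj (op i₀)).hom
    haveI : PreservesFiniteLimits (EtCoh.pull h₀) := GrothLib.EtDer.pullFL h₀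
    let f₀ : cD.pt ⟶ S := c.pt.hom
    haveI : PreservesFiniteLimits (EtCoh.pull f₀) := GrothLib.EtDer.pullFL f₀
    have h0' : EtCore.Hpull f₀ G n α = 0 := h0
    let α₀ := EtCore.Hpull h₀ G n α
    have hl := Groth.Agent.S0646.result D haff hqc hqs cD hcD i₀ ((EtCoh.pull h₀).obj G) n
    let e := homOfLE (le_refl i₀)
    have hz : EtCore.HpullVia (cD.π.app (op i₀)) (D.map e.op) (cD.π.app (op i₀)) (cD.w e.op)
        ((EtCoh.pull h₀).obj G) n (EtCore.Hpull (D.map e.op) _ n α₀) = 0 := by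
      rw [GrothLib.EtDer.HpullVia_Hpull]
      exact Hpull_fst_eq_zero (cD.π.app (op i₀)) h₀ f₀ (Over.w (c.π.app (op i₀))) G n α h0'
    obtain ⟨k, hk, hk0⟩ := hl.2 i₀ le_rfl _ hz
    let hik : D.obj (op k) ⟶ D.obj (op i₀) := D.map (homOfLE hk).op
    let h_k : D.obj (op k) ⟶ S := (Xs.obj (op k)).hom
    haveI : PreservesFiniteLimits (EtCoh.pull h_k) := GrothLib.EtDer.pullFL h_k
    haveI := GrothLib.EtDer.pullFL (hik ≫ D.map e.op)
    have hk1 : EtCore.Hpull (hik ≫ D.map e.op) _ n α₀ = 0 := by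
      rw [← GrothLib.EtDer.HpullVia_Hpull hik (D.map e.op) _ rfl, GrothLib.EtDer.MV.HpullVia_apply, hk0,
        Ext.zero_comp]
    have hk2 : EtCore.Hpull h_k G n α = 0 := by
      have w : (hik ≫ D.map e.op) ≫ h₀ = h_k := by
        exact (Category.assoc _ _ _).trans ((congrArg (hik ≫ ·) (Over.w (Xs.map e.op))).trans
          (Over.w (Xs.map (homOfLE hk).op)))
      rw [← GrothLib.EtDer.HpullVia_Hpull (hik ≫ D.map e.op) h₀ h_k w G n α, GrothLib.EtDer.MV.HpullVia_apply, hk1,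
        Ext.zero_comp]
    haveI : Etale h_k := (inferInstance : Etale (Xs.obj (op k)).hom)
    haveI : IsFinite h_k := (inferInstance : IsFinite (Xs.obj (op k)).hom)
    haveI : EtShriek.JCont h_k := GrothLib.Constructible.jcont h_k
    haveI := isIso_nsmul (d (op k)) {ℓ} G hG fun m hm => Nat.coprime_of_dvd fun p hp hpm hpd => by
      have h' : p = ℓ := hm.2 p hp hpm
      subst h'
      exact (hp.coprime_iff_not_dvd.1 (hd (op k))) hpd
    have h3 := GrothLib.EtTrace21.nsmul_eq_zero_of_Hpull_eq_zero h_k G n (d (op k))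
      (fun Ω _ _ ξ => hdeg (op k) Ω ξ) α hk2
    rw [← GrothLib.EtTrace21.comp_nsmul_id] at h3
    exact (GrothLib.EtDer.bijective_comp_mk₀ (asIso (d (op k) • 𝟙 G)) n).1
      (h3.trans (Ext.zero_comp _ _ _ _ (add_zero n)).symm)
  · haveI := GrothLib.EtSite.pull_preservesFiniteLimits c.pt.hom
    exact (Equiv.ofBijective _ (Groth.Agent.S14451.result c.pt.hom F
      (fun q hq => GrothLib.EtSite.isZero_Rpush_of_integral c.pt.hom F q hq) n)).nontrivial

end GrothLib.ProFet18
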