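import Mathlib

set_option autoImplicit false
set_option linter.all false
universe u

namespace GrothLib.ResCount2

open Polynomial

variable {F : Type u} [Field F]

noncomputable def pol {k : ℕ} (v : Fin k → F) : F[X] := ∑ i : Fin k, C (v i) * X ^ (i : ℕ)

theorem pol_coeff {k : ℕ} (v : Fin k → F) (i : Fin k) : (pol v).coeff i = v i := by
  rw [pol, finsetSum_coeff]
  simp only [coeff_C_mul_X_pow]
  rw [Finset.sum_eq_single i (fun b _ hb => by rw [if_neg (fun h => hb (Fin.ext h.symm))]) (by simp)]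
  simp

theorem pol_natDegree {k : ℕ} (v : Fin (k + 1) → F) : (pol v).natDegree ≤ k :=
  natDegree_sum_le_of_forall_le _ _ fun i _ => (natDegree_C_mul_X_pow_le _ _).trans (Nat.le_of_lt_succ i.isLt)

theorem pol_injective {k : ℕ} : Function.Injective (pol : (Fin k → F) → F[X]) := fun v w h =>
  funext fun i => by rw [← pol_coeff v, h, pol_coeff]

theorem natDegree_quad (a b : F) : (X ^ 2 + C b * X + C a).natDegree = 2 := by
  rw [show X ^ 2 + C b * X + C a = C 1 * X ^ 2 + C b * X + C a by rw [map_one, one_mul]]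
  exact natDegree_quadratic one_ne_zero

theorem res_quad (a b r0 r1 : F) :
    resultant (X ^ 2 + C b * X + C a) (C r1 * X + C r0) 2 1 = r0 ^ 2 - b * r0 * r1 + a * r1 ^ 2 := by
  have hd : (X ^ 2 + C b * X + C a).natDegree ≤ 2 := (natDegree_quad a b).le
  by_cases h : r1 = 0
  · subst h
    rw [map_zero, zero_mul, zero_add, resultant_add_right_deg _ _ 2 0 1 (natDegree_C r0).le,
      resultant_C_zero_right]
    simp
  · rw [show C r1 * X + C r0 = C r1 * (X + C (r0 / r1)) by rw [mul_add, ← map_mul, mul_div_cancel₀ _ h],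
      resultant_C_mul_right, resultant_X_add_C_right _ _ _ hd]
    simp only [eval_add, eval_pow, eval_X, eval_mul, eval_C]
    field_simp
    ring

variable [Fintype F]

theorem card_ne_zero : Nat.card {x : F // x ≠ 0} = Fintype.card F - 1 := by
  classical
  rw [Nat.card_eq_fintype_card, Fintype.card_subtype_compl, Fintype.card_subtype_eq]

theorem card_prod_sigma {A B : Type u} [Fintype A] [Finite B] (P : A → B → Prop) :
    Nat.card {p : A × B // P p.1 p.2} = ∑ a, Nat.card {b : B // P a b} := by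
  classical
  have := Fintype.ofFinite B
  rw [← Nat.card_sigma]
  exact Nat.card_congr
    { toFun := fun p => ⟨p.1.1, p.1.2, p.2⟩
      invFun := fun s => ⟨(s.1, s.2.1), s.2.2⟩
      left_inv := fun p => rfl
      right_inv := fun s => rfl }

theorem count_monic {n : ℕ} (h2 : 2 ≤ n) (a b : F) :
    Nat.card {g : Fin (n + 1) → F // resultant (X ^ 2 + C b * X + C a) (pol g) 2 n ≠ 0} =
      Nat.card {r : F × F // r.1 ^ 2 - b * r.1 * r.2 + a * r.2 ^ 2 ≠ 0} * Fintype.card F ^ (n - 1) := by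
  classical
  obtain ⟨k, rfl⟩ : ∃ k, n = k + 2 := ⟨n - 2, by omega⟩
  let h : F[X] := X ^ 2 + C b * X + C a
  have hd : h.natDegree = 2 := natDegree_quad a b
  let G : (F × F) × (Fin (k + 1) → F) → F[X] := fun x => C x.1.2 * X + C x.1.1 + h * pol x.2
  have hG : ∀ x, (G x).natDegree ≤ k + 2 := fun x => by
    refine (natDegree_add_le _ _).trans (max_le ?_ ?_)
    · exact natDegree_linear_le.trans (by omega)
    · exact natDegree_mul_le.trans (by rw [hd]; have := pol_natDegree x.2; omega)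
  let Ψ : (F × F) × (Fin (k + 1) → F) → (Fin (k + 3) → F) := fun x i => (G x).coeff i
  have hpol : ∀ x, pol (Ψ x) = G x := fun x => by
    ext i
    by_cases hi : i < k + 3
    · exact pol_coeff (Ψ x) ⟨i, hi⟩
    · rw [coeff_eq_zero_of_natDegree_lt ((pol_natDegree (Ψ x)).trans_lt (by omega)),
        coeff_eq_zero_of_natDegree_lt ((hG x).trans_lt (by omega))]
  have hinj : Function.Injective Ψ := by
    intro x y hxy
    have e : G x = G y := by rw [← hpol, ← hpol, hxy]
    have e2 : h * (pol x.2 - pol y.2) = C (y.1.2 - x.1.2) * X + C (y.1.1 - x.1.1) := by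
      simp only [G, map_sub] at e ⊢
      linear_combination e
    have e3 : pol x.2 - pol y.2 = 0 := by
      by_contra hne
      have h0 : h ≠ 0 := fun h0 => by rw [h0] at hd; simp at hd
      have h1 := congrArg natDegree e2
      rw [natDegree_mul h0 hne, hd] at h1
      have := natDegree_linear_le (a := y.1.2 - x.1.2) (b := y.1.1 - x.1.1)
      omega
    rw [e3, mul_zero] at e2
    have c1 := congrArg (coeff · 1) e2
    have c0 := congrArg (coeff · 0) e2
    simp [eq_comm, sub_eq_zero] at c1 c0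
    exact Prod.ext (Prod.ext c0 c1) (pol_injective (sub_eq_zero.1 e3))
  have hbij : Function.Bijective Ψ := by
    rw [Fintype.bijective_iff_injective_and_card]
    refine ⟨hinj, ?_⟩
    simp only [Fintype.card_prod, Fintype.card_pi, Finset.prod_const, Finset.card_univ, Fintype.card_fin]
    ring
  have hres : ∀ x, resultant h (pol (Ψ x)) 2 (k + 2) = x.1.1 ^ 2 - b * x.1.1 * x.1.2 + a * x.1.2 ^ 2 := fun x => by
    rw [hpol, resultant_add_mul_right _ _ _ _ _ (by have := pol_natDegree x.2; omega) hd.le,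
      show k + 2 = 1 + (k + 1) by omega, resultant_add_right_deg _ _ 2 1 (k + 1) natDegree_linear_le, res_quad]
    have : h.coeff 2 = 1 := by simp [h, coeff_X, coeff_C]
    rw [this, one_pow, one_mul]
  have e := Nat.card_congr ((Equiv.ofBijective Ψ hbij).subtypeEquiv
    (p := fun x => x.1.1 ^ 2 - b * x.1.1 * x.1.2 + a * x.1.2 ^ 2 ≠ 0)
    (q := fun g => resultant h (pol g) 2 (k + 2) ≠ 0) fun x => by
      show _ ↔ resultant h (pol (Ψ x)) 2 (k + 2) ≠ 0
      rw [hres])
  rw [← e, Nat.card_congr (Equiv.prodSubtypeFstEquivSubtypeProd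
    (p := fun r : F × F => r.1 ^ 2 - b * r.1 * r.2 + a * r.2 ^ 2 ≠ 0)), Nat.card_prod, Nat.card_fun, Nat.card_fin,
    Nat.card_eq_fintype_card (α := F)]
  rfl

theorem sum_erase_ite (u v : ℕ) [DecidableEq F] :
    ∑ x ∈ Finset.univ.erase (0 : F), (if x = 0 then u else v) = (Fintype.card F - 1) * v := by
  rw [Finset.sum_congr rfl fun x h => if_neg (Finset.ne_of_mem_erase h)]
  simp

theorem count_quartic :
    ∑ p : F × F, Nat.card {r : F × F // r.1 ^ 2 - p.2 * r.1 * r.2 + p.1 * r.2 ^ 2 ≠ 0} =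
      Fintype.card F ^ 3 * (Fintype.card F - 1) := by
  classical
  obtain ⟨m, hm⟩ : ∃ m, Fintype.card F = m + 1 := ⟨_, (Nat.sub_add_cancel Fintype.card_pos).symm⟩
  have key : ∀ r : F × F, Nat.card {p : F × F // r.1 ^ 2 - p.2 * r.1 * r.2 + p.1 * r.2 ^ 2 ≠ 0} =
      if r.2 = 0 then (if r.1 = 0 then 0 else (m + 1) ^ 2) else (m + 1) * m := by
    rintro ⟨r0, r1⟩
    dsimp only
    split_ifs with h1 h0
    · subst h1; subst h0
      simp
    · subst h1
      rw [Nat.card_congr (Equiv.subtypeUnivEquiv fun p : F × F => by simpa using h0), Nat.card_prod,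
        Nat.card_eq_fintype_card, hm]
      ring
    · let e : F × F ≃ F × F :=
        { toFun := fun p => (p.2, r0 ^ 2 - p.2 * r0 * r1 + p.1 * r1 ^ 2)
          invFun := fun q => ((q.2 - r0 ^ 2 + q.1 * r0 * r1) / r1 ^ 2, q.1)
          left_inv := fun p => Prod.ext (by field_simp; ring) rfl
          right_inv := fun q => Prod.ext rfl (by field_simp; ring) }
      rw [Nat.card_congr (e.subtypeEquiv (p := fun p => r0 ^ 2 - p.2 * r0 * r1 + p.1 * r1 ^ 2 ≠ 0) (q := fun q => q.2 ≠ 0) fun p => Iff.rfl),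
        Nat.card_congr (Equiv.subtypeProdEquivSigmaSubtype fun _ (y : F) => y ≠ 0), Nat.card_sigma,
        Finset.sum_const, Finset.card_univ, smul_eq_mul, card_ne_zero, hm]
      simp
  have hswap : ∑ p : F × F, Nat.card {r : F × F // r.1 ^ 2 - p.2 * r.1 * r.2 + p.1 * r.2 ^ 2 ≠ 0} =
      ∑ r : F × F, Nat.card {p : F × F // r.1 ^ 2 - p.2 * r.1 * r.2 + p.1 * r.2 ^ 2 ≠ 0} := by
    rw [← card_prod_sigma fun (p r : F × F) => r.1 ^ 2 - p.2 * r.1 * r.2 + p.1 * r.2 ^ 2 ≠ 0,
      ← card_prod_sigma fun (r p : F × F) => r.1 ^ 2 - p.2 * r.1 * r.2 + p.1 * r.2 ^ 2 ≠ 0]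
    exact Nat.card_congr ((Equiv.prodComm _ _).subtypeEquiv fun x => Iff.rfl)
  rw [hswap, Finset.sum_congr rfl fun r _ => key r, Fintype.sum_prod_type]
  dsimp only
  simp_rw [← Finset.add_sum_erase Finset.univ _ (Finset.mem_univ (0 : F))]
  simp [Finset.sum_add_distrib, Finset.card_univ, hm, sum_erase_ite]
  rw [Finset.sum_congr rfl fun x _ => Finset.sum_congr rfl fun y hy => if_neg (Finset.ne_of_mem_erase hy)]
  simp [hm]
  ring

theorem count_lin {n : ℕ} (hn : 0 < n) (x : F) :
    Nat.card {g : Fin (n + 1) → F // g (Fin.last n) ≠ 0 ∧ eval x (pol g) ≠ 0} =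
      (Fintype.card F - 1) ^ 2 * Fintype.card F ^ (n - 1) := by
  classical
  obtain ⟨k, rfl⟩ : ∃ k, n = k + 1 := ⟨n - 1, by omega⟩
  have hev : ∀ g : Fin (k + 2) → F, eval x (pol g) = g 0 + ∑ i : Fin (k + 1), g i.succ * x ^ (i.succ : ℕ) := by
    intro g
    simp [pol, eval_finsetSum, Fin.sum_univ_succ]
  let S : (Fin (k + 1) → F) → F := fun v => ∑ i, v i * x ^ (i.succ : ℕ)
  let e : (Fin (k + 2) → F) ≃ F × F × (Fin k → F) :=
    { toFun := fun g => (eval x (pol g), g (Fin.last (k + 1)), fun i => g i.castSucc.succ)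
      invFun := fun y => Fin.cons (y.1 - S (Fin.snoc y.2.2 y.2.1)) (Fin.snoc y.2.2 y.2.1)
      left_inv := fun g => by
        have e2 : Fin.snoc (fun i => g i.castSucc.succ) (g (Fin.last (k + 1))) = Fin.tail g := by
          funext i
          induction i using Fin.lastCases with
          | last => simp [Fin.tail]
          | cast i => simp [Fin.tail]
        dsimp only
        rw [e2, hev]
        funext i
        induction i using Fin.cases with
        | zero => simp [S, Fin.tail]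
        | succ i => simp [Fin.tail]
      right_inv := fun y => by
        obtain ⟨a, b, v⟩ := y
        refine Prod.ext ?_ (Prod.ext ?_ (funext fun i => ?_))
        · simp [hev, S]
        · show (Fin.cons (a - S (Fin.snoc v b)) (Fin.snoc v b) : Fin (k + 2) → F) (Fin.last (k + 1)) = b
          rw [← Fin.succ_last, Fin.cons_succ, Fin.snoc_last]
        · show (Fin.cons (a - S (Fin.snoc v b)) (Fin.snoc v b) : Fin (k + 2) → F) i.castSucc.succ = v i
          rw [Fin.cons_succ, Fin.snoc_castSucc] }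
  rw [Nat.card_congr (e.subtypeEquiv (p := fun g => g (Fin.last (k + 1)) ≠ 0 ∧ eval x (pol g) ≠ 0)
      (q := fun y => y.1 ≠ 0 ∧ y.2.1 ≠ 0) fun g => and_comm),
    Nat.card_congr (show {y : F × F × (Fin k → F) // y.1 ≠ 0 ∧ y.2.1 ≠ 0} ≃
      {x : F // x ≠ 0} × {x : F // x ≠ 0} × (Fin k → F) from
      { toFun := fun y => (⟨y.1.1, y.2.1⟩, ⟨y.1.2.1, y.2.2⟩, y.1.2.2)
        invFun := fun y => ⟨(y.1.1, y.2.1.1, y.2.2), y.1.2, y.2.1.2⟩
        left_inv := fun y => rfl
        right_inv := fun y => rfl }),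
    Nat.card_prod, Nat.card_prod, card_ne_zero, Nat.card_fun, Nat.card_fin, Nat.card_eq_fintype_card (α := F)]
  simp only [add_tsub_cancel_right]
  ring

theorem count_const {n : ℕ} :
    Nat.card {g : Fin (n + 1) → F // g (Fin.last n) ≠ 0} = (Fintype.card F - 1) * Fintype.card F ^ n := by
  classical
  rw [Nat.card_congr ((Fin.snocEquiv (fun _ : Fin (n + 1) => F)).symm.subtypeEquiv
      (p := fun g : Fin (n + 1) → F => g (Fin.last n) ≠ 0) (q := fun y : F × (Fin n → F) => y.1 ≠ 0) fun g => Iff.rfl),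
    Nat.card_congr (Equiv.prodSubtypeFstEquivSubtypeProd (p := fun x : F => x ≠ 0)), Nat.card_prod, card_ne_zero,
    Nat.card_fun, Nat.card_fin, Nat.card_eq_fintype_card (α := F)]

theorem count_main {n : ℕ} (h2 : 2 ≤ n) :
    Nat.card {p : (Fin 3 → F) × (Fin (n + 1) → F) // resultant (pol p.1) (pol p.2) 2 n ≠ 0} =
      Fintype.card F ^ (n + 1) * ((Fintype.card F - 1) ^ 2 * (Fintype.card F + 1)) := by
  classical
  obtain ⟨m, hm⟩ : ∃ m, Fintype.card F = m + 1 := ⟨_, (Nat.sub_add_cancel Fintype.card_pos).symm⟩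
  rw [card_prod_sigma fun (f : Fin 3 → F) (g : Fin (n + 1) → F) => resultant (pol f) (pol g) 2 n ≠ 0]
  let φ : (Fin 3 → F) → ℕ := fun f => Nat.card {g : Fin (n + 1) → F // resultant (pol f) (pol g) 2 n ≠ 0}
  let e : F × F × F ≃ (Fin 3 → F) :=
    { toFun := fun x => ![x.2.2, x.2.1, x.1]
      invFun := fun f => (f 2, f 1, f 0)
      left_inv := fun x => rfl
      right_inv := fun f => by ext i; fin_cases i <;> rfl }
  show ∑ f, φ f = _
  rw [← e.sum_comp φ, Fintype.sum_prod_type]
  have hp : ∀ c b a : F, pol (e (c, b, a)) = C a + C b * X + C c * X ^ 2 := fun c b a => by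
    show pol ![a, b, c] = _
    simp [pol, Fin.sum_univ_succ]; ring
  have hc : ∀ c : F, c ≠ 0 → ∑ y : F × F, φ (e (c, y)) = (m + 1) ^ 3 * m * (m + 1) ^ (n - 1) := by
    intro c hc
    let e' : F × F ≃ F × F := (Equiv.prodComm F F).trans ((Equiv.mulLeft₀ c hc).prodCongr (Equiv.mulLeft₀ c hc))
    rw [← e'.sum_comp fun y => φ (e (c, y))]
    have : ∀ p : F × F, φ (e (c, e' p)) =
        Nat.card {r : F × F // r.1 ^ 2 - p.2 * r.1 * r.2 + p.1 * r.2 ^ 2 ≠ 0} * (m + 1) ^ (n - 1) := by
      rintro ⟨a, b⟩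
      rw [← hm, ← count_monic h2 a b]
      refine Nat.card_congr (Equiv.subtypeEquivRight fun g => ?_)
      rw [show pol (e (c, e' (a, b))) = C c * (X ^ 2 + C b * X + C a) by
        show pol (e (c, c * b, c * a)) = _
        rw [hp, map_mul, map_mul]; ring, resultant_C_mul_left]
      exact ⟨right_ne_zero_of_mul, mul_ne_zero (pow_ne_zero _ hc)⟩
    rw [Finset.sum_congr rfl fun p _ => this p, ← Finset.sum_mul, count_quartic, hm]
    simp
  have hb : ∀ b a : F, b ≠ 0 → φ (e (0, b, a)) = m ^ 2 * (m + 1) ^ (n - 1) := by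
    intro b a hb
    have hl := count_lin (F := F) (n := n) (by omega) (-(a / b))
    rw [hm, add_tsub_cancel_right] at hl
    rw [← hl]
    refine Nat.card_congr (Equiv.subtypeEquivRight fun g => ?_)
    have hd := pol_natDegree g
    rw [hp, map_zero, zero_mul, add_zero,
      resultant_add_left_deg _ _ 1 n 1 (by rw [add_comm]; exact natDegree_linear_le),
      show C a + C b * X = C b * (X + C (a / b)) by rw [mul_add, ← map_mul, mul_div_cancel₀ _ hb, add_comm],
      resultant_C_mul_left, resultant_X_add_C_left _ _ _ hd, ← pol_coeff g (Fin.last n)]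
    simp [hb]
  have ha : ∀ a : F, φ (e (0, 0, a)) = if a = 0 then 0 else m * (m + 1) ^ n := by
    intro a
    have hd : ∀ g : Fin (n + 1) → F, resultant (pol (e (0, 0, a))) (pol g) 2 n =
        (-1) ^ (2 * n) * g (Fin.last n) ^ 2 * a ^ n := fun g => by
      rw [hp, map_zero, zero_mul, zero_mul, add_zero, add_zero, resultant_C_left, ← pol_coeff g (Fin.last n)]
      rfl
    split_ifs with h0
    · have : ∀ g : Fin (n + 1) → F, ¬ resultant (pol (e (0, 0, a))) (pol g) 2 n ≠ 0 := fun g => by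
        simp [hd, h0, show n ≠ 0 by omega]
      have := Subtype.isEmpty_of_false this
      exact Nat.card_of_isEmpty
    · have hl := count_const (F := F) (n := n)
      rw [hm, add_tsub_cancel_right] at hl
      rw [← hl]
      exact Nat.card_congr (Equiv.subtypeEquivRight fun g => by simp [hd, h0])
  rw [← Finset.add_sum_erase Finset.univ _ (Finset.mem_univ (0 : F)), Fintype.sum_prod_type,
    ← Finset.add_sum_erase Finset.univ _ (Finset.mem_univ (0 : F)),
    Finset.sum_congr rfl (fun c h => hc c (Finset.ne_of_mem_erase h)),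
    Finset.sum_congr rfl (fun b h => Finset.sum_congr rfl fun a _ => hb b a (Finset.ne_of_mem_erase h)),
    Finset.sum_congr rfl fun a _ => ha a, ← Finset.add_sum_erase Finset.univ _ (Finset.mem_univ (0 : F))]
  simp [Finset.card_univ, hm, sum_erase_ite]
  obtain ⟨k, rfl⟩ : ∃ k, n = k + 1 := ⟨n - 1, by omega⟩
  simp only [add_tsub_cancel_right]
  ring

theorem scale {n : ℕ} (f : Fin 3 → F) (g : Fin (n + 1) → F) (t s : F) :
    resultant (pol (t • f)) (pol (s • g)) 2 n = t ^ n * (s ^ 2 * resultant (pol f) (pol g) 2 n) := by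
  have e : ∀ {k} (v : Fin k → F) (r : F), pol (r • v) = C r * pol v := fun v r => by
    simp [pol, Finset.mul_sum, mul_assoc]
  rw [e, e, resultant_C_mul_left, resultant_C_mul_right]

theorem count_one {n : ℕ} (hn : Odd n) (h2 : 2 ≤ n) :
    Nat.card {p : (Fin 3 → F) × (Fin (n + 1) → F) // resultant (pol p.1) (pol p.2) 2 n = 1} =
      Fintype.card F ^ (n + 1) * ((Fintype.card F - 1) * (Fintype.card F + 1)) := by
  classical
  obtain ⟨j, rfl⟩ := hn
  let R : (Fin 3 → F) × (Fin (2 * j + 1 + 1) → F) → F := fun p => resultant (pol p.1) (pol p.2) 2 (2 * j + 1)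
  let E : {p // R p ≠ 0} ≃ {x : F // x ≠ 0} × {p // R p = 1} :=
    { toFun := fun p => (⟨R p.1, p.2⟩, ⟨((R p.1)⁻¹ • p.1.1, (R p.1) ^ j • p.1.2), by
        show resultant (pol ((R p.1)⁻¹ • p.1.1)) (pol ((R p.1) ^ j • p.1.2)) 2 (2 * j + 1) = 1
        rw [scale]
        show (R p.1)⁻¹ ^ (2 * j + 1) * (((R p.1) ^ j) ^ 2 * R p.1) = 1
        rw [inv_pow, ← pow_mul, mul_comm j 2, ← pow_succ, inv_mul_cancel₀ (pow_ne_zero _ p.2)]⟩)
      invFun := fun x => ⟨(x.1.1 • x.2.1.1, (x.1.1 ^ j)⁻¹ • x.2.1.2), by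
        show resultant (pol (x.1.1 • x.2.1.1)) (pol ((x.1.1 ^ j)⁻¹ • x.2.1.2)) 2 (2 * j + 1) ≠ 0
        rw [scale]
        exact mul_ne_zero (pow_ne_zero _ x.1.2) (mul_ne_zero (pow_ne_zero _ (inv_ne_zero (pow_ne_zero _ x.1.2)))
          (x.2.2.trans_ne one_ne_zero))⟩
      left_inv := fun p => Subtype.ext (Prod.ext (smul_inv_smul₀ p.2 _)
        (inv_smul_smul₀ (pow_ne_zero _ p.2) _))
      right_inv := fun x => by
        have hR : R (x.1.1 • x.2.1.1, (x.1.1 ^ j)⁻¹ • x.2.1.2) = x.1.1 := by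
          show resultant (pol (x.1.1 • x.2.1.1)) (pol ((x.1.1 ^ j)⁻¹ • x.2.1.2)) 2 (2 * j + 1) = _
          rw [scale]
          show x.1.1 ^ (2 * j + 1) * (((x.1.1 ^ j)⁻¹) ^ 2 * R x.2.1) = x.1.1
          rw [x.2.2, inv_pow, ← pow_mul, mul_comm j 2, mul_one, pow_succ, mul_assoc, mul_comm (x.1.1 : F),
            ← mul_assoc, mul_inv_cancel₀ (pow_ne_zero _ x.1.2), one_mul]
        refine Prod.ext (Subtype.ext hR) (Subtype.ext ?_)
        dsimp only
        rw [hR]
        exact Prod.ext (inv_smul_smul₀ x.1.2 _) (smul_inv_smul₀ (pow_ne_zero _ x.1.2) _) }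
  have h := count_main (F := F) h2
  rw [Nat.card_congr E, Nat.card_prod, card_ne_zero] at h
  have hpos : 0 < Fintype.card F - 1 := by have := Fintype.one_lt_card (α := F); omega
  refine Nat.eq_of_mul_eq_mul_left hpos (h.trans ?_)
  ring

end GrothLib.ResCount2
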