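import Groth.Agent.Lib.LC.Tight
import Mathlib

/-!
Lifting systems of parameters of a Cohen–Macaulay localization.
-/

set_option autoImplicit false
set_option maxHeartbeats 200000
universe u

open IsLocalRing

namespace Groth.Agent.Lib.SopLift4

variable {A : Type u} [CommRing A]

/-- Coset prime avoidance. -/
theorem exists_add_notMem {T : Set (Ideal A)} (hfin : T.Finite) (hp : ∀ P ∈ T, P.IsPrime) (b : A)
    (J : Ideal A) (h : ∀ P ∈ T, b ∈ P → ¬ J ≤ P) : ∃ j ∈ J, ∀ P ∈ T, b + j ∉ P := by
  classical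
  let M := {P ∈ T | ∀ Q ∈ T, P ≤ Q → P = Q}
  have hM : M.Finite := hfin.subset fun P hP => hP.1
  let F := hM.toFinset.filter fun P => b ∈ P
  let G := hM.toFinset.filter fun P => b ∉ P
  have hMprime : ∀ P ∈ hM.toFinset, P.IsPrime := fun P hP => hp P (hM.mem_toFinset.mp hP).1
  set K := J * ∏ Q ∈ G, Q with hK
  have hKnot : ∀ P ∈ F, ¬ K ≤ P := by
    intro P hP hle
    obtain ⟨hPM, hbP⟩ := Finset.mem_filter.mp hP
    rcases (hMprime P hPM).mul_le.mp hle with h1 | h1
    · exact h P (hM.mem_toFinset.mp hPM).1 hbP h1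
    · obtain ⟨Q, hQ, hQP⟩ := ((hMprime P hPM).prod_le).mp h1
      obtain ⟨hQM, hbQ⟩ := Finset.mem_filter.mp hQ
      obtain rfl := (hM.mem_toFinset.mp hQM).2 P (hM.mem_toFinset.mp hPM).1 hQP
      exact hbQ hbP
  obtain ⟨j, hjK, hjF⟩ : ∃ j ∈ K, ∀ P ∈ F, j ∉ P := by
    by_contra hcon
    push Not at hcon
    have hsub : (K : Set A) ⊆ ⋃ P ∈ (↑F : Set (Ideal A)), (P : Set A) := fun j hj => by
      obtain ⟨P, hP, hjP⟩ := hcon j hj
      exact Set.mem_biUnion hP hjP
    obtain ⟨P, hP, hle⟩ := (Ideal.subset_union_prime (s := F) (f := fun Q : Ideal A => Q) ⊤ ⊤ (fun P hP _ _ =>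
      hMprime P (Finset.mem_filter.mp hP).1)).mp hsub
    exact hKnot P hP hle
  refine ⟨j, Ideal.mul_le_left (I := J) (J := ∏ Q ∈ G, Q) hjK, fun P hP hbj => ?_⟩
  obtain ⟨P', hPP', hP'⟩ := hfin.exists_le_maximal hP
  have hP'M : P' ∈ hM.toFinset := hM.mem_toFinset.mpr ⟨hP'.1, fun Q hQ hle => le_antisymm hle (hP'.2 hQ hle)⟩
  by_cases hb : b ∈ P'
  · exact hjF P' (Finset.mem_filter.mpr ⟨hP'M, hb⟩) (by simpa using sub_mem (hPP' hbj) hb)
  · have hjP' : j ∈ P' := by
      have h1 : (∏ Q ∈ G, Q) ≤ P' :=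
        (hMprime P' hP'M).prod_le.mpr ⟨P', Finset.mem_filter.mpr ⟨hP'M, hb⟩, le_rfl⟩
      exact h1 (Ideal.mul_le_right (I := J) (J := ∏ Q ∈ G, Q) hjK)
    exact hb (by simpa using sub_mem (hPP' hbj) hjP')

theorem dim_quotient_sup_add_one_le (I : Ideal A) (x : A) (hx : ∀ P ∈ I.minimalPrimes, x ∉ P) :
    ringKrullDim (A ⧸ (I ⊔ Ideal.span {x})) + 1 ≤ ringKrullDim (A ⧸ I) := by
  rw [ringKrullDim_quotient, ringKrullDim_quotient]
  rcases isEmpty_or_nonempty (PrimeSpectrum.zeroLocus (R := A) ↑(I ⊔ Ideal.span {x})) with hE | hne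
  · rw [Order.krullDim_eq_bot, WithBot.bot_add]
    exact bot_le
  rw [Order.krullDim_eq_iSup_length, ← WithBot.coe_one, ← WithBot.coe_add, ENat.iSup_add]
  have key : ∀ l : LTSeries (PrimeSpectrum.zeroLocus (R := A) ↑(I ⊔ Ideal.span {x})),
      ((((l.length : ℕ∞) + 1 : ℕ∞)) : WithBot ℕ∞) ≤
        Order.krullDim (PrimeSpectrum.zeroLocus (R := A) (I : Set A)) := by
    intro l
    let φ : PrimeSpectrum.zeroLocus (R := A) ↑(I ⊔ Ideal.span {x}) →
        PrimeSpectrum.zeroLocus (R := A) (I : Set A) :=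
      fun P => ⟨P.1, Set.Subset.trans (SetLike.coe_subset_coe.mpr le_sup_left) P.2⟩
    have hφ : StrictMono φ := fun a b h => h
    obtain ⟨P, hP, hPle⟩ :=
      Ideal.exists_minimalPrimes_le (I := I) (J := l.head.1.asIdeal)
        (fun a ha => l.head.2 (Ideal.mem_sup_left ha))
    let P₀ : PrimeSpectrum.zeroLocus (R := A) (I : Set A) := ⟨⟨P, hP.1.1⟩, hP.1.2⟩
    have hlt : P₀ < (l.map φ hφ).head := by
      rw [LTSeries.head_map]
      refine lt_of_le_of_ne hPle fun e => hx P hP ?_
      have hxh : x ∈ l.head.1.asIdeal := l.head.2 (Ideal.mem_sup_right (Ideal.mem_span_singleton_self x))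
      exact (congrArg (fun Q : PrimeSpectrum.zeroLocus (R := A) (I : Set A) => Q.1.asIdeal) e).ge hxh
    have := Order.LTSeries.length_le_krullDim ((l.map φ hφ).cons P₀ hlt)
    simpa using this
  obtain ⟨n, hn⟩ : ∃ n : ℕ∞, Order.krullDim (PrimeSpectrum.zeroLocus (R := A) (I : Set A)) = n :=
    ⟨_, (WithBot.coe_unbot _ (by
      intro hbot
      have := key (Classical.arbitrary _)
      rw [hbot, le_bot_iff] at this
      exact WithBot.coe_ne_bot this)).symm⟩
  rw [hn] at key ⊢
  exact WithBot.coe_le_coe.mpr (iSup_le fun l => WithBot.coe_le_coe.mp (key l))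

variable [IsNoetherianRing A] [IsLocalRing A] (p : Ideal A) [p.IsPrime]

theorem exists_lift [LocCoh.IsCohenMacaulayLocalRing (Localization.AtPrime p)] (s : ℕ)
    (hs : ringKrullDim (Localization.AtPrime p) = s) (t : Fin s → Localization.AtPrime p)
    (ht : ∀ i, t i ∈ IsLocalRing.maximalIdeal (Localization.AtPrime p))
    (hsop : ringKrullDim (Localization.AtPrime p ⧸ Ideal.span (Set.range t)) = 0) :
    ∃ x a : Fin s → A, (∀ i, x i ∈ p) ∧ (∀ i, a i ∉ p) ∧
      ringKrullDim (A ⧸ Ideal.span (Set.range x)) + (s : WithBot ℕ∞) = ringKrullDim A ∧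
      ∀ i : Fin s, algebraMap A (Localization.AtPrime p) (x i) -
          algebraMap A (Localization.AtPrime p) (a i) * t i ∈
        Ideal.span (t '' {j : Fin s | j < i}) := by
  classical
  have hCM := GrothLib.TightSop.cm_of_inst s
    (LocCoh.IsCohenMacaulayLocalRing.supportDim_eq_depth (R := Localization.AtPrime p)) hs
  have hofList : Ideal.ofList (List.ofFn t) = Ideal.span (Set.range t) := by
    rw [Ideal.ofList]
    congr 1
    ext z
    simp [List.mem_ofFn]
  have hreg : RingTheory.Sequence.IsWeaklyRegular (Localization.AtPrime p) (List.ofFn t) := by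
    let e : (Localization.AtPrime p ⧸ (⊥ : Ideal (Localization.AtPrime p))) ≃ₗ[Localization.AtPrime p]
        Localization.AtPrime p := Submodule.quotEquivOfEqBot ⊥ rfl
    refine (e.isWeaklyRegular_congr _).1 (GrothLib.CMFree.isWeaklyRegular_of_dim (List.ofFn t)
      (fun r hr => by obtain ⟨i, rfl⟩ := List.mem_ofFn.mp hr; exact ht i) ⊥ s bot_le hCM.depth
      fun m hm => ?_)
    rw [bot_sup_eq, hofList, hsop, zero_add, List.length_ofFn] at hm
    exact_mod_cast hm
  suffices hk : ∀ k ≤ s, ∃ x a : Fin s → A, (∀ i : Fin s, (i : ℕ) < k → x i ∈ p ∧ a i ∉ p ∧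
      algebraMap A (Localization.AtPrime p) (x i) -
          algebraMap A (Localization.AtPrime p) (a i) * t i ∈ Ideal.span (t '' {j : Fin s | j < i})) ∧
      ringKrullDim (A ⧸ Ideal.span (x '' {j : Fin s | (j : ℕ) < k})) + (k : WithBot ℕ∞) ≤
        ringKrullDim A by
    obtain ⟨x, a, h1, h2⟩ := hk s le_rfl
    have hset : x '' {j : Fin s | (j : ℕ) < s} = Set.range x := by
      rw [← Set.image_univ]
      congr 1
      ext j
      simp
    rw [hset] at h2
    refine ⟨x, a, fun i => (h1 i i.2).1, fun i => (h1 i i.2).2.1, le_antisymm h2 ?_,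
      fun i => (h1 i i.2).2.2⟩
    have h3 := ringKrullDim_le_ringKrullDim_quotient_add_encard (Set.range x) (by
      rintro _ ⟨i, rfl⟩
      rw [IsLocalRing.ringJacobson_eq_maximalIdeal]
      exact le_maximalIdeal (‹p.IsPrime›).ne_top (h1 i i.2).1)
    refine h3.trans (add_le_add le_rfl ?_)
    have : (Set.range x).encard ≤ (s : ℕ∞) := by
      rw [← Set.image_univ]
      refine (Set.encard_image_le _ _).trans ?_
      rw [Set.encard_univ, ENat.card_eq_coe_fintype_card, Fintype.card_fin]
    exact_mod_cast this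
  intro k
  induction k with
  | zero =>
    intro _
    refine ⟨fun _ => 0, fun _ => 0, fun i hi => absurd hi (Nat.not_lt_zero _), ?_⟩
    rw [Nat.cast_zero, add_zero]
    exact ringKrullDim_le_of_surjective _ Ideal.Quotient.mk_surjective
  | succ k ih =>
    intro hk
    obtain ⟨x, a, hxa, hdim⟩ := ih (Nat.le_of_succ_le hk)
    let i : Fin s := ⟨k, hk⟩
    set I := Ideal.span (x '' {j : Fin s | (j : ℕ) < k}) with hI
    obtain ⟨b, c, hbc⟩ := IsLocalization.exists_mk'_eq p.primeCompl (t i)
    have hbc' : algebraMap A (Localization.AtPrime p) b =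
        algebraMap A (Localization.AtPrime p) c * t i := by
      rw [← hbc, mul_comm, IsLocalization.mk'_spec]
    have hbp : b ∈ p := by
      rw [← IsLocalization.AtPrime.to_map_mem_maximal_iff (Localization.AtPrime p) p b, hbc']
      exact Ideal.mul_mem_left _ _ (ht i)
    set IC := Ideal.span (t '' {j : Fin s | j < i}) with hIC
    have hICle : IC ≤ maximalIdeal (Localization.AtPrime p) := by
      rw [hIC, Ideal.span_le]
      rintro _ ⟨j, -, rfl⟩
      exact ht j
    set J := IC.comap (algebraMap A (Localization.AtPrime p)) with hJ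
    have hIJ : I ≤ J := by
      rw [hI, Ideal.span_le]
      rintro _ ⟨j, hj, rfl⟩
      rw [SetLike.mem_coe, hJ, Ideal.mem_comap,
        show algebraMap A (Localization.AtPrime p) (x j) =
          (algebraMap A (Localization.AtPrime p) (x j) -
            algebraMap A (Localization.AtPrime p) (a j) * t j) +
          algebraMap A (Localization.AtPrime p) (a j) * t j by ring]
      refine add_mem (Ideal.span_mono (Set.image_mono fun l (hl : l < j) => hl.trans hj) (hxa j hj).2.2)
        (Ideal.mul_mem_left _ _ (Ideal.subset_span ⟨j, hj, rfl⟩))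
    have hti : ∀ q ∈ IC.minimalPrimes, t i ∉ q := by
      intro q hq hmem
      have hr := hreg.regular_mod_prev k (by rw [List.length_ofFn]; exact hk)
      have e : Ideal.ofList ((List.ofFn t).take k) = IC := by
        rw [Ideal.ofList, hIC]
        congr 1
        ext z
        simp only [List.mem_take_iff_getElem, List.getElem_ofFn, List.length_ofFn, Set.mem_image,
          Set.mem_setOf_eq]
        constructor
        · rintro ⟨j, hj, rfl⟩; exact ⟨⟨j, by omega⟩, by show j < k; omega, rfl⟩
        · rintro ⟨j, hj, rfl⟩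
          exact ⟨j.1, by have h1 : j.1 < k := hj; have h2 := j.2; omega, rfl⟩
      rw [List.getElem_ofFn, smul_eq_mul, Ideal.mul_top, e,
        isSMulRegular_quotient_iff_mem_of_smul_mem] at hr
      have hq' : q.map (Ideal.Quotient.mk IC) ∈ minimalPrimes (Localization.AtPrime p ⧸ IC) := by
        have h1 := Ideal.minimalPrimes_eq_comap (I := IC) ▸ hq
        obtain ⟨q', hq', rfl⟩ := h1
        rwa [Ideal.map_comap_of_surjective _ Ideal.Quotient.mk_surjective]
      refine Set.disjoint_left.mp (Ideal.disjoint_nonZeroDivisors_of_mem_minimalPrimes hq')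
        (Ideal.mem_map_of_mem _ hmem) (mem_nonZeroDivisors_iff_right.mpr fun z hz => ?_)
      obtain ⟨z, rfl⟩ := Ideal.Quotient.mk_surjective z
      rw [← map_mul, Ideal.Quotient.eq_zero_iff_mem] at hz
      exact Ideal.Quotient.eq_zero_iff_mem.mpr (hr z (by rwa [smul_eq_mul, mul_comm]))
    obtain ⟨j, hjJ, hj⟩ := exists_add_notMem (Ideal.finite_minimalPrimes_of_isNoetherianRing A I)
      (fun P hP => hP.1.1) b J (by
        intro P hP hbP hJP
        haveI := hP.1.1
        obtain ⟨Q, hQ, hQP⟩ := Ideal.exists_minimalPrimes_le hJP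
        have hQeq : Q = P := le_antisymm hQP (hP.2 ⟨hQ.1.1, hIJ.trans hQ.1.2⟩ hQP)
        subst hQeq
        obtain ⟨q, hq, hqQ⟩ := Ideal.exists_minimalPrimes_comap_eq _ Q hQ
        haveI := hq.1.1
        have : algebraMap A (Localization.AtPrime p) b ∈ q := by rw [← hqQ] at hbP; exact hbP
        rw [hbc'] at this
        rcases hq.1.1.mem_or_mem this with h | h
        · exact hq.1.1.ne_top (Ideal.eq_top_of_isUnit_mem _ h
            (IsLocalization.map_units (Localization.AtPrime p) c))
        · exact hti q hq h)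
    have hjp : j ∈ p := by
      rw [← IsLocalization.AtPrime.to_map_mem_maximal_iff (Localization.AtPrime p) p j]
      exact hICle hjJ
    refine ⟨Function.update x i (b + j), Function.update a i c, fun l hl => ?_, ?_⟩
    · rcases Nat.lt_succ_iff_lt_or_eq.mp hl with hlt | heq
      · have hne : l ≠ i := fun h => by rw [h] at hlt; exact lt_irrefl k hlt
        rw [Function.update_of_ne hne, Function.update_of_ne hne]
        exact hxa l hlt
      · obtain rfl : l = i := Fin.ext heq
        rw [Function.update_self, Function.update_self]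
        refine ⟨add_mem hbp hjp, c.2, ?_⟩
        rw [map_add, hbc', add_sub_cancel_left]
        exact hjJ
    · have hset : Function.update x i (b + j) '' {l : Fin s | (l : ℕ) < k + 1} =
          insert (b + j) (x '' {l : Fin s | (l : ℕ) < k}) := by
        ext z
        simp only [Set.mem_image, Set.mem_setOf_eq, Set.mem_insert_iff]
        constructor
        · rintro ⟨l, hl, rfl⟩
          rcases Nat.lt_succ_iff_lt_or_eq.mp hl with hlt | heq
          · have hne : l ≠ i := fun h => by rw [h] at hlt; exact lt_irrefl k hlt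
            exact .inr ⟨l, hlt, by rw [Function.update_of_ne hne]⟩
          · obtain rfl : l = i := Fin.ext heq
            exact .inl (Function.update_self _ _ _)
        · rintro (rfl | ⟨l, hl, rfl⟩)
          · exact ⟨i, Nat.lt_succ_self k, Function.update_self _ _ _⟩
          · have hne : l ≠ i := fun h => by rw [h] at hl; exact lt_irrefl k hl
            exact ⟨l, Nat.lt_succ_of_lt hl, Function.update_of_ne hne _ _⟩
      rw [hset, Ideal.span_insert, sup_comm, Nat.cast_succ, add_comm (k : WithBot ℕ∞), ← add_assoc]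
      exact (add_le_add (dim_quotient_sup_add_one_le I (b + j) hj) le_rfl).trans hdim

end Groth.Agent.Lib.SopLift4
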