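import Mathlib.LinearAlgebra.PiTensorProduct.Basic
import Mathlib.Data.Nat.Choose.Sum
import Mathlib.Algebra.Module.BigOperators
import Mathlib.Algebra.BigOperators.GroupWithZero.Action
import Mathlib.Data.Fintype.BigOperators
import Mathlib.GroupTheory.Perm.Basic
import Mathlib.Data.Fintype.Perm
import Mathlib.Algebra.BigOperators.Group.Finset.Powerset

/-!
# Polarization in tensor powers
-/

open scoped TensorProduct

universe u v

namespace GrothLib.TensorPolarize

variable {A : Type u} [CommRing A] {M : Type v} [AddCommGroup M] [Module A M] {d : ℕ}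

/-- The span of the pure powers. -/
def powSpan (A : Type u) [CommRing A] (M : Type v) [AddCommGroup M] [Module A M] (d : ℕ) :
    Submodule A (⨂[A] _ : Fin d, M) :=
  Submodule.span A (Set.range fun m : M => PiTensorProduct.tprod A fun _ : Fin d => m)

theorem polarization (f : Fin d → M) :
    ∑ σ : Equiv.Perm (Fin d), PiTensorProduct.tprod A (fun i => f (σ i)) =
      ∑ U : Finset (Fin d), ((-1 : A) ^ U.card) • PiTensorProduct.tprod A (fun _ : Fin d => ∑ i ∈ Uᶜ, f i) := by
  classical
  have h1 : ∀ U : Finset (Fin d), PiTensorProduct.tprod A (fun _ : Fin d => ∑ i ∈ Uᶜ, f i) =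
      ∑ p ∈ Finset.univ.filter (fun p : Fin d → Fin d => U ⊆ (Finset.univ.image p)ᶜ),
        PiTensorProduct.tprod A (fun l => f (p l)) := fun U => by
    rw [MultilinearMap.map_sum_finset]
    refine Finset.sum_congr ?_ fun p _ => rfl
    ext p
    simp only [Fintype.mem_piFinset, Finset.mem_compl, Finset.mem_filter, Finset.mem_univ, true_and,
      Finset.subset_iff, Finset.mem_image, not_exists]
    exact ⟨fun h x hx a ha => h a (ha ▸ hx), fun h a ha => h ha a rfl⟩
  have h3 : ∀ p : Fin d → Fin d,
      (∑ U ∈ Finset.univ.filter (fun U : Finset (Fin d) => U ⊆ (Finset.univ.image p)ᶜ), (-1 : A) ^ U.card) =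
        if Function.Bijective p then 1 else 0 := fun p => by
    rw [show Finset.univ.filter (fun U : Finset (Fin d) => U ⊆ (Finset.univ.image p)ᶜ) =
      ((Finset.univ.image p)ᶜ).powerset from by ext U; simp]
    refine (((Int.cast_sum _ _).trans (by push_cast; rfl)).symm.trans (congrArg (Int.cast : ℤ → A) (Finset.sum_powerset_neg_one_pow_card (x := (Finset.univ.image p)ᶜ)))).trans ?_
    rw [Int.cast_ite, Int.cast_one, Int.cast_zero]
    congr 1
    rw [eq_iff_iff, Finset.compl_eq_empty_iff, ← Finite.surjective_iff_bijective, Finset.eq_univ_iff_forall]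
    simp [Function.Surjective]
  simp only [h1, Finset.sum_filter, Finset.smul_sum, smul_ite, smul_zero]
  rw [Finset.sum_comm]
  simp only [← Finset.sum_filter, ← Finset.sum_smul, h3]
  simp only [ite_smul, one_smul, zero_smul]
  rw [← Finset.sum_filter]
  refine Finset.sum_bij (fun σ _ => ⇑σ) (fun σ _ => Finset.mem_filter.mpr ⟨Finset.mem_univ _, σ.bijective⟩)
    (fun σ _ τ _ h => Equiv.coe_fn_injective h) (fun p hp => ?_) fun σ _ => rfl
  exact ⟨Equiv.ofBijective p (Finset.mem_filter.mp hp).2, Finset.mem_univ _, rfl⟩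

theorem sum_perm_mem_powSpan (t : ⨂[A] _ : Fin d, M) :
    ∑ σ : Equiv.Perm (Fin d), PiTensorProduct.reindex A (fun _ : Fin d => M) σ t ∈ powSpan A M d := by
  induction t using PiTensorProduct.induction_on with
  | smul_tprod r f =>
    simp only [map_smul, PiTensorProduct.reindex_tprod, ← Finset.smul_sum]
    refine Submodule.smul_mem _ _ ?_
    rw [show (∑ σ : Equiv.Perm (Fin d), PiTensorProduct.tprod A fun i => f (σ.symm i)) =
        ∑ σ : Equiv.Perm (Fin d), PiTensorProduct.tprod A (fun i => f (σ i)) from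
      Fintype.sum_equiv (Equiv.inv _) _ _ fun σ => rfl, polarization]
    exact Submodule.sum_mem _ fun U _ => Submodule.smul_mem _ _ (Submodule.subset_span (Set.mem_range_self _))
  | add x y hx hy => simp only [map_add, Finset.sum_add_distrib]; exact add_mem hx hy

theorem mem_powSpan_of_isUnit (hd : IsUnit ((d.factorial : ℕ) : A)) {t : ⨂[A] _ : Fin d, M}
    (ht : ∀ σ : Equiv.Perm (Fin d), PiTensorProduct.reindex A (fun _ : Fin d => M) σ t = t) :
    t ∈ powSpan A M d := by
  have h := sum_perm_mem_powSpan (A := A) t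
  simp only [ht, Finset.sum_const, Finset.card_univ, Fintype.card_perm, Fintype.card_fin] at h
  obtain ⟨u, hu⟩ := hd
  have h' := Submodule.smul_mem _ ((u⁻¹ : Aˣ) : A) h
  rwa [← Nat.cast_smul_eq_nsmul A, ← hu, smul_smul, Units.inv_mul, one_smul] at h'

end GrothLib.TensorPolarize
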