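import Mathlib.RingTheory.PowerSeries.Exp
import Mathlib.RingTheory.PowerSeries.Derivative
import Mathlib.RingTheory.PowerSeries.NoZeroDivisors
import Mathlib.RingTheory.Binomial
import Mathlib.Tactic.LinearCombination
import Mathlib.Tactic.FieldSimp
import Mathlib.Algebra.Ring.GeomSum

/-!
# The Todd series
-/

open PowerSeries

namespace GrothLib.ToddSeries

variable {f : PowerSeries ℚ}

lemma exists_exp_eq : ∃ u : PowerSeries ℚ, exp ℚ - 1 = X * u ∧ constantCoeff u = 1 := by
  refine ⟨PowerSeries.mk fun n => coeff (n + 1) (exp ℚ), ?_, ?_⟩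
  · ext n
    rcases n with _ | n
    · simp
    · simp [coeff_succ_X_mul]
  · rw [← coeff_zero_eq_constantCoeff_apply, coeff_mk]
    simp

lemma constantCoeff_eq_one (hf : f * (exp ℚ - 1) = X * exp ℚ) : constantCoeff f = 1 := by
  obtain ⟨u, hu, hu1⟩ := exists_exp_eq
  rw [hu, mul_left_comm] at hf
  have := congrArg constantCoeff (mul_left_cancel₀ X_ne_zero hf)
  simpa [hu1] using this

lemma X_mul_deriv (hf : f * (exp ℚ - 1) = X * exp ℚ) : X * d⁄dX ℚ f = f + X * f - f ^ 2 := by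
  have hd := congrArg (d⁄dX ℚ) hf
  simp only [Derivation.leibniz, map_sub, derivative_exp, Derivation.map_one_eq_zero, derivative_X,
    smul_eq_mul, sub_zero] at hd
  have hne : X * exp ℚ ≠ 0 := mul_ne_zero X_ne_zero fun h => by simpa using congrArg constantCoeff h
  refine mul_left_cancel₀ hne ?_
  linear_combination (X * f) * hd - (X * d⁄dX ℚ f) * hf

lemma coeff_X_mul_deriv (g : PowerSeries ℚ) (n : ℕ) : coeff n (X * d⁄dX ℚ g) = (n : ℚ) * coeff n g := by
  rcases n with _ | n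
  · simp
  · rw [coeff_succ_X_mul, coeff_derivative]
    push_cast
    ring

lemma deriv_rescale_exp (m : ℚ) : d⁄dX ℚ (rescale m (exp ℚ)) = C m * rescale m (exp ℚ) := by
  ext n
  rw [coeff_derivative, coeff_rescale, coeff_C_mul, coeff_rescale, coeff_exp, coeff_exp, Nat.factorial_succ]
  simp only [eq_ratCast, Rat.cast_id]
  push_cast
  field_simp
  ring

lemma choose_succ (r : ℤ) (n : ℕ) : Ring.choose r (n + 1) * ((n : ℤ) + 1) = r * Ring.choose (r - 1) n := by
  have h1 := Ring.descPochhammer_eq_factorial_smul_choose r (n + 1)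
  have h2 := Ring.descPochhammer_eq_factorial_smul_choose (r - 1) n
  have h3 : (descPochhammer ℤ (n + 1)).smeval r = r * (descPochhammer ℤ n).smeval (r - 1) := by
    rw [← Polynomial.eval_eq_smeval, ← Polynomial.eval_eq_smeval, descPochhammer_succ_left]
    simp
  rw [h1, h2, nsmul_eq_mul, nsmul_eq_mul, Nat.factorial_succ] at h3
  push_cast at h3
  refine mul_left_cancel₀ (show (n.factorial : ℤ) ≠ 0 by exact_mod_cast Nat.factorial_ne_zero n) ?_
  linear_combination h3

/-- `[tⁿ] e^{mt} f^{n+1}` is binomial. -/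
theorem coeff_exp_mul_pow (f : PowerSeries ℚ) (hf : f * (exp ℚ - 1) = X * exp ℚ) (m : ℤ) (n : ℕ) :
    coeff n (rescale (m : ℚ) (exp ℚ) * f ^ (n + 1)) = ((Ring.choose (m + n : ℤ) n : ℤ) : ℚ) := by
  induction n with
  | zero =>
    have : constantCoeff (rescale (m : ℚ) (exp ℚ)) = 1 := by
      rw [← coeff_zero_eq_constantCoeff_apply, coeff_rescale]; simp
    simp [constantCoeff_eq_one hf, coeff_zero_eq_constantCoeff_apply, this]
  | succ n ih =>
    set E := rescale (m : ℚ) (exp ℚ)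
    have hE := deriv_rescale_exp (m : ℚ)
    have hXd : X * d⁄dX ℚ (E * f ^ (n + 1)) =
        C (m : ℚ) * (X * (E * f ^ (n + 1))) + C ((n : ℚ) + 1) *
          (E * f ^ (n + 1) + X * (E * f ^ (n + 1)) - E * f ^ (n + 1 + 1)) := by
      rw [Derivation.leibniz, Derivation.leibniz_pow, hE, map_add, map_natCast, map_one, Nat.add_sub_cancel]
      simp only [smul_eq_mul, nsmul_eq_mul, Nat.cast_add, Nat.cast_one]
      linear_combination ((n : PowerSeries ℚ) + 1) * E * f ^ n * X_mul_deriv hf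
    have h := congrArg (coeff (n + 1)) hXd
    rw [coeff_X_mul_deriv, map_add, coeff_C_mul, coeff_succ_X_mul, ih, coeff_C_mul, map_sub, map_add,
      coeff_succ_X_mul, ih] at h
    have hc := congrArg (fun z : ℤ => (z : ℚ)) (choose_succ (m + (n + 1 : ℕ)) n)
    simp only [Nat.cast_add, Nat.cast_one, show (m + ((n : ℤ) + 1) - 1) = m + n by ring] at hc
    push_cast at h hc ⊢
    have hn : ((n : ℚ) + 1) ≠ 0 := by positivity
    refine mul_left_cancel₀ hn ?_
    linear_combination h - hc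

theorem eq_of_coeff_pow (f g : PowerSeries ℚ) (hf : ∀ n, coeff n (f ^ (n + 1)) = 1)
    (hg : ∀ n, coeff n (g ^ (n + 1)) = 1) : f = g := by
  have hlin : ∀ (p : PowerSeries ℚ) (n k : ℕ), constantCoeff p = 1 → 0 < n → ∀ q : PowerSeries ℚ,
      constantCoeff q = 1 → (∀ i < n, coeff i p = coeff i q) →
        coeff n (p ^ k) - coeff n (q ^ k) = (k : ℚ) * (coeff n p - coeff n q) := by
    intro p n k hp hn q hq hlow
    have hdvd : X ^ n ∣ p - q := X_pow_dvd_iff.mpr fun i hi => by rw [map_sub, hlow i hi, sub_self]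
    obtain ⟨r, hr⟩ := hdvd
    obtain ⟨s, hs⟩ : ∃ s, p ^ k - q ^ k = X ^ n * (r * s) ∧ constantCoeff s = (k : ℚ) := by
      refine ⟨∑ i ∈ Finset.range k, p ^ i * q ^ (k - 1 - i), ?_, ?_⟩
      · rw [← geom_sum₂_mul p q k, hr]; ring
      · simp [hp, hq]
    rw [← map_sub, hs.1, ← map_sub, hr, coeff_X_pow_mul' , coeff_X_pow_mul', if_pos le_rfl, if_pos le_rfl, Nat.sub_self,
      coeff_zero_eq_constantCoeff_apply, coeff_zero_eq_constantCoeff_apply, map_mul, hs.2]
    ring
  have h0 : ∀ p : PowerSeries ℚ, (∀ n, coeff n (p ^ (n + 1)) = 1) → constantCoeff p = 1 := fun p hp => by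
    simpa [coeff_zero_eq_constantCoeff_apply] using hp 0
  ext n
  induction n using Nat.strong_induction_on with
  | _ n ih =>
    rcases Nat.eq_zero_or_pos n with rfl | hn
    · rw [coeff_zero_eq_constantCoeff_apply, coeff_zero_eq_constantCoeff_apply, h0 f hf, h0 g hg]
    · have := hlin f n (n + 1) (h0 f hf) hn g (h0 g hg) ih
      rw [hf, hg, sub_self] at this
      rcases mul_eq_zero.mp this.symm with h | h
      · exact absurd h (by positivity)
      · exact sub_eq_zero.mp h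

theorem exists_todd : ∃ g : PowerSeries ℚ, g * (exp ℚ - 1) = X * exp ℚ := by
  obtain ⟨u, hu, hu1⟩ := exists_exp_eq
  refine ⟨exp ℚ * u⁻¹, ?_⟩
  rw [hu, show exp ℚ * u⁻¹ * (X * u) = X * exp ℚ * (u⁻¹ * u) by ring,
    PowerSeries.inv_mul_cancel _ (by rw [hu1]; exact one_ne_zero), mul_one]

theorem coeff_pow_succ_eq_one_iff (f : PowerSeries ℚ) :
    (∀ n : ℕ, coeff n (f ^ (n + 1)) = 1) ↔ f * (exp ℚ - 1) = X * exp ℚ := by
  have key : ∀ g : PowerSeries ℚ, g * (exp ℚ - 1) = X * exp ℚ → ∀ n : ℕ, coeff n (g ^ (n + 1)) = 1 := fun g hg n => by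
    simpa [Ring.choose_natCast] using coeff_exp_mul_pow g hg 0 n
  refine ⟨fun h => ?_, key f⟩
  obtain ⟨g, hg⟩ := exists_todd
  rw [eq_of_coeff_pow f g h (key g hg)]
  exact hg

end GrothLib.ToddSeries
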