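import Groth.Agent.Lib.DiagGrp.KernelIdeal
import Groth.Agent.Lib.DiagGrp.ActionTrivial
import Groth.Agent.Lib.DiagGrp.CharHom
import Mathlib.AlgebraicGeometry.Morphisms.Separated
import Mathlib.AlgebraicGeometry.Morphisms.ClosedImmersion
import Mathlib.AlgebraicGeometry.FunctionField

/-!
A split torus acting faithfully on a variety has trivial stabilisers on a dense open subset.
-/

universe u

open CategoryTheory MonoidalCategory CartesianMonoidalCategory MonObj GrpObj AlgebraicGeometry
open CategoryTheory.Limits TopologicalSpace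

namespace GrothLib.TorusGenFree16

open GrothLib.DiagGrp

/-- The locus where two morphisms from an affine scheme to a separated scheme agree is cut out by an ideal. -/
theorem exists_agree_ideal {S X : Scheme.{u}} (q : X ⟶ S) [IsSeparated q] {D : Type u} [CommRing D]
    (u v : Spec (CommRingCat.of D) ⟶ X) (h : u ≫ q = v ≫ q) :
    ∃ I : Ideal D, ∀ (C : Type u) [CommRing C] (φ : D →+* C),
      Spec.map (CommRingCat.ofHom φ) ≫ u = Spec.map (CommRingCat.ofHom φ) ≫ v ↔ ∀ z ∈ I, φ z = 0 := by
  set Δ := pullback.diagonal q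
  set w := pullback.lift u v h
  have hwf : w ≫ pullback.fst q q = u := pullback.lift_fst _ _ _
  have hws : w ≫ pullback.snd q q = v := pullback.lift_snd _ _ _
  have hcl : IsClosedImmersion (pullback.snd Δ w) := inferInstance
  obtain ⟨I, e, he⟩ := IsClosedImmersion.Spec_iff.mp hcl
  refine ⟨I, fun C _ φ => ⟨fun hφ z hz => ?_, fun hφ => ?_⟩⟩
  · have hl : (Spec.map (CommRingCat.ofHom φ) ≫ u) ≫ Δ = Spec.map (CommRingCat.ofHom φ) ≫ w := by
      apply pullback.hom_ext
      · rw [Category.assoc, Category.assoc, pullback.diagonal_fst, Category.comp_id]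
        exact (congrArg (_ ≫ ·) hwf).symm
      · rw [Category.assoc, Category.assoc, pullback.diagonal_snd, Category.comp_id, hφ]
        exact (congrArg (_ ≫ ·) hws).symm
    set t := pullback.lift _ _ hl
    obtain ⟨ψ, hψ⟩ := Spec.map_surjective (t ≫ e.hom)
    have h1 : Spec.map (CommRingCat.ofHom φ) = Spec.map ψ ≫ Spec.map (CommRingCat.ofHom (Ideal.Quotient.mk I)) := by
      rw [hψ, Category.assoc, ← he, pullback.lift_snd]
    rw [← Spec.map_comp] at h1
    have h2 := congrArg (fun F => F.hom z) (Spec.map_injective h1)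
    refine h2.trans ?_
    change ψ.hom (Ideal.Quotient.mk I z) = 0
    rw [Ideal.Quotient.eq_zero_iff_mem.mpr hz, map_zero]
  · set ψ := Ideal.Quotient.lift I φ hφ
    have h1 : Spec.map (CommRingCat.ofHom φ) =
        (Spec.map (CommRingCat.ofHom ψ) ≫ e.inv) ≫ pullback.snd Δ w := by
      rw [he, Category.assoc, Iso.inv_hom_id_assoc, ← Spec.map_comp]
      congr 1
    rw [h1]
    generalize Spec.map (CommRingCat.ofHom ψ) ≫ e.inv = t
    have h2 : pullback.snd Δ w ≫ w = pullback.fst Δ w ≫ Δ := pullback.condition.symm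
    have hu : pullback.snd Δ w ≫ u = pullback.fst Δ w := by
      exact (congrArg (_ ≫ ·) hwf).symm.trans ((Category.assoc _ _ _).symm.trans ((congrArg (· ≫ pullback.fst q q) h2).trans
        ((Category.assoc _ _ _).trans ((congrArg (_ ≫ ·) (pullback.diagonal_fst q)).trans (Category.comp_id _)))))
    have hv : pullback.snd Δ w ≫ v = pullback.fst Δ w := by
      exact (congrArg (_ ≫ ·) hws).symm.trans ((Category.assoc _ _ _).symm.trans ((congrArg (· ≫ pullback.snd q q) h2).trans
        ((Category.assoc _ _ _).trans ((congrArg (_ ≫ ·) (pullback.diagonal_snd q)).trans (Category.comp_id _)))))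
    rw [Category.assoc, Category.assoc, hu, hv]

/-- Elements of a generated ideal over a fraction field clear denominators. -/
theorem exists_smul_mem {R L : Type u} [CommRing R] [IsDomain R] [Field L] [Algebra R L] [IsFractionRing R L]
    {G : Type} [CommGroup G] (I : Ideal (MonoidAlgebra R G)) (y : MonoidAlgebra L G)
    (hy : y ∈ I.map (MonoidAlgebra.mapRingHom G (algebraMap R L))) :
    ∃ f : R, f ≠ 0 ∧ ∃ a ∈ I, MonoidAlgebra.mapRingHom G (algebraMap R L) a =
      MonoidAlgebra.single 1 (algebraMap R L f) * y := by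
  set m := MonoidAlgebra.mapRingHom G (algebraMap R L) with hm
  have hC : ∀ f : R, m (MonoidAlgebra.single 1 f) = MonoidAlgebra.single 1 (algebraMap R L f) := fun f => by
    rw [hm, MonoidAlgebra.mapRingHom_single]
  simp only [← hC]
  have clear : ∀ c : MonoidAlgebra L G, ∃ f : R, f ≠ 0 ∧ ∃ c', m c' = m (MonoidAlgebra.single 1 f) * c := by
    intro c
    induction c using MonoidAlgebra.induction_on with
    | of g =>
      refine ⟨1, one_ne_zero, MonoidAlgebra.single g 1, ?_⟩
      rw [← MonoidAlgebra.one_def, map_one, _root_.one_mul, hm, MonoidAlgebra.mapRingHom_single, map_one]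
      rfl
    | add c d hc hd =>
      obtain ⟨f, hf, c', hc'⟩ := hc
      obtain ⟨g, hg, d', hd'⟩ := hd
      refine ⟨f * g, mul_ne_zero hf hg, MonoidAlgebra.single 1 g * c' + MonoidAlgebra.single 1 f * d', ?_⟩
      rw [map_add, map_mul, map_mul, hc', hd', show (MonoidAlgebra.single (1 : G) (f * g)) =
        MonoidAlgebra.single 1 f * MonoidAlgebra.single 1 g by rw [MonoidAlgebra.single_mul_single, _root_.one_mul], map_mul]
      ring
    | smul r c hc =>
      obtain ⟨f, hf, c', hc'⟩ := hc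
      obtain ⟨a, b, hb, hab⟩ := IsFractionRing.div_surjective (A := R) r
      refine ⟨f * b, mul_ne_zero hf (nonZeroDivisors.ne_zero hb), MonoidAlgebra.single 1 a * c', ?_⟩
      rw [map_mul, hc', show (MonoidAlgebra.single (1 : G) (f * b)) =
        MonoidAlgebra.single 1 f * MonoidAlgebra.single 1 b by rw [MonoidAlgebra.single_mul_single, _root_.one_mul], map_mul]
      rw [hC a, hC b, show r • c = MonoidAlgebra.single 1 r * c by rw [Algebra.smul_def]; simp,
        show algebraMap R L a = algebraMap R L b * r by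
          rw [← hab, mul_div_cancel₀]
          exact IsFractionRing.to_map_ne_zero_of_mem_nonZeroDivisors hb,
        show (MonoidAlgebra.single (1 : G) (algebraMap R L b * r)) =
          MonoidAlgebra.single 1 (algebraMap R L b) * MonoidAlgebra.single 1 r by
            rw [MonoidAlgebra.single_mul_single, _root_.one_mul]]
      ring
  rw [Ideal.map] at hy
  induction hy using Submodule.span_induction with
  | mem z hz =>
    obtain ⟨a, ha, rfl⟩ := hz
    exact ⟨1, one_ne_zero, a, ha, by rw [← MonoidAlgebra.one_def, map_one, _root_.one_mul]⟩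
  | zero => exact ⟨1, one_ne_zero, 0, I.zero_mem, by rw [map_zero, mul_zero]⟩
  | add z w _ _ hz hw =>
    obtain ⟨f, hf, a, ha, hza⟩ := hz
    obtain ⟨g, hg, b, hb, hwb⟩ := hw
    refine ⟨f * g, mul_ne_zero hf hg, MonoidAlgebra.single 1 g * a + MonoidAlgebra.single 1 f * b,
      I.add_mem (I.mul_mem_left _ ha) (I.mul_mem_left _ hb), ?_⟩
    rw [map_add, map_mul, map_mul, hza, hwb, show (MonoidAlgebra.single (1 : G) (f * g)) =
        MonoidAlgebra.single 1 f * MonoidAlgebra.single 1 g by rw [MonoidAlgebra.single_mul_single, _root_.one_mul], map_mul]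
    ring
  | smul c z _ hz =>
    obtain ⟨f, hf, a, ha, hza⟩ := hz
    obtain ⟨g, hg, c', hc'⟩ := clear c
    refine ⟨g * f, mul_ne_zero hg hf, c' * a, I.mul_mem_left _ ha, ?_⟩
    rw [map_mul, hc', hza, smul_eq_mul, show (MonoidAlgebra.single (1 : G) (g * f)) =
        MonoidAlgebra.single 1 g * MonoidAlgebra.single 1 f by rw [MonoidAlgebra.single_mul_single, _root_.one_mul], map_mul]
    ring

section Main

variable {k : Type u} [Field k] {T X : Over (Spec (CommRingCat.of k))} [GrpObj T] {M : Type} [AddCommGroup M]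
  (e : Grp.mk T ≅ Grp.mk (Red.DS (Spec (CommRingCat.of k)) M))

/-- The point of `T` attached to a character. -/
noncomputable def pt {C : Type u} [CommRing C] (p : Spec (CommRingCat.of C) ⟶ Spec (CommRingCat.of k))
    (χ : Multiplicative M →* C) : Over.mk p ⟶ T :=
  dsPoint M p χ ≫ e.inv.hom.hom

theorem pt_one {C : Type u} [CommRing C] (p : Spec (CommRingCat.of C) ⟶ Spec (CommRingCat.of k)) :
    pt e p (1 : Multiplicative M →* C) = 1 := by
  rw [pt, map_one, MonObj.one_comp]

theorem pt_mul {C : Type u} [CommRing C] (p : Spec (CommRingCat.of C) ⟶ Spec (CommRingCat.of k))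
    (χ χ' : Multiplicative M →* C) : pt e p (χ * χ') = pt e p χ * pt e p χ' := by
  rw [pt, map_mul, MonObj.mul_comp]
  rfl

theorem pt_comp {C C' : Type u} [CommRing C] [CommRing C'] (p : Spec (CommRingCat.of C) ⟶ Spec (CommRingCat.of k))
    (p' : Spec (CommRingCat.of C') ⟶ Spec (CommRingCat.of k)) (h : C →+* C') (χ : Multiplicative M →* C)
    (hp : Spec.map (CommRingCat.ofHom h) ≫ p = p') :
    (Over.homMk (Spec.map (CommRingCat.ofHom h)) hp : Over.mk p' ⟶ Over.mk p) ≫ pt e p χ =
      pt e p' ((h : C →* C').comp χ) := by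
  rw [pt, pt, ← Category.assoc, dsPoint_comp p p' h χ hp]

theorem exists_pt {C : Type u} [CommRing C] (p : Spec (CommRingCat.of C) ⟶ Spec (CommRingCat.of k))
    (g : Over.mk p ⟶ T) : ∃ χ : Multiplicative M →* C, pt e p χ = g := by
  refine ⟨(dsPoint M p).symm (g ≫ e.hom.hom.hom), ?_⟩
  rw [pt, MulEquiv.apply_symm_apply, Category.assoc]
  have h : e.hom.hom.hom ≫ e.inv.hom.hom = 𝟙 _ := congrArg (fun t => t.hom.hom) e.hom_inv_id
  rw [h, Category.comp_id]

theorem pt_injective {C : Type u} [CommRing C] (p : Spec (CommRingCat.of C) ⟶ Spec (CommRingCat.of k)) :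
    Function.Injective (pt e p) := by
  intro χ χ' h
  apply (dsPoint M p).injective
  have h2 := congrArg (· ≫ e.hom.hom.hom) h
  have h1 : e.inv.hom.hom ≫ e.hom.hom.hom = 𝟙 _ := congrArg (fun t => t.hom.hom) e.inv_hom_id
  simpa [pt, h1] using h2

variable (a : AlgGrp.Action T X)

/-- A character fixes an affine point. -/
def Fix {C : Type u} [CommRing C] (χ : Multiplicative M →* C) (x : Spec (CommRingCat.of C) ⟶ X.left) : Prop :=
  lift (pt e (x ≫ X.hom) χ) (Over.homMk x rfl : Over.mk (x ≫ X.hom) ⟶ X) ≫ a.act = Over.homMk x rfl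

theorem fix_comp {C C' : Type u} [CommRing C] [CommRing C'] (h : C →+* C') (χ : Multiplicative M →* C)
    (x : Spec (CommRingCat.of C) ⟶ X.left) (hx : Fix e a χ x) :
    Fix e a ((h : C →* C').comp χ) (Spec.map (CommRingCat.ofHom h) ≫ x) := by
  set j : Over.mk ((Spec.map (CommRingCat.ofHom h) ≫ x) ≫ X.hom) ⟶ Over.mk (x ≫ X.hom) :=
    Over.homMk (Spec.map (CommRingCat.ofHom h)) (Category.assoc _ _ _).symm with hj
  have h1 : (Over.homMk (Spec.map (CommRingCat.ofHom h) ≫ x) rfl : Over.mk _ ⟶ X) = j ≫ Over.homMk x rfl := by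
    apply Over.OverMorphism.ext; rfl
  have h2 := pt_comp e (x ≫ X.hom) _ h χ (Category.assoc _ _ _).symm
  change lift _ _ ≫ a.act = _
  refine (congrArg₂ (fun s t => lift s t ≫ a.act) h2.symm h1).trans ?_
  refine Eq.trans ?_ h1.symm
  refine Eq.trans ?_ (congrArg (j ≫ ·) hx)
  exact ((congrArg (· ≫ a.act) (comp_lift j _ _)).symm).trans (Category.assoc _ _ _)

theorem exists_fix_ideal [IsSeparated X.hom] {R : Type u} [CommRing R] (iw : Spec (CommRingCat.of R) ⟶ X.left) :
    ∃ I : Ideal (MonoidAlgebra R (Multiplicative M)), IsSubgrpIdeal I ∧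
      ∀ (C : Type u) [CommRing C] (σ : R →+* C) (χ : Multiplicative M →* C),
        Kills I σ χ ↔ Fix e a χ (Spec.map (CommRingCat.ofHom σ) ≫ iw) := by
  set D := MonoidAlgebra R (Multiplicative M)
  set c : R →+* D := MonoidAlgebra.singleOneRingHom with hc
  let χ₀ : Multiplicative M →* D := MonoidAlgebra.of R _
  set x₀ : Spec (CommRingCat.of D) ⟶ X.left := Spec.map (CommRingCat.ofHom c) ≫ iw
  set u₀ := lift (pt e (x₀ ≫ X.hom) χ₀) (Over.homMk x₀ rfl : Over.mk (x₀ ≫ X.hom) ⟶ X) ≫ a.act
  obtain ⟨I, hI⟩ := exists_agree_ideal X.hom u₀.left x₀ (Over.w u₀)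
  have key : ∀ (C : Type u) [CommRing C] (σ : R →+* C) (χ : Multiplicative M →* C),
      Kills I σ χ ↔ Fix e a χ (Spec.map (CommRingCat.ofHom σ) ≫ iw) := by
    intro C _ σ χ
    have hσ : (evalAt σ χ).comp c = σ := RingHom.ext fun r => by simp [hc, evalAt_single]
    have hχ : ((evalAt σ χ : D →+* C) : D →* C).comp χ₀ = χ := MonoidHom.ext fun m => by
      change evalAt σ χ (MonoidAlgebra.single m 1) = χ m
      rw [evalAt_single, map_one, _root_.one_mul]
    have hx : Spec.map (CommRingCat.ofHom σ) ≫ iw = Spec.map (CommRingCat.ofHom (evalAt σ χ)) ≫ x₀ := by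
      rw [← Category.assoc, ← Spec.map_comp, ← CommRingCat.ofHom_comp, hσ]
    refine Iff.trans (hI C (evalAt σ χ)).symm ?_
    rw [hx]
    set φ := evalAt σ χ
    refine Iff.trans ?_ (iff_of_eq (congrArg (fun z => Fix e a z (Spec.map (CommRingCat.ofHom φ) ≫ x₀)) hχ))
    set j : Over.mk ((Spec.map (CommRingCat.ofHom φ) ≫ x₀) ≫ X.hom) ⟶ Over.mk (x₀ ≫ X.hom) :=
      Over.homMk (Spec.map (CommRingCat.ofHom φ)) (Category.assoc _ _ _).symm with hj
    have h1 : (Over.homMk (Spec.map (CommRingCat.ofHom φ) ≫ x₀) rfl : Over.mk _ ⟶ X) = j ≫ Over.homMk x₀ rfl := by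
      apply Over.OverMorphism.ext; rfl
    have h2 := pt_comp e (x₀ ≫ X.hom) _ φ χ₀ (Category.assoc _ _ _).symm
    have h3 : lift (pt e ((Spec.map (CommRingCat.ofHom φ) ≫ x₀) ≫ X.hom) ((φ : D →* C).comp χ₀))
        (Over.homMk (Spec.map (CommRingCat.ofHom φ) ≫ x₀) rfl : Over.mk _ ⟶ X) ≫ a.act = j ≫ u₀ :=
      (congrArg₂ (fun s t => lift s t ≫ a.act) h2.symm h1).trans
        (((congrArg (· ≫ a.act) (comp_lift j _ _)).symm).trans (Category.assoc _ _ _))
    constructor
    · intro h
      exact h3.trans ((Over.OverMorphism.ext h).trans h1.symm)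
    · intro h
      exact congrArg (fun t => t.left) (h3.symm.trans (h.trans h1))
  refine ⟨I, ⟨fun C _ σ => ?_, fun C _ σ χ χ' h h' => ?_⟩, key⟩
  · rw [key, Fix, pt_one, act_one]
  · rw [key, Fix] at h h' ⊢
    rw [pt_mul, act_mul, h', h]

include e in
theorem generic_free {r : ℕ} (hr : M ≃+ (Fin r → ℤ)) [IsSeparated X.hom] [IsIntegral X.left]
    (hfaith : ∀ (S : Over (Spec (CommRingCat.of k))) (g : S ⟶ T),
      (∀ (S' : Over (Spec (CommRingCat.of k))) (s : S' ⟶ S) (x : S' ⟶ X), lift (s ≫ g) x ≫ a.act = x) → g = 1) :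
    ∃ U : X.left.Opens, Dense (U : Set ↥X.left) ∧
      ∀ x : 𝟙_ (Over (Spec (CommRingCat.of k))) ⟶ X, x.left (IsLocalRing.closedPoint k) ∈ U →
        ∀ (S : Over (Spec (CommRingCat.of k))) (g : S ⟶ T),
          lift g (toUnit S ≫ x) ≫ a.act = toUnit S ≫ x → g = 1 := by
  classical
  set K := X.left.functionField
  set xgen : Spec (CommRingCat.of K) ⟶ X.left := X.left.fromSpecStalk (genericPoint X.left)
  have hgen : ∀ (W : X.left.Opens) (hW : IsAffineOpen W) [Nonempty W],
      Spec.map (CommRingCat.ofHom (algebraMap Γ(X.left, W) K)) ≫ hW.fromSpec = xgen := by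
    intro W hW _
    exact hW.fromSpecStalk_eq_fromSpecStalk _
  -- the ideal and the subgroup on a nonempty affine open
  have haffine : ∀ (W : X.left.Opens) (hW : IsAffineOpen W) [Nonempty W],
      ∃ (I : Ideal (MonoidAlgebra Γ(X.left, W) (Multiplicative M))) (Γ' : Subgroup (Multiplicative M)),
        (∀ (C : Type u) [CommRing C] (σ : Γ(X.left, W) →+* C) (χ : Multiplicative M →* C),
          Kills I σ χ ↔ Fix e a χ (Spec.map (CommRingCat.ofHom σ) ≫ hW.fromSpec)) ∧
        (∀ (C : Type u) [CommRing C] (h : K →+* C) (χ : Multiplicative M →* C),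
          Fix e a χ (Spec.map (CommRingCat.ofHom h) ≫ xgen) ↔ ∀ γ ∈ Γ', χ γ = 1) ∧
        ∀ (C : Type u) [CommRing C] (h : K →+* C) (χ : Multiplicative M →* C),
          Kills I (h.comp (algebraMap Γ(X.left, W) K)) χ ↔ ∀ γ ∈ Γ', χ γ = 1 := by
    intro W hW _
    obtain ⟨I, hI, hk⟩ := exists_fix_ideal e a hW.fromSpec
    obtain ⟨Γ', h1, -⟩ := exists_subgroup_of_field I (algebraMap Γ(X.left, W) K) hI (I : Set _) (Ideal.span_eq I)
      Set.univ (fun _ _ _ _ => Set.mem_univ _)
    refine ⟨I, Γ', hk, fun C _ h χ => ?_, h1⟩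
    rw [← h1 C h χ, hk, ← hgen W hW, CommRingCat.ofHom_comp, Spec.map_comp, Category.assoc]
  -- choose a chart at the generic point
  obtain ⟨W₀, hW₀, hxgen₀, -⟩ := exists_isAffineOpen_mem_and_subset
    (show genericPoint X.left ∈ (⊤ : X.left.Opens) from trivial)
  haveI : Nonempty W₀ := ⟨⟨_, hxgen₀⟩⟩
  obtain ⟨I₀, Γ₀, hk₀, hfix₀, hkill₀⟩ := haffine W₀ hW₀
  -- the generic stabiliser acts trivially
  set Q := Multiplicative M ⧸ Γ₀
  set q : Multiplicative M →* Q := QuotientGroup.mk' Γ₀
  set χk : Multiplicative M →* MonoidAlgebra k Q := (MonoidAlgebra.of k Q).comp q with hχk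
  set S₀ : Over (Spec (CommRingCat.of k)) :=
    Over.mk (Spec.map (CommRingCat.ofHom (MonoidAlgebra.singleOneRingHom : k →+* MonoidAlgebra k Q)))
  set g₀ : S₀ ⟶ T := pt e _ χk
  have htriv : ∀ (W : X.left.Opens) (hW : IsAffineOpen W) [Nonempty W],
      Fix e a ((MonoidAlgebra.of Γ(X.left, W) Q).comp q)
        (Spec.map (CommRingCat.ofHom (MonoidAlgebra.singleOneRingHom : Γ(X.left, W) →+* MonoidAlgebra Γ(X.left, W) Q)) ≫
          hW.fromSpec) := by
    intro W hW _
    obtain ⟨I, Γ', hk, hfix, hkill⟩ := haffine W hW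
    rw [← hk]
    set m : MonoidAlgebra Γ(X.left, W) Q →+* MonoidAlgebra K Q :=
      MonoidAlgebra.mapRingHom Q (algebraMap Γ(X.left, W) K) with hm
    have hinj : Function.Injective m := by
      intro s t hst
      refine MonoidAlgebra.coeff_injective (Finsupp.ext fun c => ?_)
      refine germ_injective_of_isIntegral X.left _ ((genericPoint_spec X.left).mem_open_set_iff W.isOpen |>.mpr
        (by simpa using Set.nonempty_coe_sort.mp ‹Nonempty W›)) ?_
      have h := congrArg (fun w : MonoidAlgebra K Q => w.coeff c) hst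
      simp only [hm] at h
      rw [MonoidAlgebra.coeff_mapRingHom, MonoidAlgebra.coeff_mapRingHom] at h
      exact h
    set χK : Multiplicative M →* MonoidAlgebra K Q := (MonoidAlgebra.of K Q).comp q
    have hK : Kills I ((MonoidAlgebra.singleOneRingHom : K →+* MonoidAlgebra K Q).comp (algebraMap Γ(X.left, W) K))
        χK := by
      rw [hkill, ← hfix _ MonoidAlgebra.singleOneRingHom, hfix₀]
      intro γ hγ
      change MonoidAlgebra.of K Q (q γ) = 1
      rw [show q γ = 1 from (QuotientGroup.eq_one_iff γ).mpr hγ, map_one]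
    intro z hz
    apply hinj
    rw [map_zero, ← evalAt_comp, ← hK z hz]
    congr 1
    · congr 1
      · refine RingHom.ext fun r => ?_
        simp [hm]
      · refine MonoidHom.ext fun g => ?_
        simp [hm, χK]
  have hg₀ : g₀ = 1 := by
    refine hfaith S₀ g₀ fun S' s x => ?_
    apply Over.OverMorphism.ext
    refine Scheme.hom_ext_of_forall _ _ fun P => ?_
    obtain ⟨W, hW, hPW, -⟩ := exists_isAffineOpen_mem_and_subset
      (show x.left P ∈ (⊤ : X.left.Opens) from trivial)
    haveI : Nonempty W := ⟨⟨_, hPW⟩⟩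
    obtain ⟨V, hV, hPV, hVW⟩ := exists_isAffineOpen_mem_and_subset (show P ∈ x.left ⁻¹ᵁ W from hPW)
    refine ⟨V, hPV, ?_⟩
    rw [← cancel_epi hV.isoSpec.inv]
    set C := Γ(S'.left, V)
    set v : Spec (CommRingCat.of C) ⟶ S'.left := hV.fromSpec
    have hv : hV.isoSpec.inv ≫ V.ι = v := rfl
    rw [← Category.assoc, ← Category.assoc, hv]
    set h : Γ(X.left, W) →+* C := (x.left.appLE W V hVW).hom with hh
    have hxv : Spec.map (CommRingCat.ofHom h) ≫ hW.fromSpec = v ≫ x.left :=
      IsAffineOpen.SpecMap_appLE_fromSpec x.left hW hV hVW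
    obtain ⟨h', hh'⟩ := Spec.map_surjective (v ≫ s.left)
    set ψ : Q →* C := (h'.hom : MonoidAlgebra k Q →* C).comp (MonoidAlgebra.of k Q)
    have hF := fix_comp e a (evalAt h ψ) _ _ (htriv W hW)
    have e1 : Spec.map (CommRingCat.ofHom (evalAt h ψ)) ≫ Spec.map (CommRingCat.ofHom
        (MonoidAlgebra.singleOneRingHom : Γ(X.left, W) →+* MonoidAlgebra Γ(X.left, W) Q)) ≫ hW.fromSpec =
        v ≫ x.left := by
      rw [← hxv, ← Category.assoc, ← Spec.map_comp, ← CommRingCat.ofHom_comp]
      congr 3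
      exact RingHom.ext fun r => by simp [evalAt_single]
    have e2 : ((evalAt h ψ : _ →+* C) : _ →* C).comp ((MonoidAlgebra.of Γ(X.left, W) Q).comp q) =
        ((h'.hom : MonoidAlgebra k Q →+* C) : _ →* C).comp χk := by
      refine MonoidHom.ext fun g => ?_
      change evalAt h ψ (MonoidAlgebra.single (q g) 1) = _
      rw [evalAt_single, map_one, _root_.one_mul]
      rfl
    rw [e1, e2] at hF
    let j : Over.mk ((v ≫ x.left) ≫ X.hom) ⟶ S' := Over.homMk v (by
      change v ≫ S'.hom = (v ≫ x.left) ≫ X.hom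
      rw [Category.assoc, Over.w x])
    have hjp : Spec.map (CommRingCat.ofHom h'.hom) ≫ S₀.hom = (v ≫ x.left) ≫ X.hom := by
      change Spec.map h' ≫ S₀.hom = _
      rw [hh', Category.assoc, Over.w s, Category.assoc, Over.w x]
    have e3 : pt e ((v ≫ x.left) ≫ X.hom) (((h'.hom : MonoidAlgebra k Q →+* C) : _ →* C).comp χk) = j ≫ s ≫ g₀ := by
      rw [← pt_comp e S₀.hom _ h'.hom χk hjp, ← Category.assoc j s]
      congr 1
      apply Over.OverMorphism.ext
      exact hh'
    have e4 : (Over.homMk (v ≫ x.left) rfl : Over.mk ((v ≫ x.left) ≫ X.hom) ⟶ X) = j ≫ x := by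
      apply Over.OverMorphism.ext; rfl
    have h5 : j ≫ (lift (s ≫ g₀) x ≫ a.act) = j ≫ x :=
      (Category.assoc _ _ _).symm.trans ((congrArg (· ≫ a.act) (comp_lift j _ _)).trans
        ((congrArg₂ (fun p q => lift p q ≫ a.act) e3.symm e4.symm).trans (hF.trans e4)))
    exact congrArg (fun t => t.left) h5
  have htop : ∀ g : Multiplicative M, g ∈ Γ₀ := by
    intro g
    have h1 : χk = 1 := pt_injective e _ (hg₀.trans (pt_one e _).symm)
    have h2 : MonoidAlgebra.of k Q (q g) = MonoidAlgebra.of k Q 1 := by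
      rw [map_one]; exact DFunLike.congr_fun h1 g
    exact (QuotientGroup.eq_one_iff g).mp (MonoidAlgebra.of_injective h2)
  -- spreading out
  haveI := functionField_isFractionRing_of_isAffineOpen X.left W₀ hW₀
  set L := I₀.map (MonoidAlgebra.mapRingHom (Multiplicative M) (algebraMap Γ(X.left, W₀) K)) with hL
  have hone : ∀ g : Multiplicative M, MonoidAlgebra.single g (1 : K) - 1 ∈ L := by
    intro g
    set mk' := Ideal.Quotient.mk L
    have h1 : Kills I₀ ((mk'.comp MonoidAlgebra.singleOneRingHom).comp (algebraMap Γ(X.left, W₀) K))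
        ((mk' : _ →* _).comp (MonoidAlgebra.of K (Multiplicative M))) := by
      intro z hz
      refine Eq.trans ?_ (Ideal.Quotient.eq_zero_iff_mem.mpr
        (Ideal.mem_map_of_mem (MonoidAlgebra.mapRingHom (Multiplicative M) (algebraMap Γ(X.left, W₀) K)) hz))
      rw [RingHom.comp_assoc, evalAt_comp]
      congr 1
      have : evalAt ((MonoidAlgebra.singleOneRingHom (R := K) (M := Multiplicative M)).comp
          (algebraMap Γ(X.left, W₀) K)) (MonoidAlgebra.of K (Multiplicative M)) =
          MonoidAlgebra.mapRingHom (Multiplicative M) (algebraMap Γ(X.left, W₀) K) := by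
        refine MonoidAlgebra.ringHom_ext (fun r => ?_) fun m => ?_
        · simp [evalAt_single]
        · simp [evalAt_single]
      rw [this]
    have h2 := (hkill₀ _ _ _).mp h1 g (htop g)
    rw [← Ideal.Quotient.eq_zero_iff_mem, map_sub, map_one, sub_eq_zero]
    exact h2
  have hclear : ∀ g : Multiplicative M, ∃ f : Γ(X.left, W₀), f ≠ 0 ∧
      MonoidAlgebra.single g f - MonoidAlgebra.single 1 f ∈ I₀ := by
    intro g
    obtain ⟨f, hf, z, hz, hza⟩ := exists_smul_mem I₀ _ (hone g)
    refine ⟨f, hf, ?_⟩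
    convert hz using 1
    have hinj : Function.Injective
        (MonoidAlgebra.mapRingHom (Multiplicative M) (algebraMap Γ(X.left, W₀) K)) := by
      intro s t hst
      refine MonoidAlgebra.coeff_injective (Finsupp.ext fun c => IsFractionRing.injective _ K ?_)
      have h := congrArg (fun w : MonoidAlgebra K _ => w.coeff c) hst
      simp only [MonoidAlgebra.coeff_mapRingHom] at h
      exact h
    apply hinj
    rw [hza, map_sub, MonoidAlgebra.mapRingHom_single, MonoidAlgebra.mapRingHom_single, mul_sub, _root_.mul_one,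
      MonoidAlgebra.single_mul_single, _root_.one_mul, _root_.mul_one]
  choose fg hfg hfgI using hclear
  set gen : Fin r → Multiplicative M := fun i => Multiplicative.ofAdd (hr.symm (Pi.single i 1))
  set f := ∏ i, fg (gen i)
  have hf : f ≠ 0 := Finset.prod_ne_zero_iff.mpr fun i _ => hfg _
  refine ⟨X.left.basicOpen f, ?_, fun x hx S g hg => ?_⟩
  · refine (X.left.basicOpen f).isOpen.dense ?_
    by_contra hne
    rw [Set.not_nonempty_iff_eq_empty] at hne
    exact hf ((basicOpen_eq_bot_iff f).mp (TopologicalSpace.Opens.coe_eq_empty.mp hne))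
  have hxW : x.left (IsLocalRing.closedPoint k) ∈ W₀ := X.left.basicOpen_le f hx
  set xl : Spec (CommRingCat.of k) ⟶ X.left := x.left
  have hrange : Set.range xl ⊆ Set.range hW₀.fromSpec := by
    rintro _ ⟨p, rfl⟩
    rw [hW₀.range_fromSpec, Subsingleton.elim p (IsLocalRing.closedPoint k)]
    exact hxW
  obtain ⟨σx, hσx⟩ := Spec.map_surjective (IsOpenImmersion.lift hW₀.fromSpec xl hrange)
  have hσ : Spec.map (CommRingCat.ofHom σx.hom) ≫ hW₀.fromSpec = xl := by
    change Spec.map σx ≫ _ = _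
    rw [hσx, IsOpenImmersion.lift_fac]
  have hunit : σx.hom f ≠ 0 := by
    intro h0
    have h2 : (Spec.map σx ≫ hW₀.fromSpec) (IsLocalRing.closedPoint k) ∈ X.left.basicOpen f := by
      rw [hσx, IsOpenImmersion.lift_fac]
      exact hx
    have h1 : (Spec.map σx) (IsLocalRing.closedPoint k) ∈ hW₀.fromSpec ⁻¹ᵁ X.left.basicOpen f := h2
    rw [hW₀.fromSpec_preimage_basicOpen] at h1
    refine h1 ?_
    change σx.hom f ∈ (IsLocalRing.closedPoint k).asIdeal
    rw [h0]
    exact Ideal.zero_mem _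
  apply Over.OverMorphism.ext
  refine Scheme.hom_ext_of_forall _ _ fun P => ?_
  obtain ⟨V, hV, hPV, -⟩ := exists_isAffineOpen_mem_and_subset (show P ∈ (⊤ : S.left.Opens) from trivial)
  refine ⟨V, hPV, ?_⟩
  rw [← cancel_epi hV.isoSpec.inv]
  set C := Γ(S.left, V)
  set v : Spec (CommRingCat.of C) ⟶ S.left := hV.fromSpec
  have hv : hV.isoSpec.inv ≫ V.ι = v := rfl
  rw [← Category.assoc, ← Category.assoc, hv]
  obtain ⟨hk', hhk'⟩ := Spec.map_surjective (v ≫ S.hom)
  set xC : Spec (CommRingCat.of C) ⟶ X.left := Spec.map (CommRingCat.ofHom (hk'.hom.comp σx.hom)) ≫ hW₀.fromSpec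
  have hxC : xC = (v ≫ S.hom) ≫ xl := by
    change Spec.map (CommRingCat.ofHom (hk'.hom.comp σx.hom)) ≫ _ = _
    rw [CommRingCat.ofHom_comp, Spec.map_comp, Category.assoc, hσ, ← hhk']
    rfl
  have hp : xC ≫ X.hom = v ≫ S.hom := by
    have := Over.w x
    change xl ≫ X.hom = 𝟙 _ at this
    rw [hxC, Category.assoc, this, Category.comp_id]
  let j : Over.mk (xC ≫ X.hom) ⟶ S := Over.homMk v hp.symm
  obtain ⟨χ, hχ⟩ := exists_pt e (xC ≫ X.hom) (j ≫ g)
  have hfix : Fix e a χ xC := by
    have e4 : (Over.homMk xC rfl : Over.mk (xC ≫ X.hom) ⟶ X) = j ≫ toUnit S ≫ x := by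
      apply Over.OverMorphism.ext
      change xC = v ≫ S.hom ≫ xl
      rw [hxC, Category.assoc]
    have h5 : (j ≫ lift g (toUnit S ≫ x)) ≫ a.act = j ≫ toUnit S ≫ x :=
      (Category.assoc _ _ _).trans (congrArg (j ≫ ·) hg)
    exact (congrArg₂ (fun p q => lift p q ≫ a.act) hχ e4).trans
      (((congrArg (· ≫ a.act) (comp_lift j _ _)).symm.trans h5).trans e4.symm)
  have hkl := (hk₀ C _ χ).mpr hfix
  have hχ1 : ∀ i, χ (gen i) = 1 := by
    intro i
    have h1 := hkl _ (hfgI (gen i))
    rw [map_sub, evalAt_single, evalAt_single, map_one, _root_.mul_one, ← mul_sub_one] at h1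
    have hu : IsUnit ((hk'.hom.comp σx.hom) (fg (gen i))) := by
      refine IsUnit.map hk'.hom (Ne.isUnit fun h0 => hunit ?_)
      rw [map_prod, Finset.prod_eq_zero (Finset.mem_univ i) h0]
    exact sub_eq_zero.mp (hu.mul_right_eq_zero.mp h1)
  have hχone : χ = 1 := by
    refine MonoidHom.ext fun m => ?_
    set A : (Fin r → ℤ) →+ Additive Cˣ := (MonoidHom.toAdditive χ.toHomUnits).comp
      ((AddEquiv.additiveMultiplicative M).symm.toAddMonoidHom.comp hr.symm.toAddMonoidHom)
    have hA : A = 0 := AddMonoidHom.functions_ext _ _ _ fun i z => by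
      rw [show (Pi.single i z : Fin r → ℤ) = z • Pi.single i 1 by rw [← Pi.single_smul, smul_eq_mul, _root_.mul_one],
        map_zsmul, map_zsmul]
      congr 1
      exact congrArg Additive.ofMul (Units.ext (hχ1 i))
    have := DFunLike.congr_fun hA (hr (Multiplicative.toAdd m))
    change Additive.ofMul (χ.toHomUnits (Multiplicative.ofAdd (hr.symm (hr (Multiplicative.toAdd m))))) =
      Additive.ofMul 1 at this
    rw [AddEquiv.symm_apply_apply] at this
    exact congrArg Units.val (Additive.ofMul.injective this)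
  have h2 : j ≫ g = j ≫ (1 : S ⟶ T) := by
    rw [← hχ, hχone, pt_one, MonObj.comp_one]
  exact congrArg (fun t => t.left) h2

end Main

end GrothLib.TorusGenFree16
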